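import Cfsg.Agent.S2791
import Cfsg.Agent.Lib.Invol.TransferPower

/-!
# Fusion in a Sylow subgroup with a strongly closed abelian subgroup

The normalizer of a strongly closed abelian subgroup `A` of a Sylow subgroup `S` controls fusion in `S`, so a
character of `N(A)` into an abelian group of exponent `p` extends from `S` to the whole group.
-/

set_option autoImplicit false

namespace CfsgLib.SECrit

open Subgroup

variable {G : Type*} [Group G] [Finite G] {p : ℕ} [Fact p.Prime]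

/-- A Sylow subgroup normalizes a subgroup strongly closed in it. -/
theorem sylow_le_normalizer_of_stronglyClosed (S : Sylow p G) {A : Subgroup G}
    (hsc : Cfsg.IsStronglyClosed A (S : Subgroup G)) : (S : Subgroup G) ≤ normalizer (A : Set G) := by
  intro s hs
  rw [mem_normalizer_iff]
  intro a
  refine ⟨fun ha => hsc.2 a ha s (mul_mem (mul_mem hs (hsc.1 ha)) (inv_mem hs)), fun ha => ?_⟩
  have h1 : s⁻¹ * (s * a * s⁻¹) * (s⁻¹)⁻¹ = a := by group
  have h2 := hsc.2 _ ha s⁻¹ (mul_mem (mul_mem (inv_mem hs) (hsc.1 ha)) (inv_mem (inv_mem hs)))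
  rwa [h1] at h2

/-- Subsets of the Sylow subgroup conjugated into it are conjugated the same way by the normalizer of the strongly
closed abelian subgroup. -/
theorem exists_normalizer_fusion (S : Sylow p G) {A : Subgroup G} (hA : IsMulCommutative A)
    (hsc : Cfsg.IsStronglyClosed A (S : Subgroup G)) (X : Set G) (hX : X ⊆ (S : Subgroup G)) (g : G)
    (hg : ∀ x ∈ X, g * x * g⁻¹ ∈ (S : Subgroup G)) :
    ∃ n ∈ normalizer (A : Set G), ∀ x ∈ X, g * x * g⁻¹ = n * x * n⁻¹ := by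
  obtain ⟨T, hAT, hT⟩ := Cfsg.Agent.S2791.result S A hA hsc
  obtain ⟨c, hc⟩ := MulAction.exists_smul_eq G S T
  have hcm : ∀ s ∈ (S : Subgroup G), c * s * c⁻¹ ∈ (T : Subgroup G) := by
    intro s hs
    rw [← hc, Sylow.coe_subgroup_smul, mem_smul_pointwise_iff_exists]
    exact ⟨s, hs, rfl⟩
  have hcA : c ∈ normalizer (A : Set G) := by
    have key : ∀ a ∈ A, c⁻¹ * a * c ∈ A := fun a ha => by
      have h1 : c⁻¹ * a * c⁻¹⁻¹ ∈ (S : Subgroup G) := by
        have h2 := hAT ha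
        rw [← hc, Sylow.coe_subgroup_smul, mem_smul_pointwise_iff_exists] at h2
        obtain ⟨s, hs, e⟩ := h2
        rw [← e, show c⁻¹ * (MulAut.conj c • s) * c⁻¹⁻¹ = s by
          simp [MulAut.smul_def, MulAut.conj_apply, mul_assoc]]
        exact hs
      have := hsc.2 a ha c⁻¹ h1
      simpa using this
    exact CfsgLib.Fusion.conjBy_eq_iff.1 (by
      have h3 : CfsgLib.Fusion.conjBy c⁻¹ A ≤ A := CfsgLib.Fusion.conjBy_le_iff.2 fun a ha => by
        simpa using key a ha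
      exact CfsgLib.Fusion.conjBy_eq_of_le h3) |> fun h => inv_inv c ▸ inv_mem h
  obtain ⟨n, hn, hne⟩ := (hT ((fun x => c * x * c⁻¹) '' X)
    (by rintro _ ⟨x, hx, rfl⟩; exact hcm x (hX hx))).2 (c * g * c⁻¹) (by
      rintro _ ⟨_, ⟨x, hx, rfl⟩, rfl⟩
      simp only [SetLike.mem_coe]
      rw [show c * g * c⁻¹ * (c * x * c⁻¹) * (c * g * c⁻¹)⁻¹ = c * (g * x * g⁻¹) * c⁻¹ by group]
      exact hcm _ (hg x hx))
  refine ⟨c⁻¹ * n * c, mul_mem (mul_mem (inv_mem hcA) hn) hcA, fun x hx => ?_⟩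
  have h4 := hne _ ⟨x, hx, rfl⟩
  calc g * x * g⁻¹ = c⁻¹ * (c * g * c⁻¹ * (c * x * c⁻¹) * (c * g * c⁻¹)⁻¹) * c := by group
    _ = c⁻¹ * (n * (c * x * c⁻¹) * n⁻¹) * c := by rw [h4]
    _ = c⁻¹ * n * c * x * (c⁻¹ * n * c)⁻¹ := by group

/-- A character of the normalizer into an abelian group of exponent `p` extends from the Sylow subgroup to the
group. -/
theorem exists_hom_eq_on_sylow (S : Sylow p G) {A : Subgroup G} (hA : IsMulCommutative A)
    (hsc : Cfsg.IsStronglyClosed A (S : Subgroup G)) {C : Type*} [CommGroup C] (hC : ∀ c : C, c ^ p = 1)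
    (χ : (normalizer (A : Set G) : Subgroup G) →* C) :
    ∃ ψ : G →* C, ∀ (x : G) (_hx : x ∈ (S : Subgroup G)) (hxN : x ∈ normalizer (A : Set G)),
      ψ x = χ ⟨x, hxN⟩ := by
  classical
  have hle := sylow_le_normalizer_of_stronglyClosed S hsc
  set φ : (S : Subgroup G) →* C := χ.comp (inclusion hle) with hφ
  have hinv : ∀ x : G, ∀ hx : x ∈ (S : Subgroup G), ∀ g : G, ∀ hg : g * x * g⁻¹ ∈ (S : Subgroup G),
      φ ⟨g * x * g⁻¹, hg⟩ = φ ⟨x, hx⟩ := by
    intro x hx g hg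
    obtain ⟨n, hn, hne⟩ := exists_normalizer_fusion S hA hsc {x} (Set.singleton_subset_iff.2 hx) g
      (by simpa using hg)
    have e : (inclusion hle ⟨g * x * g⁻¹, hg⟩) = ⟨n, hn⟩ * inclusion hle ⟨x, hx⟩ * (⟨n, hn⟩)⁻¹ :=
      Subtype.ext (by simpa using hne x rfl)
    simp only [hφ, MonoidHom.comp_apply, e, map_mul, map_inv]
    rw [mul_right_comm, mul_inv_cancel, one_mul]
  obtain ⟨r, hr⟩ : ∃ r : ℕ, (S : Subgroup G).index * r % p = 1 := by
    obtain ⟨r, -, hr⟩ := Nat.exists_mul_mod_eq_one_of_coprime (k := p) (n := (S : Subgroup G).index)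
      (((Fact.out : p.Prime).coprime_iff_not_dvd.2 S.not_dvd_index).symm) (Fact.out : p.Prime).one_lt
    exact ⟨r, hr⟩
  refine ⟨(powMonoidHom r).comp (MonoidHom.transfer φ), fun x hx hxN => ?_⟩
  have h1 : MonoidHom.transfer φ x = φ ⟨x, hx⟩ ^ (S : Subgroup G).index :=
    CfsgLib.Invol.transfer_eq_pow_index φ x hx fun k g₀ hk => by
      have h2 := hinv (x ^ k) (pow_mem hx k) g₀⁻¹ (by simpa using hk)
      simp only [inv_inv] at h2
      rw [h2, ← map_pow]
      rfl
  rw [MonoidHom.comp_apply, powMonoidHom_apply, h1, ← pow_mul]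
  conv_lhs => rw [← Nat.mod_add_div ((S : Subgroup G).index * r) p, hr, pow_add, pow_one, pow_mul, hC, one_pow,
    mul_one]
  rfl

end CfsgLib.SECrit
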