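import Cfsg.Agent.Lib.Invol.SECriterion.Closed
import Cfsg.Agent.Lib.Invol.TI
import Cfsg.Prelude.Def_Local
import Cfsg.Prelude.Def_Involutions

/-!
# The strong embedding criterion: where the setting occurs

The hypotheses of the criterion, of a tightly embedded subgroup meeting the conjugate normalizers
oddly, and of the inductive form of the criterion all give the setting `Crit`.
-/

set_option autoImplicit false

namespace CfsgLib.SECrit

open CfsgLib.Invol

variable {G : Type*} [Group G] [Finite G]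

theorem odd_index_of_sylow_le {H : Subgroup G} (S : Sylow 2 G) (hS : (S : Subgroup G) ≤ H) :
    Odd H.index := by
  haveI : Fact (Nat.Prime 2) := ⟨Nat.prime_two⟩
  rw [← Nat.not_even_iff_odd, even_iff_two_dvd]
  exact fun hh => Sylow.not_dvd_index S (hh.trans (Subgroup.index_dvd_of_le hS))

/-- The hypotheses of the criterion give the setting. -/
theorem crit_of_criterion {M : Subgroup G} {z : G} (hz : orderOf z = 2) (hzM : z ∈ M)
    (h1 : ∃ S : Sylow 2 G, z ∈ S ∧ ∀ s ∈ S, Commute s z) (h2 : ∀ g : G, g * z * g⁻¹ ∈ M → g ∈ M)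
    (h3 : ∀ g : G, Commute z (g * z * g⁻¹) → g * z * g⁻¹ ≠ z →
      Subgroup.centralizer ({z * (g * z * g⁻¹)} : Set G) ≤ M) : Crit M z := by
  obtain ⟨S, -, hS⟩ := h1
  exact ⟨hz, hzM, odd_index_of_sylow_le S fun s hs => Subgroup.mem_centralizer_singleton_iff.2 (hS s hs),
    h2, h3⟩

section Tight

variable {Q : Subgroup G}
  (hodd : ∀ g : G, g ∉ Subgroup.normalizer (Q : Set G) →
    Odd (Nat.card ↥(Q.map (MulAut.conj g).toMonoidHom ⊓ Subgroup.normalizer (Q : Set G))))
include hodd

theorem mem_normalizer_of_conj_invol {q k : G} (hq : q ∈ Q) (hqo : orderOf q = 2)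
    (hk : k * q * k⁻¹ ∈ Subgroup.normalizer (Q : Set G)) : k ∈ Subgroup.normalizer (Q : Set G) := by
  by_contra hkN
  refine Nat.not_even_iff_odd.2 (hodd k hkN) (even_card_of_invol_mem ?_ (invol_conj hqo k))
  exact ⟨mem_conj_map.2 (by simpa [mul_assoc] using hq), hk⟩

theorem conj_mem_of_mem_normalizer {q k : G} (hq : q ∈ Q) (hqo : orderOf q = 2)
    (hk : k * q * k⁻¹ ∈ Subgroup.normalizer (Q : Set G)) : k * q * k⁻¹ ∈ Q :=
  (Subgroup.mem_normalizer_iff.1 (mem_normalizer_of_conj_invol hodd hq hqo hk) q).1 hq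

theorem mem_normalizer_of_commute {q c : G} (hq : q ∈ Q) (hqo : orderOf q = 2) (hc : Commute c q) :
    c ∈ Subgroup.normalizer (Q : Set G) := by
  refine mem_normalizer_of_conj_invol hodd hq hqo ?_
  rw [hc.eq, mul_inv_cancel_right]
  exact Subgroup.le_normalizer hq

/-- Involutions of `Q` and of another conjugate of `Q` are conjugate. -/
theorem isConj_invol {d d' g : G} (hd : d ∈ Q) (hdo : orderOf d = 2) (hd' : d' ∈ Q)
    (hd'o : orderOf d' = 2) (hg : g ∉ Subgroup.normalizer (Q : Set G)) :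
    IsConj d d' := by
  set e := g * d' * g⁻¹ with he
  have heo : orderOf e = 2 := invol_conj hd'o g
  refine (Invol.isConj_of_odd hdo heo ?_).trans (isConj_iff.2 ⟨g⁻¹, by rw [he]; group⟩)
  by_contra hno
  have heven := Nat.not_odd_iff_even.1 hno
  set c := (d * e) ^ (orderOf (d * e) / 2) with hc
  have hco : orderOf c = 2 := orderOf_pow_half heven
  have hcd : Commute c d := commute_pow_half (invol_conj_mul hdo heo) heven
  have hce : Commute c e := commute_pow_half (invol_conj_mul' hdo heo) heven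
  have hcN : c ∈ Subgroup.normalizer (Q : Set G) := mem_normalizer_of_commute hodd hd hdo hcd
  have hdcN : d * c ∈ Subgroup.normalizer (Q : Set G) := mul_mem (Subgroup.le_normalizer hd) hcN
  have hdc : d * c ∈ Q := by
    rw [hc, ← zpow_natCast] at hdcN ⊢
    generalize orderOf (d * e) / 2 = n at hdcN ⊢
    rcases Nat.even_or_odd' n with ⟨j, rfl | rfl⟩
    · have e1 : d * (d * e) ^ (((2 * j : ℕ) : ℤ)) =
          (d * e) ^ (-(j : ℤ)) * d * ((d * e) ^ (-(j : ℤ)))⁻¹ := by
        rw [zpow_conj_invol hdo heo]; congr 2; push_cast; ring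
      rw [e1] at hdcN ⊢
      exact conj_mem_of_mem_normalizer hodd hd hdo hdcN
    · have key : ∀ a : G, a ^ (-(j : ℤ)) * (d * a) * (a ^ (-(j : ℤ)))⁻¹
          = a ^ (-(j : ℤ)) * d * (a ^ (-(j : ℤ)))⁻¹ * a := fun a => by group
      have hed : e = d * (d * e) := by rw [← mul_assoc, invol_mul_self hdo, one_mul]
      have e1 : d * (d * e) ^ (((2 * j + 1 : ℕ) : ℤ)) =
          ((d * e) ^ (-(j : ℤ)) * g) * d' * ((d * e) ^ (-(j : ℤ)) * g)⁻¹ := by
        have : ((d * e) ^ (-(j : ℤ)) * g) * d' * ((d * e) ^ (-(j : ℤ)) * g)⁻¹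
            = (d * e) ^ (-(j : ℤ)) * e * ((d * e) ^ (-(j : ℤ)))⁻¹ := by rw [he]; group
        rw [this]
        conv_rhs => arg 1; arg 2; rw [hed]
        rw [key, zpow_conj_invol hdo heo, mul_assoc, ← zpow_add_one]
        congr 2; push_cast; ring
      rw [e1] at hdcN ⊢
      exact conj_mem_of_mem_normalizer hodd hd' hd'o hdcN
  have hcQ : c ∈ Q := by
    have := Q.mul_mem hd hdc
    rwa [← mul_assoc, invol_mul_self hdo, one_mul] at this
  have : g⁻¹ * c * g⁻¹⁻¹ ∈ Subgroup.normalizer (Q : Set G) := by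
    refine mem_normalizer_of_commute hodd hd' hd'o ?_
    show g⁻¹ * c * g⁻¹⁻¹ * d' = d' * (g⁻¹ * c * g⁻¹⁻¹)
    calc g⁻¹ * c * g⁻¹⁻¹ * d' = g⁻¹ * (c * e) * g := by rw [he]; group
      _ = g⁻¹ * (e * c) * g := by rw [hce.eq]
      _ = d' * (g⁻¹ * c * g⁻¹⁻¹) := by rw [he]; group
  exact hg ((inv_mem_iff).1 (mem_normalizer_of_conj_invol hodd hcQ hco this))

variable (hev : Even (Nat.card Q))
include hev

/-- The normalizer of `Q` has odd index. -/
theorem odd_index_normalizer : Odd (Subgroup.normalizer (Q : Set G)).index := by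
  haveI : Fact (Nat.Prime 2) := ⟨Nat.prime_two⟩
  set N := Subgroup.normalizer (Q : Set G) with hN
  obtain ⟨q, hq, hqo⟩ := exists_invol_mem hev
  have hA : IsPGroup 2 (Subgroup.zpowers q) := IsPGroup.of_card (n := 1) (by
    rw [Nat.card_zpowers, hqo, pow_one])
  have hfix : MulAction.fixedPoints (Subgroup.zpowers q) (G ⧸ N) = {((1 : G) : G ⧸ N)} := by
    ext a
    obtain ⟨k, rfl⟩ := QuotientGroup.mk_surjective a
    simp only [MulAction.mem_fixedPoints, Set.mem_singleton_iff]
    constructor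
    · intro hk
      have h1 : q • (k : G ⧸ N) = (k : G ⧸ N) := hk ⟨q, Subgroup.mem_zpowers q⟩
      rw [smul_coe_eq_iff] at h1
      have := mem_normalizer_of_conj_invol hodd hq hqo (k := k⁻¹) (by simpa using h1)
      rw [QuotientGroup.eq, mul_one]
      simpa using this
    · intro hk y
      rw [hk]
      exact (smul_coe_eq_iff _ _).2 (by
        simpa using (Subgroup.zpowers_le.2 (Subgroup.le_normalizer hq) : _ ≤ N) y.2)
  have hmod := hA.card_modEq_card_fixedPoints (G ⧸ N)
  rw [hfix, Nat.card_coe_set_eq, Set.ncard_singleton] at hmod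
  rw [Subgroup.index, Nat.odd_iff]
  exact hmod

/-- A tightly embedded subgroup meeting the other normalizers oddly gives the setting, for each of
its involutions, unless it is normal. -/
theorem crit_of_tight {g₀ : G} (hg₀ : g₀ ∉ Subgroup.normalizer (Q : Set G)) :
    ∃ z ∈ Q, Crit (Subgroup.normalizer (Q : Set G)) z := by
  haveI : Fact (Nat.Prime 2) := ⟨Nat.prime_two⟩
  set N := Subgroup.normalizer (Q : Set G) with hN
  have hidx := odd_index_normalizer hodd hev
  obtain ⟨S⟩ := (inferInstance : Nonempty (Sylow 2 N))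
  set T := (S : Subgroup N).map N.subtype with hT
  have hTp : IsPGroup 2 T := S.2.map _
  have hTidx : Odd T.index := by
    rw [hT, Subgroup.index_map_subtype]
    exact Odd.mul (by rw [← Nat.not_even_iff_odd, even_iff_two_dvd]; exact Sylow.not_dvd_index S) hidx
  let X := {t : Q // t * t = 1 ∧ t ≠ 1}
  letI : MulAction T X :=
    { smul := fun x t => ⟨⟨(x : G) * t.1.1 * (x : G)⁻¹,
        (Subgroup.mem_normalizer_iff.1 (Subgroup.map_subtype_le (S : Subgroup N) x.2) t.1.1).1 t.1.2⟩,
        Subtype.ext (show (x : G) * t.1.1 * (x : G)⁻¹ * ((x : G) * t.1.1 * (x : G)⁻¹) = 1 by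
          have := congrArg Subtype.val t.2.1
          simp only [Subgroup.coe_mul, Subgroup.coe_one] at this
          calc (x : G) * t.1.1 * (x : G)⁻¹ * ((x : G) * t.1.1 * (x : G)⁻¹)
              = (x : G) * (t.1.1 * t.1.1) * (x : G)⁻¹ := by group
            _ = 1 := by rw [this, mul_one, mul_inv_cancel]),
        fun hh => t.2.2 (Subtype.ext (conj_eq_one_iff.1 (congrArg Subtype.val hh)))⟩
      one_smul := fun t => Subtype.ext (Subtype.ext
        (show ((1 : T) : G) * t.1.1 * ((1 : T) : G)⁻¹ = t.1.1 by simp))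
      mul_smul := fun x y t => Subtype.ext (Subtype.ext (show ((x * y : T) : G) * t.1.1 *
        ((x * y : T) : G)⁻¹ = (x : G) * ((y : G) * t.1.1 * (y : G)⁻¹) * (x : G)⁻¹ by simp [mul_assoc])) }
  have hX : ¬ 2 ∣ Nat.card X := by
    have h1 : Even (Nat.card {t : Q // t * t = 1}) := even_card_sq_eq_one hev
    have h2 : Nat.card {t : Q // t * t = 1} = Nat.card X + 1 := by
      rw [← Finite.card_option]
      exact Nat.card_eq_of_bijective
        (fun t : {t : Q // t * t = 1} =>
          open Classical in if h : t.1 = 1 then (none : Option X) else some ⟨t.1, t.2, h⟩)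
        ⟨fun s t hst => by
          by_cases hs : s.1 = 1 <;> by_cases ht : t.1 = 1 <;> simp only [hs, ht, dite_true, dite_false] at hst
          · exact Subtype.ext (hs.trans ht.symm)
          · exact absurd hst (by simp)
          · exact absurd hst (by simp)
          · exact Subtype.ext (congrArg (fun o : Option X => o.elim (1 : Q) (fun x => x.1)) hst),
        fun o => by
          cases o with
          | none => exact ⟨⟨1, one_mul 1⟩, by simp⟩
          | some t => exact ⟨⟨t.1, t.2.1⟩, by simp [t.2.2]⟩⟩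
    rw [h2, Nat.even_add_one] at h1
    exact fun hh => h1 (even_iff_two_dvd.2 hh)
  obtain ⟨⟨⟨z, hzQ⟩, hz1, hz2⟩, hzfix⟩ := hTp.nonempty_fixed_point_of_prime_not_dvd_card X hX
  have hzo : orderOf z = 2 :=
    invol_iff.2 ⟨congrArg Subtype.val hz1, fun hh => hz2 (Subtype.ext hh)⟩
  refine ⟨z, hzQ, ⟨hzo, Subgroup.le_normalizer hzQ, ?_, fun g hg =>
    mem_normalizer_of_conj_invol hodd hzQ hzo hg, ?_⟩⟩
  · refine Odd.of_dvd_nat hTidx (Subgroup.index_dvd_of_le fun x hx => ?_)
    rw [Subgroup.mem_centralizer_singleton_iff]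
    have := congrArg (fun t : X => t.1.1) (hzfix ⟨x, hx⟩)
    exact mul_inv_eq_iff_eq_mul.1 (show x * z * x⁻¹ = z from this)
  · intro g hcomm hne c hc
    have hgN : g * z * g⁻¹ ∈ N := mem_normalizer_of_commute hodd hzQ hzo hcomm.symm
    have heQ := conj_mem_of_mem_normalizer hodd hzQ hzo hgN
    refine mem_normalizer_of_commute hodd (Q.mul_mem hzQ heQ) ?_
      (Subgroup.mem_centralizer_singleton_iff.1 hc)
    have heo := invol_conj hzo g
    rw [invol_iff]
    refine ⟨?_, fun hh => hne ((eq_inv_of_mul_eq_one_left hh).trans (invol_inv heo)).symm⟩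
    rw [mul_assoc, ← mul_assoc (g * z * g⁻¹) z, ← hcomm.eq, mul_assoc z, invol_mul_self heo,
      mul_one, invol_mul_self hzo]

end Tight

/-- The inductive form of the criterion gives the setting. -/
theorem crit_of_local_data (P : Sylow 2 G) {z : G} (hz : orderOf z = 2)
    (hzP : z ∈ (Subgroup.center ↥(P : Subgroup G)).map (P : Subgroup G).subtype) {H : Subgroup G}
    (hi : ∀ g : G, z ∈ H.map (MulAut.conj g).toMonoidHom ↔ g ∈ H)
    (hii : ∀ u : G, orderOf u = 2 → u * z = z * u → ¬ Subgroup.centralizer ({u} : Set G) ≤ H →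
      Cfsg.IsStronglyEmbedded
        (H.subgroupOf (Subgroup.closure {x : G | IsConj z x ∧ x * u = u * x}))) :
    Crit H z := by
  refine ⟨hz, ?_, odd_index_of_sylow_le P fun s hs => ?_, fun g hg => ?_, ?_⟩
  · have h1 := (hi 1).2 H.one_mem
    rw [mem_conj_map] at h1
    simpa using h1
  · obtain ⟨w, hw, rfl⟩ := hzP
    rw [Subgroup.mem_centralizer_singleton_iff]
    exact congrArg Subtype.val (Subgroup.mem_center_iff.1 hw ⟨s, hs⟩)
  · exact (inv_mem_iff).1 ((hi g⁻¹).1 (mem_conj_map.2 (by simpa using hg)))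
  · intro g hcomm hne
    by_contra hle
    have heo := invol_conj hz g
    have huo : orderOf (z * (g * z * g⁻¹)) = 2 := by
      rw [invol_iff]
      refine ⟨?_, fun hh => hne ((eq_inv_of_mul_eq_one_left hh).trans (invol_inv heo)).symm⟩
      rw [mul_assoc, ← mul_assoc (g * z * g⁻¹) z, ← hcomm.eq, mul_assoc z, invol_mul_self heo,
        mul_one, invol_mul_self hz]
    have huz : z * (g * z * g⁻¹) * z = z * (z * (g * z * g⁻¹)) := by
      rw [mul_assoc, ← hcomm.eq]
    have hse := hii _ huo huz hle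
    set u := z * (g * z * g⁻¹) with hu
    set L := Subgroup.closure {x : G | IsConj z x ∧ x * u = u * x} with hL
    have heu : g * z * g⁻¹ * u = u * (g * z * g⁻¹) := by
      rw [hu, ← mul_assoc, ← hcomm.eq, mul_assoc]
    have huL : u ∈ L := mul_mem (Subgroup.subset_closure ⟨IsConj.refl z, huz.symm⟩)
      (Subgroup.subset_closure ⟨isConj_iff.2 ⟨g, rfl⟩, heu⟩)
    have huc : ∀ l ∈ L, l * u = u * l := by
      intro l hl
      have hcl : L ≤ Subgroup.centralizer ({u} : Set G) := (Subgroup.closure_le _).2 fun x hx =>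
        Subgroup.mem_centralizer_singleton_iff.2 hx.2
      exact Subgroup.mem_centralizer_singleton_iff.1 (hcl hl)
    obtain ⟨l, hl⟩ : ∃ l : L, l ∉ H.subgroupOf L := by
      by_contra hh
      push Not at hh
      exact hse.1 (eq_top_iff.2 fun x _ => hh x)
    have huH : (⟨u, huL⟩ : L) ∈ H.subgroupOf L := by
      rw [Subgroup.mem_subgroupOf]
      have h1 : z ∈ H := by
        have h2 := (hi 1).2 H.one_mem
        rw [mem_conj_map] at h2
        simpa using h2
      refine H.mul_mem h1 ?_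
      have h3 : z ∈ H.map (MulAut.conj (g * z * g⁻¹)).toMonoidHom := mem_conj_map.2 (by
        rw [invol_inv heo, ← hcomm.eq, mul_assoc, invol_mul_self heo, mul_one]; exact h1)
      exact (hi _).1 h3
    refine Nat.not_even_iff_odd.2 (hse.2.2 l hl) (even_card_of_invol_mem (t := ⟨u, huL⟩)
      ⟨huH, mem_conj_map.2 ?_⟩ (by rw [Subgroup.orderOf_mk]; exact huo))
    have e1 : l⁻¹ * (⟨u, huL⟩ : L) * l = ⟨u, huL⟩ := Subtype.ext (by
      show (l : G)⁻¹ * u * l = u
      rw [mul_assoc, ← huc _ l.2, inv_mul_cancel_left])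
    rw [e1]; exact huH

end CfsgLib.SECrit
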