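import Cfsg.Agent.Lib.Invol.SECriterion.Transfer
import Mathlib.GroupTheory.Perm.Sign
import Mathlib.GroupTheory.Perm.Cycle.Type

/-!
# The strong embedding criterion: Thompson's argument inside `M`

If two commuting conjugates of `z` exist, every character of `M` with values `±1` is trivial on all
of them, so it is enough to find a subgroup of `M` of index twice an odd number without a conjugate
of `x`: then `x` is outside the normal closure of `z`.
-/

set_option autoImplicit false
set_option linter.style.haveILetI false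

namespace CfsgLib.SECrit

open CfsgLib.Invol Subgroup

universe u

variable {G : Type u} [Group G] [Finite G] {M : Subgroup G} {z : G}

namespace Crit

variable (h : Crit M z)
include h

/-- Conjugates of `z` in `M` are conjugate in `M`. -/
theorem exists_mem_conj {d : G} (hd : IsConj z d) (hdM : d ∈ M) : ∃ k ∈ M, k * z * k⁻¹ = d := by
  obtain ⟨k, rfl⟩ := isConj_iff.1 hd
  exact ⟨k, h.fuse k hdM, rfl⟩

/-- Every character with values `±1` is trivial on the conjugates of `z`. -/
theorem char_eq_one (χ : M →* ℤˣ) {d v : G} (hd : IsConj z d) (hv : IsConj z v) (hdM : d ∈ M)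
    (hvM : v ∈ M) (hdv : IsConj z (d * v)) : ∀ c : M, IsConj z (c : G) → χ c = 1 := by
  have key : ∀ c : M, IsConj z (c : G) → χ c = χ ⟨z, h.mem⟩ := by
    intro c hc
    obtain ⟨k, hk, hkc⟩ := h.exists_mem_conj hc c.2
    rw [show c = ⟨k, hk⟩ * ⟨z, h.mem⟩ * (⟨k, hk⟩ : M)⁻¹ from Subtype.ext hkc.symm, map_mul, map_mul,
      map_inv, mul_right_comm, mul_inv_cancel, one_mul]
  intro c hc
  have h1 : χ (⟨d, hdM⟩ * ⟨v, hvM⟩) = χ ⟨z, h.mem⟩ := key _ hdv
  rw [map_mul, key ⟨d, hdM⟩ hd, key ⟨v, hvM⟩ hv] at h1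
  rw [key c hc]
  exact mul_eq_left.1 h1

omit h in
/-- The sign of an involution moving every point. -/
theorem sign_of_free_invol {Z : Type*} [Fintype Z] [DecidableEq Z] (σ : Equiv.Perm Z) (hσ : σ * σ = 1)
    (hfree : ∀ a, σ a ≠ a) (hcard : Fintype.card Z % 4 = 2) : Equiv.Perm.sign σ = -1 := by
  have hsupp : σ.support = Finset.univ := Finset.eq_univ_iff_forall.2 fun a =>
    Equiv.Perm.mem_support.2 (hfree a)
  have hall : ∀ n ∈ σ.cycleType, n = 2 := fun n hn => by
    have h1 := Equiv.Perm.dvd_of_mem_cycleType hn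
    have h2 := Equiv.Perm.two_le_of_mem_cycleType hn
    have h3 : orderOf σ ∣ 2 := orderOf_dvd_of_pow_eq_one (by rw [pow_two, hσ])
    have h4 := Nat.le_of_dvd (by norm_num) (h1.trans h3)
    omega
  rw [Equiv.Perm.sign_of_cycleType]
  have hsum : σ.cycleType.sum = Fintype.card Z := by
    rw [Equiv.Perm.sum_cycleType, hsupp, Finset.card_univ]
  have hrep : σ.cycleType = Multiset.replicate σ.cycleType.card 2 := Multiset.eq_replicate_card.2 hall
  have hn : σ.cycleType.card * 2 = Fintype.card Z := by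
    rw [← hsum]
    conv_rhs => rw [hrep, Multiset.sum_replicate, smul_eq_mul]
  rw [hsum, ← hn]
  refine Odd.neg_one_pow ?_
  rw [Nat.odd_iff]; omega

/-- **Thompson's argument.** A subgroup of `M` of index twice an odd number containing no conjugate
of `x` shows that `x` is outside the normal closure of `z`. -/
theorem not_mem_of_index {x : G} (hx : orderOf x = 2) {d v : G} (hd : IsConj z d) (hv : IsConj z v)
    (hdM : d ∈ M) (hvM : v ∈ M) (hdv : IsConj z (d * v)) (U : Subgroup M) (hidx : U.index % 4 = 2)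
    (hU : ∀ y : M, y ∈ U → ¬ IsConj x (y : G)) : x ∉ normalClosure ({z} : Set G) := by
  classical
  haveI : U.FiniteIndex := ⟨index_ne_zero_of_finite⟩
  letI := Fintype.ofFinite (M ⧸ U)
  set χ : M →* ℤˣ := Equiv.Perm.sign.comp (MulAction.toPermHom M (M ⧸ U)) with hχ
  refine h.not_mem_normalClosure hx χ (h.char_eq_one χ hd hv hdM hvM hdv) fun y hy => ?_
  have hyo : orderOf (y : G) = 2 := by
    obtain ⟨g, hg⟩ := isConj_iff.1 hy
    rw [← hg]; exact invol_conj hx g
  refine sign_of_free_invol _ ?_ ?_ ?_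
  · rw [← map_mul, show y * y = 1 from Subtype.ext (invol_mul_self hyo), map_one]
  · intro a ha
    obtain ⟨k, rfl⟩ := QuotientGroup.mk_surjective a
    change y • (k : M ⧸ U) = (k : M ⧸ U) at ha
    rw [MulAction.Quotient.smul_coe, smul_eq_mul, QuotientGroup.eq, ← inv_mem_iff, mul_inv_rev, inv_inv] at ha
    refine hU _ ha (hy.trans (isConj_iff.2 ⟨(k : G)⁻¹, ?_⟩))
    simp [mul_assoc]
  · rw [← Nat.card_eq_fintype_card]
    exact hidx

omit h in
/-- An index two subgroup of a Sylow subgroup has index twice an odd number. -/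
theorem index_mod_four {S : Sylow 2 M} {U : Subgroup M} (hUS : U ≤ (S : Subgroup M))
    (h2 : U.relIndex (S : Subgroup M) = 2) : U.index % 4 = 2 := by
  haveI : Fact (Nat.Prime 2) := ⟨Nat.prime_two⟩
  rw [← relIndex_mul_index hUS, h2]
  have h1 : ¬ 2 ∣ (S : Subgroup M).index := S.not_dvd_index
  omega

/-- An index two subgroup of a Sylow subgroup of `M` without a conjugate of `x`. -/
theorem not_mem_of_relIndex {x : G} (hx : orderOf x = 2) {d v : G} (hd : IsConj z d) (hv : IsConj z v)
    (hdM : d ∈ M) (hvM : v ∈ M) (hdv : IsConj z (d * v)) (S : Sylow 2 M) (U : Subgroup M)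
    (hUS : U ≤ (S : Subgroup M)) (h2 : U.relIndex (S : Subgroup M) = 2)
    (hU : ∀ y : M, y ∈ U → ¬ IsConj x (y : G)) : x ∉ normalClosure ({z} : Set G) :=
  h.not_mem_of_index hx hd hv hdM hvM hdv U (index_mod_four hUS h2) hU

end Crit

end CfsgLib.SECrit
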