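import Cfsg.Agent.Lib.Invol.SECriterion.Setup

/-!
# The strong embedding criterion: the interface for the centralizer of a bad involution

`x` is an involution fixing two points.  `locGroup z x` is the group generated by the conjugates of
`z` centralizing `x`, `locKer M z x` its subgroup fixing every fixed point of `x`.
-/

set_option autoImplicit false

namespace CfsgLib.SECrit

open CfsgLib.Invol Subgroup

variable {G : Type*} [Group G]

/-- The group generated by the conjugates of `z` centralizing `x`. -/
def locGroup (z x : G) : Subgroup G := closure {d | IsConj z d ∧ Commute x d}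

/-- The elements of `locGroup z x` fixing all fixed points of `x`. -/
def locKer (M : Subgroup G) (z x : G) : Subgroup G :=
  locGroup z x ⊓ ⨅ a : {a : G ⧸ M // x • a = a}, MulAction.stabilizer G a.1

theorem mem_locKer {M : Subgroup G} {z x k : G} :
    k ∈ locKer M z x ↔ k ∈ locGroup z x ∧ ∀ a : G ⧸ M, x • a = a → k • a = a := by
  simp [locKer, Subgroup.mem_iInf]

theorem commute_of_mem_locGroup {z x g : G} (hg : g ∈ locGroup z x) : Commute x g := by
  induction hg using closure_induction with
  | mem d hd => exact hd.2
  | one => exact Commute.one_right x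
  | mul a b _ _ iha ihb => exact iha.mul_right ihb
  | inv a _ iha => exact iha.inv_right

/-- No element of odd order fixing all fixed points of an involution with two fixed points, and
centralizing it, is inverted by a conjugate of `z` centralizing that involution. -/
def TWeak (M : Subgroup G) (z : G) : Prop :=
  ∀ (x d w : G) (p q : G ⧸ M), orderOf x = 2 → p ≠ q → x • p = p → x • q = q → IsConj z d → Commute x d →
    Odd (orderOf w) → Commute x w → (∀ a : G ⧸ M, x • a = a → w • a = a) → d * w * d⁻¹ = w⁻¹ → w = 1

/-- What the rest of the proof uses about the centralizer of a bad involution. -/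
structure Local (M : Subgroup G) (z x : G) : Prop where
  /-- the kernel is central -/
  ker_comm : ∀ k ∈ locKer M z x, ∀ g ∈ locGroup z x, Commute k g
  /-- two conjugates of `z` centralizing `x` are equal if they are equal modulo the kernel -/
  eq_of_ker : ∀ d e : G, IsConj z d → IsConj z e → Commute x d → Commute x e →
    d⁻¹ * e ∈ locKer M z x → d = e
  /-- conjugates of `z` centralizing `x` at the same point commute -/
  comm_at : ∀ (d e : G) (p : G ⧸ M), IsConj z d → IsConj z e → Commute x d → Commute x e →
    d • p = p → e • p = p → Commute d e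
  /-- every involution of the quotient by the kernel is a conjugate of `z` -/
  lift_invol : ∀ u ∈ locGroup z x, u * u ∈ locKer M z x → u ∉ locKer M z x →
    ∃ d : G, IsConj z d ∧ Commute x d ∧ d⁻¹ * u ∈ locKer M z x
  /-- with two commuting conjugates, a two-group modulo the kernel is regular off each fixed point -/
  regular : (∃ d e : G, IsConj z d ∧ IsConj z e ∧ Commute x d ∧ Commute x e ∧ Commute d e ∧ d ≠ e) →
    ∀ p : G ⧸ M, x • p = p → ∃ Q : Subgroup G, Q ≤ locGroup z x ∧ locKer M z x ≤ Q ∧
      (∀ g ∈ Q, g • p = p) ∧ (∀ g ∈ Q, ∃ k : ℕ, g ^ (2 ^ k) ∈ locKer M z x) ∧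
      (∀ d : G, IsConj z d → Commute x d → d • p = p → d ∈ Q) ∧
      (∀ c : G, Commute x c → c • p = p → ∀ g ∈ Q, c * g * c⁻¹ ∈ Q) ∧
      (∀ a b : G ⧸ M, x • a = a → x • b = b → a ≠ p → b ≠ p → ∃ g ∈ Q, g • a = b) ∧
      (∀ g ∈ Q, ∀ a : G ⧸ M, x • a = a → a ≠ p → g • a = a → g ∈ locKer M z x)

end CfsgLib.SECrit
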