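import Cfsg.Agent.Lib.Invol.SECriterion.Sigma
import Cfsg.Agent.Lib.Invol.SECriterion.LocalDefs

/-!
# The strong embedding criterion: the conjugates of `z` at one point form an elementary group

Lemma W, SIGMA and the pure chain in the setting of the criterion, given the local structure of the
bad involutions and that a bad involution and a conjugate of `z` at one point generate a two-group.
-/

set_option autoImplicit false
set_option linter.style.haveILetI false

namespace CfsgLib.SECrit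

open CfsgLib.Invol Subgroup

variable {G : Type*} [Group G] [Finite G] {M : Subgroup G} {z : G}

/-- A bad involution: one fixing two points. -/
def IsBad (M : Subgroup G) (x : G) : Prop :=
  orderOf x = 2 ∧ ∃ p q : G ⧸ M, p ≠ q ∧ x • p = p ∧ x • q = q

namespace Crit

variable (h : Crit M z) (hfree : ∀ c : G, orderOf c = 2 → ∃ a : G ⧸ M, c • a ≠ a)
include h hfree

/-- An involution fixing one point only is a conjugate of `z`. -/
theorem isConj_of_unique_fix {c : G} (hc : orderOf c = 2)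
    (h1 : ∀ a b : G ⧸ M, c • a = a → c • b = b → a = b) : IsConj z c := by
  obtain ⟨b, hb⟩ := hfree c hc
  obtain ⟨e, he, heb⟩ := h.exists_fixing b
  have heo := h.orderOf_conj he
  by_cases hodd : Odd (orderOf (e * c))
  · exact he.trans (Invol.isConj_of_odd heo hc hodd)
  have heven := Nat.not_odd_iff_even.1 hodd
  set k := (e * c) ^ (orderOf (e * c) / 2) with hk
  have hke : Commute k e := commute_pow_half (invol_conj_mul heo hc) heven
  have hkc : Commute k c := commute_pow_half (invol_conj_mul' heo hc) heven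
  have hkb : k • b = b := h.smul_of_commute he hke heb
  have hko : orderOf k = 2 := orderOf_pow_half heven
  haveI : Fact (Nat.Prime 2) := ⟨Nat.prime_two⟩
  obtain ⟨a, ha⟩ := (isPGroup_zpowers_invol hc).nonempty_fixed_point_of_prime_not_dvd_card (G ⧸ M)
    (fun hh => Nat.not_even_iff_odd.2 h.odd_index (even_iff_two_dvd.2 hh))
  have hca : c • a = a := ha ⟨c, mem_zpowers c⟩
  have hab : a ≠ b := fun e' => hb (e' ▸ hca)
  have hka : k • a = a := h1 _ _ (by rw [smul_smul, ← hkc.eq, mul_smul, hca]) hca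
  exact h.isConj_of_single_fix hfree hko hab hka hkb hc hkc h1

end Crit

variable (h : Setup M z)
include h

/-- The product of two commuting conjugates of `z` at one point is a conjugate of `z`. -/
theorem Setup.isConj_mul {d e : G} (hd : IsConj z d) (he : IsConj z e) (hde : Commute d e) (hne : d ≠ e) :
    IsConj z (d * e) := by
  obtain ⟨p, hp⟩ := h.crit.fix_exists hd
  refine h.crit.isConj_of_unique_fix h.hfree ?_ fun a b ha hb => ?_
  · rw [invol_iff]
    refine ⟨?_, fun hh => hne ((eq_inv_of_mul_eq_one_left hh).trans (invol_inv (h.crit.orderOf_conj he)))⟩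
    calc d * e * (d * e) = d * (e * d) * e := by group
      _ = 1 := by
        rw [← hde.eq, ← mul_assoc, invol_mul_self (h.crit.orderOf_conj hd), one_mul,
          invol_mul_self (h.crit.orderOf_conj he)]
  · rw [h.crit.exists_mul_fix hd he hde hne hp ha, h.crit.exists_mul_fix hd he hde hne hp hb]

theorem Setup.exists_ne_point (p : G ⧸ M) : ∃ q : G ⧸ M, q ≠ p := by
  by_contra hh
  push Not at hh
  refine h.ne_top (eq_top_iff.2 fun x _ => ?_)
  have := (hh (x : G ⧸ M)).trans (hh ((1 : G) : G ⧸ M)).symm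
  rw [QuotientGroup.eq, mul_one] at this
  simpa using this

/-- **Lemma W.** An element of odd prime power order centralizing a bad involution `y` and a
conjugate `e` of `z` at `p` commuting with `y` is not inverted by a conjugate of `z` at `p`, if two
conjugates at `p` commute with `y`. -/
theorem Setup.lemma_w (hloc : ∀ x : G, IsBad M x → Local M z x) {p : G ⧸ M} {v y e e' w : G}
    {r a : ℕ} (hv : IsConj z v) (hvp : v • p = p) (hy : orderOf y = 2) {q : G ⧸ M} (hqp : q ≠ p)
    (hyp : y • p = p) (hyq : y • q = q) (he : IsConj z e) (hep : e • p = p) (he' : IsConj z e')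
    (he'p : e' • p = p) (hne : e' ≠ e) (hey : Commute e y) (he'y : Commute e' y) (hr : r.Prime)
    (hr2 : Odd r) (hwp : w • p = p) (hwo : orderOf w = r ^ a) (hw1 : w ≠ 1) (hinv : v * w * v⁻¹ = w⁻¹)
    (hwy : Commute w y) (hwe : Commute w e) : False := by
  haveI : Fact r.Prime := ⟨hr⟩
  have L := hloc y ⟨hy, p, q, hqp.symm, hyp, hyq⟩
  have hcomm : Commute e e' := L.comm_at e e' p he he' hey.symm he'y.symm hep he'p
  have hreg := L.regular ⟨e, e', he, he', hey.symm, he'y.symm, hcomm, hne.symm⟩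
  set K := locKer M z y with hK
  have hKmem : ∀ k ∈ K, k ∈ locGroup z y ∧ ∀ a : G ⧸ M, y • a = a → k • a = a := fun k hk =>
    mem_locKer.1 hk
  have hwS : ∀ a : G ⧸ M, y • a = a → y • (w • a) = w • a := fun a ha => by
    rw [smul_smul, ← hwy.eq, mul_smul, ha]
  -- `w` fixes a second fixed point of `y`
  obtain ⟨Q, hQL, hKQ, hQp, hQ2, -, -, htr, hfix⟩ := hreg p hyp
  have hQy : ∀ g ∈ Q, Commute y g := fun g hg => commute_of_mem_locGroup (hQL hg)
  let S := {a : G ⧸ M // y • a = a ∧ a ≠ p}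
  letI : MulAction Q S :=
    { smul := fun g a => ⟨(g : G) • a.1, by rw [smul_smul, (hQy g g.2).eq, mul_smul, a.2.1], fun hh =>
        a.2.2 (smul_left_cancel (g : G) (hh.trans (hQp g g.2).symm))⟩
      one_smul := fun a => Subtype.ext (one_smul G a.1)
      mul_smul := fun g k a => Subtype.ext (mul_smul (g : G) (k : G) a.1) }
  haveI : MulAction.IsPretransitive Q S := ⟨fun a b => by
    obtain ⟨g, hg, hgb⟩ := htr a.1 b.1 a.2.1 b.2.1 a.2.2 b.2.2
    exact ⟨⟨g, hg⟩, Subtype.ext hgb⟩⟩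
  have hS : ¬ r ∣ Nat.card S := by
    let a0 : S := ⟨q, hyq, hqp⟩
    set St := MulAction.stabilizer Q a0
    have hidx : St.index = Nat.card S := MulAction.index_stabilizer_of_transitive Q a0
    obtain ⟨P⟩ : Nonempty (Sylow r Q) := inferInstance
    have hle : (P : Subgroup Q) ≤ St := by
      intro g hg
      obtain ⟨i, hi⟩ := P.2 ⟨g, hg⟩
      obtain ⟨k, hk⟩ := hQ2 g g.2
      have hi' : (g : G) ^ r ^ i = 1 := congrArg (fun t : (P : Subgroup Q) => ((t : Q) : G)) hi
      refine MulAction.mem_stabilizer_iff.2 (Subtype.ext ((hKmem g ?_).2 q hyq))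
      have hcop : Nat.Coprime (2 ^ k) (orderOf (g : G)) :=
        ((Nat.coprime_pow_primes k i Nat.prime_two hr fun e2 => Nat.not_even_iff_odd.2 hr2
          (e2 ▸ even_two))).coprime_dvd_right (orderOf_dvd_of_pow_eq_one hi')
      obtain ⟨m, hm⟩ := exists_pow_eq_self_of_coprime hcop
      rw [← hm]
      exact pow_mem hk m
    rw [← hidx]
    exact fun hh => P.not_dvd_index (hh.trans (Subgroup.index_dvd_of_le hle))
  letI : MulAction (zpowers w) S :=
    { smul := fun g a => ⟨(g : G) • a.1, by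
        have hgy : Commute (g : G) y := by
          obtain ⟨i, hi⟩ := mem_zpowers_iff.1 g.2
          rw [← hi]; exact hwy.zpow_left i
        rw [smul_smul, ← hgy.eq, mul_smul, a.2.1], fun hh =>
        a.2.2 (smul_left_cancel (g : G) (hh.trans (MulAction.mem_stabilizer_iff.1
          (zpowers_le.2 (MulAction.mem_stabilizer_iff.2 hwp) g.2)).symm))⟩
      one_smul := fun a => Subtype.ext (one_smul G a.1)
      mul_smul := fun g k a => Subtype.ext (mul_smul (g : G) (k : G) a.1) }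
  obtain ⟨⟨β, hyβ, hβp⟩, hβfix⟩ := (IsPGroup.of_card (n := a) (by rw [Nat.card_zpowers, hwo]) :
    IsPGroup r (zpowers w)).nonempty_fixed_point_of_prime_not_dvd_card S hS
  have hwβ : w • β = β := congrArg Subtype.val (hβfix ⟨w, mem_zpowers w⟩)
  -- a third fixed point
  set γ := e • β with hγ
  have hyγ : y • γ = γ := by rw [hγ, smul_smul, ← hey.eq, mul_smul, hyβ]
  have hwγ : w • γ = γ := by rw [hγ, smul_smul, hwe.eq, mul_smul, hwβ]
  have hγβ : γ ≠ β := fun hh => hβp (h.crit.fix_unique he hh hep)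
  have hγp : γ ≠ p := fun hh => hβp (smul_left_cancel e (hh.trans hep.symm))
  obtain ⟨Q', hQL', hKQ', hQp', hQ2', -, hQinv', htr', hfix'⟩ := hreg β hyβ
  obtain ⟨g, hg, hgγ⟩ := htr' p γ hyp hyγ hβp.symm hγβ
  -- `w` commutes with `g` modulo the kernel
  have hwg : w * g * w⁻¹ ∈ Q' := hQinv' w hwy.symm hwβ g hg
  have hk : g⁻¹ * (w * g * w⁻¹) ∈ K := by
    refine hfix' _ (mul_mem (inv_mem hg) hwg) p hyp hβp.symm ?_
    rw [mul_smul, mul_smul, mul_smul, inv_smul_eq_iff.2 hwp.symm, hgγ, hwγ, inv_smul_eq_iff, hgγ]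
  have hgK : g ∉ K := fun hh => hγp (by rw [← hgγ]; exact (hKmem g hh).2 p hyp)
  obtain ⟨N, hN⟩ := hQ2' g hg
  classical
  have hex : ∃ i : ℕ, g ^ 2 ^ i ∈ K := ⟨N, hN⟩
  have h0 : Nat.find hex ≠ 0 := fun e0 => hgK (by
    have := Nat.find_spec hex
    rwa [e0, pow_zero, pow_one] at this)
  obtain ⟨i, hi⟩ := Nat.exists_eq_add_one_of_ne_zero h0
  set u := g ^ 2 ^ i with hu
  have huK : u ∉ K := fun hh => Nat.find_min hex (by omega) hh
  have huu : u * u ∈ K := by
    rw [hu, ← pow_add, ← two_mul, ← pow_succ', ← hi]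
    exact Nat.find_spec hex
  have huQ : u ∈ Q' := pow_mem hg _
  obtain ⟨d, hd, hdy, hdu⟩ := L.lift_invol u (hQL' huQ) huu huK
  have hdQ : d ∈ Q' := by
    have := mul_mem huQ (inv_mem (hKQ' hdu))
    rwa [show u * (d⁻¹ * u)⁻¹ = d by group] at this
  have hdβ : d • β = β := hQp' d hdQ
  have hwK : ∀ k ∈ K, w * k * w⁻¹ ∈ K := by
    intro k hk'
    rw [hK, mem_locKer]
    refine ⟨?_, fun b hb => ?_⟩
    · have hmap : (locGroup z y).map (MulAut.conj w).toMonoidHom ≤ locGroup z y := by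
        rw [locGroup, MonoidHom.map_closure, closure_le]
        rintro _ ⟨d, ⟨hd1, hd2⟩, rfl⟩
        refine subset_closure ⟨hd1.trans (isConj_iff.2 ⟨w, rfl⟩), ?_⟩
        exact (hwy.symm.mul_right hd2).mul_right hwy.symm.inv_right
      exact hmap ⟨k, (hKmem k hk').1, rfl⟩
    · have hwinv : y • (w⁻¹ • b) = w⁻¹ • b := by
        rw [smul_smul, ← hwy.inv_left.eq, mul_smul, hb]
      rw [mul_smul, mul_smul, (hKmem k hk').2 _ hwinv, smul_inv_smul]
  have hwd : w * d * w⁻¹ = d := by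
    refine (L.eq_of_ker d _ hd (hd.trans (isConj_iff.2 ⟨w, rfl⟩)) hdy
      ((hwy.symm.mul_right hdy).mul_right hwy.symm.inv_right) ?_).symm
    have hk2 : (g⁻¹ * (w * g * w⁻¹)) ^ 2 ^ i ∈ K := pow_mem hk _
    have hcg : Commute g (g⁻¹ * (w * g * w⁻¹)) := (L.ker_comm _ hk g (hQL' hg)).symm
    have e1 : w * u * w⁻¹ = u * (g⁻¹ * (w * g * w⁻¹)) ^ 2 ^ i := by
      rw [hu, ← conj_pow, ← hcg.mul_pow, mul_inv_cancel_left]
    have e2 : d⁻¹ * (w * d * w⁻¹) =
        d⁻¹ * (w * u * w⁻¹) * (w * (d⁻¹ * u)⁻¹ * w⁻¹) := by group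
    rw [e2, e1]
    refine mul_mem ?_ (hwK _ (inv_mem hdu))
    rw [← mul_assoc]
    exact mul_mem hdu hk2
  have hwd' : Commute w d := mul_inv_eq_iff_eq_mul.1 hwd
  -- the midpoint
  obtain ⟨t, ht, htd⟩ := exists_conj_eq_of_odd (h.crit.orderOf_conj hv) (h.crit.orderOf_conj hd)
    (h.crit.odd_mul hv hd hvp hdβ hβp.symm)
  let N' : Subgroup G :=
    { carrier := {t | t * w * t⁻¹ = w ∨ t * w * t⁻¹ = w⁻¹}
      one_mem' := Or.inl (by simp)
      mul_mem' := by
        intro a b ha hb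
        have e : a * b * w * (a * b)⁻¹ = a * (b * w * b⁻¹) * a⁻¹ := by group
        have e' : a * w⁻¹ * a⁻¹ = (a * w * a⁻¹)⁻¹ := by group
        rcases ha with ha | ha <;> rcases hb with hb | hb <;> simp only [Set.mem_setOf_eq] <;>
          rw [e, hb]
        · exact Or.inl ha
        · exact Or.inr (by rw [e', ha])
        · exact Or.inr ha
        · exact Or.inl (by rw [e', ha, inv_inv])
      inv_mem' := by
        intro a ha
        simp only [Set.mem_setOf_eq, inv_inv]
        rcases ha with ha | ha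
        · left
          calc a⁻¹ * w * a = a⁻¹ * (a * w * a⁻¹) * a := by rw [ha]
            _ = w := by group
        · right
          calc a⁻¹ * w * a = a⁻¹ * (a * w * a⁻¹)⁻¹ * a := by rw [ha, inv_inv]
            _ = w⁻¹ := by group }
  have hvN : v ∈ N' := Or.inr hinv
  have hdN : d ∈ N' := Or.inl (by rw [← hwd'.eq, mul_inv_cancel_right])
  have htN : t ∈ N' := (zpowers_le.2 (mul_mem hvN hdN)) ht
  have key : w = w⁻¹ := by
    have hdw : d * w * d⁻¹ = w := by rw [← hwd'.eq, mul_inv_cancel_right]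
    rw [← htd] at hdw
    have h3 : t * v * t⁻¹ * w * (t * v * t⁻¹)⁻¹ = t * (v * (t⁻¹ * w * t) * v⁻¹) * t⁻¹ := by group
    rw [h3] at hdw
    have h1' : t⁻¹ * w * t = w ∨ t⁻¹ * w * t = w⁻¹ := by
      have := N'.inv_mem htN
      change t⁻¹ * w * t⁻¹⁻¹ = w ∨ t⁻¹ * w * t⁻¹⁻¹ = w⁻¹ at this
      rwa [inv_inv] at this
    rcases h1' with h1 | h1 <;> rw [h1] at hdw
    · rw [hinv] at hdw
      calc w = t⁻¹ * w * t := h1.symm
        _ = t⁻¹ * (t * w⁻¹ * t⁻¹) * t := by rw [hdw]
        _ = w⁻¹ := by group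
    · rw [show v * w⁻¹ * v⁻¹ = (v * w * v⁻¹)⁻¹ by group, hinv, inv_inv] at hdw
      calc w = t⁻¹ * (t * w * t⁻¹) * t := by group
        _ = t⁻¹ * w * t := by rw [hdw]
        _ = w⁻¹ := h1
  refine hw1 (eq_one_of_odd_of_pow_two (k := 1) (hwo ▸ hr2.pow) ?_)
  rw [pow_one, pow_two]
  nth_rewrite 2 [key]
  rw [mul_inv_cancel]

/-- The conjugates of `z` at one point and the other involutions there satisfy the hypotheses of
SIGMA. -/
theorem Setup.sigmaData (hloc : ∀ x : G, IsBad M x → Local M z x) (p : G ⧸ M) :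
    SigmaData {d : MulAction.stabilizer G p | IsConj z (d : G)}
      {y : MulAction.stabilizer G p | IsBad M (y : G)} := by
  classical
  have hfixp : ∀ d : MulAction.stabilizer G p, (d : G) • p = p := fun d => d.2
  have hsec : ∀ y : G, IsBad M y → y • p = p → ∃ q : G ⧸ M, q ≠ p ∧ y • q = q := by
    rintro y ⟨-, a, b, hab, ha, hb⟩ -
    by_cases hap : a = p
    · exact ⟨b, fun e => hab (hap.trans e.symm), hb⟩
    · exact ⟨a, hap, ha⟩
  have cc : ∀ {a b : MulAction.stabilizer G p}, Commute a b → Commute (a : G) b :=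
    fun hh => congrArg Subtype.val hh
  refine ⟨fun v hv => by rw [← orderOf_coe]; exact h.crit.orderOf_conj hv,
    fun y hy => by rw [← orderOf_coe]; exact hy.1,
    fun v hv g => IsConj.trans hv (isConj_iff.2 ⟨g, rfl⟩), ?_, ?_, ?_, ?_, ?_, ?_⟩
  · intro y hy
    haveI : Fact (Nat.Prime 2) := ⟨Nat.prime_two⟩
    letI : MulAction (zpowers (y : G)) (DAt z p) :=
      { smul := fun x d => ⟨(x : G) * d.1 * (x : G)⁻¹, d.2.1.trans (isConj_iff.2 ⟨x, rfl⟩), by
          have hxp : (x : G) • p = p := MulAction.mem_stabilizer_iff.1 (zpowers_le.2 y.2 x.2)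
          rw [mul_smul, mul_smul, inv_smul_eq_iff.2 hxp.symm, d.2.2, hxp]⟩
        one_smul := fun d => Subtype.ext (show ((1 : zpowers (y : G)) : G) * d.1 *
          ((1 : zpowers (y : G)) : G)⁻¹ = d.1 by simp)
        mul_smul := fun a b d => Subtype.ext (show ((a * b : zpowers (y : G)) : G) * d.1 *
          ((a * b : zpowers (y : G)) : G)⁻¹ = (a : G) * ((b : G) * d.1 * (b : G)⁻¹) * (a : G)⁻¹ by
            simp [mul_assoc]) }
    have hmod := (Crit.isPGroup_zpowers_invol hy.1).card_modEq_card_fixedPoints (DAt z p)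
    have hodd : Odd (Nat.card (DAt z p)) := by rw [card_DAt]; exact h.crit.odd_deg
    have e : Nat.card {u : MulAction.stabilizer G p //
        u ∈ {d : MulAction.stabilizer G p | IsConj z (d : G)} ∧ Commute u y} =
        Nat.card (MulAction.fixedPoints (zpowers (y : G)) (DAt z p)) :=
      Nat.card_congr
        { toFun := fun d => ⟨⟨(d.1 : G), d.2.1, d.1.2⟩, fun x => Subtype.ext (by
            show (x : G) * (d.1 : G) * (x : G)⁻¹ = d.1
            obtain ⟨i, hi⟩ := mem_zpowers_iff.1 x.2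
            rw [← hi, ← ((cc d.2.2).zpow_right i).eq, mul_inv_cancel_right])⟩
          invFun := fun d => ⟨⟨d.1.1, d.1.2.2⟩, d.1.2.1, Subtype.ext (by
            show d.1.1 * (y : G) = (y : G) * d.1.1
            exact (mul_inv_eq_iff_eq_mul.1 (show (y : G) * d.1.1 * (y : G)⁻¹ = d.1.1 from
              congrArg Subtype.val (d.2 ⟨y, mem_zpowers _⟩))).symm)⟩
          left_inv := fun d => rfl
          right_inv := fun d => rfl }
    rw [e, Nat.odd_iff, ← hmod, ← Nat.odd_iff]
    exact hodd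
  · intro y hy u hu v hv huy hvy
    obtain ⟨q, hqp, hq⟩ := hsec y hy (hfixp y)
    obtain ⟨g, hg, hgv⟩ := h.crit.exists_conj_commuting (Crit.isPGroup_zpowers_invol hy.1) hqp.symm
      (Crit.forall_zpowers_fix (hfixp y)) (Crit.forall_zpowers_fix hq) hu hv
      (fun x hx => by obtain ⟨i, rfl⟩ := mem_zpowers_iff.1 hx; exact (cc huy).symm.zpow_left i)
      (fun x hx => by obtain ⟨i, rfl⟩ := mem_zpowers_iff.1 hx; exact (cc hvy).symm.zpow_left i)
    exact ⟨⟨g, h.crit.smul_eq_of_conj hv hgv (hfixp u) (hfixp v)⟩,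
      Subtype.ext (hg _ (mem_zpowers _)).symm.eq, Subtype.ext hgv⟩
  · intro y hy u hu v hv huy hvy
    exact Subtype.ext ((hloc y hy).comm_at u v p hu hv (cc huy).symm (cc hvy).symm (hfixp u)
      (hfixp v)).eq
  · intro u hu v hv hne hc
    exact h.isConj_mul hu hv (cc hc) fun e => hne (Subtype.ext e)
  · intro y hy u hu hc
    obtain ⟨q, hqp, hq⟩ := hsec y hy (hfixp y)
    obtain ⟨o, ho⟩ := h.hfree y hy.1
    obtain ⟨r, s, hrs, hr, hs⟩ := h.crit.exists_two_fix_mul hy.1 hu (cc hc).symm hqp (hq) (hfixp y) ho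
    refine ⟨?_, r, s, hrs, hr, hs⟩
    have huo := h.crit.orderOf_conj hu
    rw [coe_mul, invol_iff]
    refine ⟨?_, fun hh => ?_⟩
    · calc (y : G) * u * (y * u) = y * ((u : G) * y) * u := by group
        _ = 1 := by rw [(cc hc).eq, ← mul_assoc, invol_mul_self hy.1, one_mul, invol_mul_self huo]
    · have e : (y : G) = u := (eq_inv_of_mul_eq_one_left hh).trans (invol_inv huo)
      exact hqp (h.crit.fix_unique hu (e ▸ hq) (hfixp u))
  · rintro v hv y hy e he w r a hr hr2 hw1 hwo hinv hwy hey hwe - ⟨e', he', hne, he'y⟩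
    obtain ⟨q, hqp, hq⟩ := hsec y hy (hfixp y)
    exact h.lemma_w hloc (v := (v : G)) (y := (y : G)) (e := (e : G)) (e' := (e' : G)) (w := (w : G))
      hv (hfixp v) hy.1 hqp (hfixp y) hq he (hfixp e) he' (hfixp e') (fun hh => hne (Subtype.ext hh))
      (cc hey) (cc he'y) hr hr2 (hfixp w) (by rw [orderOf_coe, hwo])
      (fun hh => hw1 (Subtype.ext hh)) (congrArg Subtype.val hinv) (cc hwy) (cc hwe).symm

/-- **(A)**: the conjugates of `z` at one point, with `1`, form a normal elementary abelian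
subgroup of the stabilizer. -/
theorem Setup.exists_pureE (hloc : ∀ x : G, IsBad M x → Local M z x)
    (htwo : ∀ (d x : G) (p : G ⧸ M), IsConj z d → d • p = p → IsBad M x → x • p = p →
      ∃ k : ℕ, (d * x) ^ 2 ^ k = 1)
    (hbad : ∃ x : G, IsBad M x) (p : G ⧸ M) :
    ∃ E : Subgroup G, (∀ g : G, g ∈ E ↔ (IsConj z g ∧ g • p = p) ∨ g = 1) ∧
      (∀ a ∈ E, ∀ b ∈ E, Commute a b) ∧ (∀ a ∈ E, a * a = 1) ∧
      ∀ c : G, c • p = p → ∀ a ∈ E, c * a * c⁻¹ ∈ E := by
  classical
  set J := {d : MulAction.stabilizer G p | IsConj z (d : G)} with hJ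
  set Y := {y : MulAction.stabilizer G p | IsBad M (y : G)} with hY
  have hfixp : ∀ d : MulAction.stabilizer G p, (d : G) • p = p := fun d => d.2
  have hP : PureData J Y := (h.sigmaData hloc p).pureData
    (fun y ⟨hy, a, b, hab, ha, hb⟩ g => by
      refine ⟨by simpa using invol_conj hy (g : G), (g : G) • a, (g : G) • b,
        fun e => hab (smul_left_cancel _ e), ?_, ?_⟩ <;>
      · simp only [coe_mul, coe_inv, mul_smul, inv_smul_smul]
        first | rw [ha] | rw [hb])
    (fun v hv y hy => by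
      obtain ⟨k, hk⟩ := htwo v y p hv (hfixp v) hy (hfixp y)
      exact ⟨k, Subtype.ext (by rw [SubmonoidClass.coe_pow]; exact hk)⟩)
  -- one class
  have hclass : ∀ u ∈ J, ∀ v ∈ J, ∃ g : MulAction.stabilizer G p, g * u * g⁻¹ = v := by
    intro u hu v hv
    obtain ⟨q, hq⟩ := h.exists_ne_point p
    obtain ⟨e, he, heq⟩ := h.crit.exists_fixing q
    obtain ⟨g1, -, hg1⟩ := h.crit.exists_midpoint hu he (hfixp u) heq hq.symm
    obtain ⟨g2, -, hg2⟩ := h.crit.exists_midpoint he hv heq (hfixp v) hq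
    have hg : g2 * g1 * (u : G) * (g2 * g1)⁻¹ = v := by rw [← hg2, ← hg1]; group
    exact ⟨⟨g2 * g1, h.crit.smul_eq_of_conj hv hg (hfixp u) (hfixp v)⟩, Subtype.ext hg⟩
  have hmeet : ∃ u ∈ J, ∃ y ∈ Y, Commute u y := by
    obtain ⟨x, hx, a, b, hab, ha, hb⟩ := hbad
    obtain ⟨g, hg⟩ := MulAction.exists_smul_eq G a p
    have hy : IsBad M (g * x * g⁻¹) := ⟨invol_conj hx g, g • a, g • b,
      fun e => hab (smul_left_cancel g e), by rw [mul_smul, mul_smul, inv_smul_smul, ha],
      by rw [mul_smul, mul_smul, inv_smul_smul, hb]⟩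
    have hyp : (g * x * g⁻¹) • p = p := by rw [← hg, mul_smul, mul_smul, inv_smul_smul, ha]
    obtain ⟨d, hd, hdp, hc⟩ := h.crit.exists_commuting_invol hy.1 hyp
    exact ⟨⟨d, hdp⟩, hd, ⟨_, hyp⟩, hy, Subtype.ext hc.symm.eq⟩
  have hall : ∀ x : MulAction.stabilizer G p, orderOf x = 2 → x ∈ J ∨ x ∈ Y := by
    intro x hx
    rw [← orderOf_coe] at hx
    by_cases h1 : ∀ a b : G ⧸ M, (x : G) • a = a → (x : G) • b = b → a = b
    · exact Or.inl (h.crit.isConj_of_unique_fix h.hfree hx h1)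
    · push Not at h1
      obtain ⟨a, b, ha, hb, hab⟩ := h1
      exact Or.inr ⟨hx, a, b, hab, ha, hb⟩
  obtain ⟨E, hEn, hEJ, hEc, hE2⟩ := hP.exists_normal_eq hclass hmeet hall (h.sigmaData hloc p).mul_mem
  refine ⟨E.map (MulAction.stabilizer G p).subtype, fun g => ?_, ?_, ?_, ?_⟩
  · constructor
    · rintro ⟨a, ha, rfl⟩
      change a ∈ (E : Set (MulAction.stabilizer G p)) at ha
      rw [hEJ] at ha
      rcases ha with ha | ha
      · exact Or.inl ⟨ha, a.2⟩
      · exact Or.inr (by rw [Set.mem_singleton_iff.1 ha]; rfl)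
    · rintro (⟨hg, hgp⟩ | rfl)
      · exact ⟨⟨g, hgp⟩, by rw [SetLike.mem_coe, ← SetLike.mem_coe, hEJ]; exact Or.inl hg, rfl⟩
      · exact one_mem _
  · rintro _ ⟨a, ha, rfl⟩ _ ⟨b, hb, rfl⟩
    exact Commute.map (hEc a ha b hb) (MulAction.stabilizer G p).subtype
  · rintro _ ⟨a, ha, rfl⟩
    exact congrArg Subtype.val (hE2 a ha)
  · rintro c hc _ ⟨a, ha, rfl⟩
    exact ⟨_, hEn.conj_mem a ha ⟨c, hc⟩, rfl⟩

end CfsgLib.SECrit
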