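import Cfsg.Agent.Lib.Invol.SECriterion.Closed

/-!
# The strong embedding criterion: a bad involution and its products with conjugates of `z`

If two commuting conjugates of `z` centralize the bad involution `x`, all products of `x` with
conjugates of `z` centralizing it are conjugate to `x`, so have as many fixed points and as many
centralized conjugates of `z`.
-/

set_option autoImplicit false

namespace CfsgLib.SECrit

open CfsgLib.Invol

variable {G : Type*} [Group G] [Finite G] {M : Subgroup G} {z : G}

namespace Crit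

variable (h : Crit M z)
include h

/-- The products of a bad involution with its conjugates of `z` are conjugate to one another. -/
theorem isConj_mul_mul {x d e : G} (hx : orderOf x = 2) {p q : G ⧸ M} (hpq : p ≠ q) (hp : x • p = p)
    (hq : x • q = q) (hd : IsConj z d) (he : IsConj z e) (hxd : Commute x d) (hxe : Commute x e) :
    IsConj (x * d) (x * e) := by
  obtain ⟨u, hu, hue⟩ := h.exists_conj_commuting (isPGroup_zpowers_invol hx) hpq (forall_zpowers_fix hp)
    (forall_zpowers_fix hq) hd he
    (fun y hy => by obtain ⟨i, rfl⟩ := Subgroup.mem_zpowers_iff.1 hy; exact hxd.zpow_left i)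
    (fun y hy => by obtain ⟨i, rfl⟩ := Subgroup.mem_zpowers_iff.1 hy; exact hxe.zpow_left i)
  refine isConj_iff.2 ⟨u, ?_⟩
  rw [← hue, ← mul_assoc u x d, ← (hu x (Subgroup.mem_zpowers x)).eq]; group

/-- **A bad involution is conjugate to its product with any conjugate of `z` centralizing it**, if two
commuting conjugates of `z` centralize it. -/
theorem isConj_mul_member (hfree : ∀ c : G, orderOf c = 2 → ∃ a : G ⧸ M, c • a ≠ a) {x d e c : G}
    (hx : orderOf x = 2) {p q : G ⧸ M} (hpq : p ≠ q) (hp : x • p = p) (hq : x • q = q) (hd : IsConj z d)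
    (he : IsConj z e) (hxd : Commute x d) (hxe : Commute x e) (hde : Commute d e) (hne : d ≠ e)
    (hc : IsConj z c) (hxc : Commute x c) : IsConj x (x * c) := by
  have hdo := h.orderOf_conj hd
  have hf := h.isConj_mul_of_commute hfree hx hpq hp hq hd he hde hne hxd hxe
  obtain ⟨o, ho⟩ := hfree x hx
  obtain ⟨r, s, hrs, hr, hs⟩ := h.exists_two_fix_mul hx hd hxd hpq hp hq ho
  have hyo : orderOf (x * d) = 2 := by
    rw [invol_iff]
    refine ⟨?_, fun hh => ?_⟩
    · rw [mul_assoc, ← mul_assoc d x, ← hxd.eq, mul_assoc x d, invol_mul_self hdo, mul_one, invol_mul_self hx]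
    · have hxd' : x = d := (eq_inv_of_mul_eq_one_left hh).trans (invol_inv hdo)
      exact hpq (h.fix_unique hd (hxd' ▸ hp) (hxd' ▸ hq))
  have hyd : Commute (x * d) d := hxd.mul_left (Commute.refl d)
  have hye : Commute (x * d) e := hxe.mul_left hde
  have h1 := h.isConj_mul_mul hyo hrs hr hs hd he hyd hye
  rw [mul_assoc x d d, invol_mul_self hdo, mul_one, mul_assoc] at h1
  exact h1.trans (h.isConj_mul_mul hx hpq hp hq hf hc (hxd.mul_right hxe) hxc)

/-- Conjugate involutions have as many fixed points. -/
theorem card_fix_of_isConj {x y : G} (hxy : IsConj x y) :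
    Nat.card {a : G ⧸ M // x • a = a} = Nat.card {a : G ⧸ M // y • a = a} := by
  obtain ⟨u, rfl⟩ := isConj_iff.1 hxy
  refine Nat.card_congr ((MulAction.toPerm u).subtypeEquiv fun a => ?_)
  show x • a = a ↔ (u * x * u⁻¹) • (u • a) = u • a
  rw [smul_smul, inv_mul_cancel_right, mul_smul]
  exact ⟨fun e => by rw [e], fun e => smul_left_cancel u e⟩

/-- Conjugate involutions centralize as many conjugates of `z`. -/
theorem card_commuting_of_isConj {x y : G} (hxy : IsConj x y) :
    Nat.card {d : G // IsConj z d ∧ Commute x d} = Nat.card {d : G // IsConj z d ∧ Commute y d} := by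
  obtain ⟨u, rfl⟩ := isConj_iff.1 hxy
  refine Nat.card_congr ((MulAut.conj u).toEquiv.subtypeEquiv fun d => ?_)
  show IsConj z d ∧ Commute x d ↔ IsConj z (u * d * u⁻¹) ∧ Commute (u * x * u⁻¹) (u * d * u⁻¹)
  have hi : IsConj z (u * d * u⁻¹) ↔ IsConj z d :=
    ⟨fun e => e.trans (isConj_iff.2 ⟨u⁻¹, by group⟩), fun e => e.trans (isConj_iff.2 ⟨u, rfl⟩)⟩
  rw [hi]
  exact and_congr_right fun _ => (Commute.conj_iff u).symm

end Crit

end CfsgLib.SECrit
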