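import Mathlib

/-!
# The strong embedding criterion: the arithmetic of the small type

`m = a r` with `a = q - 1`, `r = q j + 1`, and `N - 1 = q s L` with `r (q L - 1) = (s + 1) (q - 1)`:
for `s = q` and `s = q ^ 2` the further points are a two-power in number, for `s = q ^ 3` the case
`q ∣ L` is the one with `L = q`.
-/

set_option autoImplicit false

namespace CfsgLib.SECrit.Types

theorem int_form {q i j n : ℕ} (h : (q * j + 1) * (q * i - 1) + (n + 1) = (n + 1) * q)
    (hi : 1 ≤ q * i) :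
    ((q : ℤ) * j + 1) * ((q : ℤ) * i - 1) = ((n : ℤ) + 1) * ((q : ℤ) - 1) := by
  have h1 : (((q * j + 1) * (q * i - 1) + (n + 1) : ℕ) : ℤ) = (((n + 1) * q : ℕ) : ℤ) := by rw [h]
  push_cast [Nat.cast_sub hi] at h1
  linarith

/-- `s = q`: only `r = q + 1` with `L = 1`. -/
theorem of_one {q i j : ℕ} (hq : 4 ≤ q) (hi : 1 ≤ i) (hj : 1 ≤ j)
    (h : (q * j + 1) * (q * i - 1) + (q + 1) = (q + 1) * q) : i = 1 ∧ j = 1 := by
  have h1 := int_form h (Nat.mul_pos (by omega) hi)
  have key : (q : ℤ) * i * j + i - j = q := by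
    have : (q : ℤ) * ((q : ℤ) * i * j + i - j) = q * q := by linear_combination h1
    exact mul_left_cancel₀ (by omega) this
  obtain rfl : i = 1 := by
    by_contra hne
    have h2 : (2 : ℤ) ≤ i := by omega
    have hq4 : (4 : ℤ) ≤ q := by omega
    have h3 : 2 * (q : ℤ) - 1 ≤ q * i - 1 := by nlinarith
    nlinarith [mul_le_mul h3 (show (1 : ℤ) ≤ j by omega) (by norm_num) (by linarith)]
  refine ⟨rfl, ?_⟩
  push_cast at key
  have : (j : ℤ) * ((q : ℤ) - 1) = q - 1 := by linear_combination key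
  have := mul_right_cancel₀ (b := (q : ℤ) - 1) (by omega) (this.trans (one_mul _).symm)
  omega

/-- `s = q ^ 2`: only `r = q ^ 2 + 1` with `L = 1`. -/
theorem of_two {q i j : ℕ} (hq : 4 ≤ q) (hqe : Even q) (hi : 1 ≤ i) (hj : 1 ≤ j)
    (h : (q * j + 1) * (q * i - 1) + (q ^ 2 + 1) = (q ^ 2 + 1) * q) : i = 1 ∧ j = q := by
  have h1 := int_form h (Nat.mul_pos (by omega) hi)
  push_cast at h1
  have key : (q : ℤ) * i * j + i - j = q * q - q + 1 := by
    have : (q : ℤ) * ((q : ℤ) * i * j + i - j) = q * (q * q - q + 1) := by linear_combination h1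
    exact mul_left_cancel₀ (by omega) this
  obtain rfl : i = 1 := by
    by_contra hne
    have hi2 : (2 : ℤ) ≤ i := by omega
    have hj1 : (1 : ℤ) ≤ j := by omega
    have hq4 : (4 : ℤ) ≤ q := by omega
    rcases lt_trichotomy ((i : ℤ) - j) 1 with hd | hd | hd
    · have hdq : (q : ℤ) ∣ 1 - ((i : ℤ) - j) := ⟨i * j - q + 1, by linear_combination -key⟩
      have := Int.le_of_dvd (by linarith) hdq
      have hjq : (q : ℤ) + 1 ≤ j := by linarith
      nlinarith [mul_le_mul hjq (show 2 * (q : ℤ) - 1 ≤ q * i - 1 by nlinarith) (by linarith) (by linarith)]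
    · have hij : (i : ℤ) * j = q - 1 := mul_left_cancel₀ (show (q : ℤ) ≠ 0 by omega)
        (by linear_combination key - hd)
      have he : (i : ℤ) = j + 1 := by linarith
      rw [he] at hij
      obtain ⟨c, hc⟩ := Int.even_mul_succ_self (j : ℤ)
      obtain ⟨e, he'⟩ := hqe
      have : ((q : ℤ)) = e + e := by exact_mod_cast he'
      have : c + c = e + e - 1 := by rw [← hc, mul_comm, hij, this]
      omega
    · have hdq : (q : ℤ) ∣ ((i : ℤ) - j) - 1 := ⟨q - 1 - i * j, by linear_combination key⟩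
      have := Int.le_of_dvd (by linarith) hdq
      have hiq : (q : ℤ) + 2 ≤ i := by linarith
      nlinarith [mul_le_mul hiq hj1 (by linarith) (by linarith)]
  refine ⟨rfl, ?_⟩
  push_cast at key
  have : (j : ℤ) * ((q : ℤ) - 1) = q * (q - 1) := by linear_combination key
  exact_mod_cast mul_right_cancel₀ (b := (q : ℤ) - 1) (by omega) this

/-- `s = q ^ 3` and `q ∣ L`: only `r = q ^ 2 - q + 1` with `L = q`. -/
theorem of_three_dvd {q i j : ℕ} (hq : 4 ≤ q) (hi : 1 ≤ i) (hdvd : q ∣ i)
    (h : (q * j + 1) * (q * i - 1) + (q ^ 3 + 1) = (q ^ 3 + 1) * q) : i = q ∧ j + 1 = q := by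
  have h1 := int_form h (Nat.mul_pos (by omega) hi)
  push_cast at h1
  obtain ⟨c, rfl⟩ := hdvd
  push_cast at h1
  have hc : 1 ≤ c := Nat.pos_of_ne_zero fun hc0 => by simp [hc0] at hi
  have hq0 : (q : ℤ) ≠ 0 := by omega
  have key : (q : ℤ) * (q * c) * j + q * c - j = q * q * q - q * q + 1 := by
    have : (q : ℤ) * ((q : ℤ) * (q * c) * j + q * c - j) = q * (q * q * q - q * q + 1) := by
      linear_combination h1
    exact mul_left_cancel₀ hq0 this
  obtain ⟨d, hd⟩ : (q : ℤ) ∣ (j : ℤ) + 1 :=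
    ⟨q * c * j + c - q * q + q, by linear_combination -key⟩
  have hd1 : 1 ≤ d := by nlinarith
  have key2 : (c : ℤ) * (q * q * d - q + 1) - d = q * q - q := by
    have : (q : ℤ) * ((c : ℤ) * (q * q * d - q + 1) - d) = q * (q * q - q) := by
      rw [show (j : ℤ) = q * d - 1 by linarith] at key
      linear_combination key
    exact mul_left_cancel₀ hq0 this
  obtain rfl : c = 1 := by
    by_contra hne
    have hc2 : (2 : ℤ) ≤ c := by omega
    nlinarith [mul_le_mul_of_nonneg_right hc2 (show (0 : ℤ) ≤ q * q * d - q + 1 by nlinarith),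
      mul_le_mul_of_nonneg_left hd1 (show (0 : ℤ) ≤ 2 * (q * q) - 1 by nlinarith)]
  push_cast at key2
  have hd' : d = 1 := by
    refine mul_right_cancel₀ (b := (q : ℤ) * q - 1) (by nlinarith) ?_
    linear_combination key2
  subst hd'
  refine ⟨mul_one q, ?_⟩
  have : (j : ℤ) + 1 = q := by linarith
  exact_mod_cast this

end CfsgLib.SECrit.Types
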