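import Cfsg.Agent.Lib.Invol.SECriterion.Rigid
import Cfsg.Agent.Lib.Invol.SECriterion.SameClass
import Cfsg.Agent.Lib.Invol.SECriterion.SmallType.Swaps
import Cfsg.Agent.Lib.Invol.SECriterion.Local.OfComm
import Cfsg.Agent.Lib.Invol.SECriterion.Types

/-!
# The strong embedding criterion: the counts of the small type

`x` is a bad involution at `p` centralizing `a ≥ 2` members there, fixing `f = s + 1` points, `q = a + 1`.
If the two-part of its centralizer at two fixed points is as large as possible, `q * s` divides the number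
of further points and `R * (q * L - 1) = f * a` for `R = m / a`; for `L = 1` all further points are joined
to `p`, so the conjugates of `z` at `p` commute.  This excludes `s = q ^ 2`.
-/

set_option autoImplicit false
set_option linter.style.haveILetI false
set_option linter.unusedSectionVars false

namespace CfsgLib.SECrit

open CfsgLib.Invol Subgroup

universe u

variable {G : Type u} [Group G] [Finite G] {M : Subgroup G} {z : G}

/-- The elements centralizing `x` and fixing `p` and `q`. -/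
abbrev twoPt (x : G) (p q : G ⧸ M) : Subgroup G :=
  centralizer ({x} : Set G) ⊓ MulAction.stabilizer G p ⊓ MulAction.stabilizer G q

omit [Finite G] in
/-- Transport of the members commuting with an involution. -/
theorem card_CAt_conj (x u : G) (p : G ⧸ M) :
    Nat.card (CAt z ({u * x * u⁻¹} : Set G) (u • p)) = Nat.card (CAt z ({x} : Set G) p) := by
  refine (Nat.card_congr ((MulAut.conj u).toEquiv.subtypeEquiv fun d => ?_)).symm
  show _ ↔ IsConj z (u * d * u⁻¹) ∧ (u * d * u⁻¹) • (u • p) = u • p ∧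
    ∀ y ∈ ({u * x * u⁻¹} : Set G), Commute y (u * d * u⁻¹)
  have hi : IsConj z (u * d * u⁻¹) ↔ IsConj z d :=
    ⟨fun e => e.trans (isConj_iff.2 ⟨u⁻¹, by group⟩), fun e => e.trans (isConj_iff.2 ⟨u, rfl⟩)⟩
  simp only [Set.mem_singleton_iff, forall_eq, hi, smul_smul, inv_mul_cancel_right]
  rw [mul_smul, smul_left_cancel_iff, (Commute.conj_iff u (a := x) (b := d))]

variable (h : Setup M z) (hloc : ∀ x : G, IsBad M x → Local M z x) {x : G} (hx : IsBad M x) {p : G ⧸ M}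
  (hxp : x • p = p) (ha : 2 ≤ Nat.card (CAt z ({x} : Set G) p))

include h hloc hx hxp ha

/-- A bad involution with two members at one of its points centralizes a commuting pair. -/
theorem Setup.exists_pair_of_two : ∃ d e : G, IsConj z d ∧ IsConj z e ∧ Commute x d ∧ Commute x e ∧
    Commute d e ∧ d ≠ e := by
  obtain ⟨⟨d, hd, hdp, hdx⟩, ⟨e, he, hep, hex⟩, hne⟩ :=
    (Finite.one_lt_card_iff_nontrivial.1 (show 1 < Nat.card (CAt z ({x} : Set G) p) by omega)).exists_pair_ne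
  exact ⟨d, e, hd, he, hdx x rfl, hex x rfl,
    (hloc x hx).comm_at d e p hd he (hdx x rfl) (hex x rfl) hdp hep, fun e1 => hne (Subtype.ext e1)⟩

/-- The product with a member centralizes as many members. -/
theorem Setup.card_CAt_mul {g : G} (hg : IsConj z g) (hxg : Commute x g) {b : G ⧸ M}
    (hb : (x * g) • b = b) :
    Nat.card (CAt z ({x * g} : Set G) b) = Nat.card (CAt z ({x} : Set G) p) := by
  obtain ⟨r, s, hrs, hr, hs⟩ := hx.2
  obtain ⟨d, e, hd, he, hxd, hxe, hde, hne⟩ := h.exists_pair_of_two hloc hx hxp ha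
  obtain ⟨u, hu⟩ := isConj_iff.1 (h.crit.isConj_mul_member h.hfree hx.1 hrs hr hs hd he hxd hxe hde hne hg hxg)
  have hu' : (x * g) • (u • p) = u • p := by rw [← hu, smul_smul, inv_mul_cancel_right, mul_smul, hxp]
  have hgo : orderOf (x * g) = 2 := hu ▸ invol_conj hx.1 u
  rw [h.crit.card_CAt_eq (A := ({x * g} : Set G))
    (by rw [← zpowers_eq_closure]; exact Crit.isPGroup_zpowers_invol hgo) (a := b) (b := u • p)
    (by rintro y rfl; exact hb) (by rintro y rfl; exact hu')]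
  rw [← hu, card_CAt_conj]

/-- **The counts.** `R` swaps of each moved pair commute with `x`. -/
theorem Setup.exists_swap_count : ∃ R : ℕ, R * Nat.card (CAt z ({x} : Set G) p) = deg M z ∧
    (Nat.card (G ⧸ M) - Nat.card {c : G ⧸ M // x • c = c}) * R =
      Nat.card {c : G ⧸ M // x • c = c} * Nat.card (CAt z ({x} : Set G) p) *
        (Nat.card {c : G ⧸ M // x • c = c} - 1) := by
  classical
  set a := Nat.card (CAt z ({x} : Set G) p) with hadef
  obtain ⟨o, ho⟩ := h.hfree x hx.1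
  have hcs : ∀ c : G ⧸ M, x • c ≠ c → Nat.card (CSwap z ({x} : Set G) c (x • c)) * a = deg M z := by
    intro c hc
    have hxx : x • x • c = c := by rw [smul_smul, invol_mul_self hx.1, one_smul]
    have := h.crit.card_swap_mul (A := (∅ : Set G)) (r := x) (a := c) (b := x • c) hc.symm rfl hxx
      (fun d y hy => absurd hy (Set.notMem_empty y))
      (fun d => by rw [invol_mul_self hx.1]; exact Commute.one_left _) (k := a) fun g => by
        obtain ⟨g, hg, hgc, hgx⟩ := g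
        have hxg : Commute x g := hgx x (Set.mem_insert _ _)
        show Nat.card (CAt z (insert (g * x) ∅) c) = a
        rw [insert_empty_eq, ← hxg.eq]
        exact h.card_CAt_mul hloc hx hxp ha hg hxg (by
          rw [hxg.eq, mul_smul, ← hgc, smul_smul, invol_mul_self (h.crit.orderOf_conj hg), one_smul])
    rw [show Nat.card (CAt z (∅ : Set G) c) = deg M z from by
      rw [← card_DAt (z := z) c]
      exact Nat.card_congr (Equiv.subtypeEquivRight fun d =>
        ⟨fun hd => ⟨hd.1, hd.2.1⟩, fun hd => ⟨hd.1, hd.2, by simp⟩⟩)] at this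
    rwa [insert_empty_eq] at this
  refine ⟨_, hcs o ho, ?_⟩
  set R := Nat.card (CSwap z ({x} : Set G) o (x • o)) with hR
  obtain ⟨r, s, hrs, hr, hs⟩ := hx.2
  obtain ⟨d, e, hd, he, hxd, hxe, hde, hne⟩ := h.exists_pair_of_two hloc hx hxp ha
  -- the members centralizing `x`
  have hD : Nat.card {d : G // IsConj z d ∧ ∀ y ∈ ({x} : Set G), Commute y d} =
      Nat.card {c : G ⧸ M // x • c = c} * a := by
    letI := Fintype.ofFinite {c : G ⧸ M // x • c = c}
    have hA : IsPGroup 2 (Subgroup.closure ({x} : Set G)) := by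
      rw [← zpowers_eq_closure]; exact Crit.isPGroup_zpowers_invol hx.1
    rw [← Nat.card_eq_of_bijective (α := Σ c : {c : G ⧸ M // x • c = c}, CAt z ({x} : Set G) c.1)
      (fun t => ⟨t.2.1, t.2.2.1, t.2.2.2.2⟩) ⟨?_, fun d => ?_⟩, Nat.card_sigma,
      Finset.sum_congr rfl (fun c _ => (h.crit.card_CAt_eq hA (a := c.1) (b := p)
        (by rintro y rfl; exact c.2) (by rintro y rfl; exact hxp) :
        Nat.card (CAt z ({x} : Set G) c.1) = a)), Finset.sum_const, smul_eq_mul,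
      Finset.card_univ, Nat.card_eq_fintype_card]
    · rintro ⟨⟨c, hc⟩, ⟨d, hd⟩⟩ ⟨⟨b, hb⟩, ⟨e, he⟩⟩ hh
      simp only [Subtype.mk.injEq] at hh
      subst hh
      obtain rfl := h.crit.fix_unique hd.1 hd.2.1 he.2.1
      rfl
    · obtain ⟨c, hc⟩ := h.crit.fix_exists d.2.1
      exact ⟨⟨⟨c, h.crit.smul_of_commute d.2.1 (d.2.2 x rfl) hc⟩, ⟨d.1, d.2.1, hc, d.2.2⟩⟩, rfl⟩
  have key := h.crit.moved_mul_eq (A := (∅ : Set G)) (r := x) (Φ := Set.univ)
    (fun _ _ _ _ _ => Set.mem_univ _) (fun _ _ _ _ _ => Set.mem_univ _) (R := R)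
    (f' := Nat.card {c : G ⧸ M // x • c = c}) (fun c _ hc => by
      rw [insert_empty_eq]
      exact Nat.eq_of_mul_eq_mul_right (show 0 < a by omega) ((hcs c hc).trans (hcs o ho).symm))
    (fun g hg hxg => by
      have hxg' : Commute x g := hxg x (Set.mem_insert _ _)
      rw [h.crit.card_fix_of_isConj
        (h.crit.isConj_mul_member h.hfree hx.1 hrs hr hs hd he hxd hxe hde hne hg hxg')]
      exact Nat.card_congr (Equiv.subtypeEquivRight fun c => by simp))
  rw [insert_empty_eq, hD] at key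
  rw [← key]
  congr 1
  have e1 : Nat.card {c : G ⧸ M // c ∈ (Set.univ : Set (G ⧸ M)) ∧ x • c ≠ c} =
      Nat.card {c : G ⧸ M // ¬ x • c = c} := Nat.card_congr (Equiv.subtypeEquivRight fun c => by simp)
  have e2 := Nat.card_congr (Equiv.sumCompl fun c : G ⧸ M => x • c = c)
  rw [Nat.card_sum] at e2
  omega

/-- The members at `p` centralizing `x`, with the identity, are a two-power in number. -/
theorem Setup.exists_card_CAt_pow : ∃ β : ℕ, Nat.card (CAt z ({x} : Set G) p) + 1 = 2 ^ β := by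
  haveI : Fact (Nat.Prime 2) := ⟨Nat.prime_two⟩
  have hcomm : ∀ {a b : G}, IsConj z a ∧ a • p = p ∧ Commute x a → IsConj z b ∧ b • p = p ∧ Commute x b →
      Commute a b := fun ha' hb' => (hloc x hx).comm_at _ _ p ha'.1 hb'.1 ha'.2.2 hb'.2.2 ha'.2.1 hb'.2.1
  let E : Subgroup G :=
    { carrier := insert 1 {g | IsConj z g ∧ g • p = p ∧ Commute x g}
      one_mem' := Set.mem_insert _ _
      inv_mem' := by
        rintro a (rfl | ha')
        · simp
        · rw [invol_inv (h.crit.orderOf_conj ha'.1)]; exact Or.inr ha'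
      mul_mem' := by
        rintro a b (rfl | ha') (rfl | hb')
        · simp
        · rw [one_mul]; exact Or.inr hb'
        · rw [mul_one]; exact Or.inr ha'
        · by_cases e : a = b
          · rw [← e, invol_mul_self (h.crit.orderOf_conj ha'.1)]; exact Or.inl rfl
          · exact Or.inr ⟨h.isConj_mul ha'.1 hb'.1 (hcomm ha' hb') e,
              by rw [mul_smul, hb'.2.1, ha'.2.1], ha'.2.2.mul_right hb'.2.2⟩ }
  have hE : IsPGroup 2 E := fun g => ⟨1, by
    obtain ⟨g, rfl | hg⟩ := g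
    · exact one_pow _
    · exact Subtype.ext (by rw [SubmonoidClass.coe_pow, pow_one, pow_two,
        invol_mul_self (h.crit.orderOf_conj hg.1)]; rfl)⟩
  obtain ⟨β, hβ⟩ := hE.exists_card_eq
  refine ⟨β, ?_⟩
  rw [← hβ]
  show _ = Set.ncard (insert (1 : G) {g : G | IsConj z g ∧ g • p = p ∧ Commute x g})
  rw [Set.ncard_insert_of_notMem ?_ (Set.toFinite _), ← Nat.card_coe_set_eq]
  · exact congrArg (· + 1) (Nat.card_congr (Equiv.subtypeEquivRight fun g => by simp))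
  · rintro ⟨h1, -, -⟩
    exact invol_ne_one (h.crit.orderOf_conj h1) rfl

/-- `q * s` times the centralizer at two points divides the order of the point stabilizer. -/
theorem Setup.dvd_card_stabilizer {q₀ : G ⧸ M} (hq₀ : q₀ ≠ p) (hxq₀ : x • q₀ = q₀) :
    (Nat.card (CAt z ({x} : Set G) p) + 1) * (Nat.card {c : G ⧸ M // x • c = c} - 1) *
        Nat.card (twoPt x p q₀) ∣ Nat.card (MulAction.stabilizer G p) := by
  classical
  obtain ⟨d₀, e₀, hd₀, he₀, hxd₀, hxe₀, hde₀, hne₀⟩ := h.exists_pair_of_two hloc hx hxp ha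
  set C := centralizer ({x} : Set G) ⊓ MulAction.stabilizer G p with hC
  -- `C` is transitive on the further fixed points of `x`
  have hC1 : Nat.card C = (Nat.card {c : G ⧸ M // x • c = c} - 1) * Nat.card (twoPt x p q₀) := by
    letI : MulAction C {c : G ⧸ M // x • c = c ∧ c ≠ p} :=
      { smul := fun g c => ⟨(g : G) • c.1, smul_mem_fix (mem_centralizer_singleton_iff.1 g.2.1).symm c.2.1,
          fun e => c.2.2 (smul_left_cancel (g : G) (e.trans (MulAction.mem_stabilizer_iff.1 g.2.2).symm))⟩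
        one_smul := fun c => Subtype.ext (one_smul G c.1)
        mul_smul := fun g g' c => Subtype.ext (mul_smul (g : G) (g' : G) c.1) }
    haveI : MulAction.IsPretransitive C {c : G ⧸ M // x • c = c ∧ c ≠ p} := ⟨fun b c => by
      obtain ⟨Q, hQL, -, hQp, -, -, -, htr, -⟩ :=
        (hloc x hx).regular ⟨d₀, e₀, hd₀, he₀, hxd₀, hxe₀, hde₀, hne₀⟩ p hxp
      obtain ⟨g, hg, hgc⟩ := htr b.1 c.1 b.2.1 c.2.1 b.2.2 c.2.2
      exact ⟨⟨g, mem_centralizer_singleton_iff.2 (commute_of_mem_locGroup (hQL hg)).eq.symm,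
        MulAction.mem_stabilizer_iff.2 (hQp g hg)⟩, Subtype.ext hgc⟩⟩
    set b : {c : G ⧸ M // x • c = c ∧ c ≠ p} := ⟨q₀, hxq₀, hq₀⟩
    rw [← (MulAction.stabilizer C b).index_mul_card, MulAction.index_stabilizer_of_transitive]
    congr 1
    · have h2 := Set.ncard_diff_singleton_add_one (a := p) (s := {c : G ⧸ M | x • c = c}) hxp
        (Set.toFinite _)
      rw [← Nat.card_coe_set_eq, ← Nat.card_coe_set_eq] at h2
      show Nat.card ↑({c : G ⧸ M | x • c = c} \ {p}) = Nat.card ↑{c : G ⧸ M | x • c = c} - 1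
      omega
    · exact Nat.card_congr ⟨fun g => ⟨g.1.1, g.1.2, congrArg Subtype.val g.2⟩,
        fun g => ⟨⟨g.1, g.2.1⟩, Subtype.ext g.2.2⟩, fun _ => rfl, fun _ => rfl⟩
  -- the stabilizer of the coset of the members
  let Z : Set G := {t | t = x ∨ ∃ d : G, IsConj z d ∧ d • p = p ∧ Commute x d ∧ t = x * d}
  have hZx : x ∈ Z := Or.inl rfl
  have hconj : ∀ g : G, g • p = p → g * x * g⁻¹ ∈ Z → ∀ t ∈ Z, g * t * g⁻¹ ∈ Z := by
    intro g hgp hg t ht
    rcases ht with rfl | ⟨d, hd, hdp, hxd, rfl⟩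
    · exact hg
    set d' := g * d * g⁻¹ with hd'
    have hd'z : IsConj z d' := hd.trans (isConj_iff.2 ⟨g, rfl⟩)
    have hd'p : d' • p = p := by rw [hd', mul_smul, mul_smul, inv_smul_eq_iff.2 hgp.symm, hdp, hgp]
    have hc : Commute (g * x * g⁻¹) d' := Commute.map hxd (MulAut.conj g).toMonoidHom
    rw [show g * (x * d) * g⁻¹ = g * x * g⁻¹ * d' by rw [hd']; group]
    rcases hg with e | ⟨k, hk, hkp, hxk, e⟩
    · rw [e] at hc ⊢
      exact Or.inr ⟨d', hd'z, hd'p, hc, rfl⟩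
    rw [e] at hc ⊢
    obtain ⟨r, s, hrs, hr, hs⟩ := hx.2
    obtain ⟨o, ho⟩ := h.hfree x hx.1
    have hne : x ≠ k := fun e1 => hrs (h.crit.fix_unique hk (e1 ▸ hr) (e1 ▸ hs))
    have hbad : IsBad M (x * k) := ⟨invol_iff.2 ⟨by
      rw [mul_assoc, ← mul_assoc k x, ← hxk.eq, mul_assoc x k, invol_mul_self (h.crit.orderOf_conj hk),
        mul_one, invol_mul_self hx.1], fun hh => hne ((eq_inv_of_mul_eq_one_left hh).trans
        (invol_inv (h.crit.orderOf_conj hk)))⟩, h.crit.exists_two_fix_mul hx.1 hk hxk hrs hr hs ho⟩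
    have hkd : Commute k d' := (hloc _ hbad).comm_at k d' p hk hd'z
      (hxk.mul_left (Commute.refl k)) hc hkp hd'p
    have hxd' : Commute x d' := by
      have h1 := hc.mul_left hkd
      rwa [mul_assoc, invol_mul_self (h.crit.orderOf_conj hk), mul_one] at h1
    rw [mul_assoc]
    by_cases hkd' : k = d'
    · exact Or.inl (by rw [← hkd', invol_mul_self (h.crit.orderOf_conj hk), mul_one])
    · exact Or.inr ⟨k * d', h.isConj_mul hk hd'z hkd hkd', by rw [mul_smul, hd'p, hkp],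
        hxk.mul_right hxd', rfl⟩
  let H : Subgroup G :=
    { carrier := {g | g • p = p ∧ g * x * g⁻¹ ∈ Z ∧ g⁻¹ * x * g⁻¹⁻¹ ∈ Z}
      one_mem' := ⟨one_smul _ p, by simpa using hZx, by simpa using hZx⟩
      mul_mem' := fun {a b} ha' hb' => ⟨by rw [mul_smul, hb'.1, ha'.1], by
          rw [show a * b * x * (a * b)⁻¹ = a * (b * x * b⁻¹) * a⁻¹ by group]
          exact hconj a ha'.1 ha'.2.1 _ hb'.2.1, by
          rw [show (a * b)⁻¹ * x * (a * b)⁻¹⁻¹ = b⁻¹ * (a⁻¹ * x * a⁻¹⁻¹) * b⁻¹⁻¹ by group]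
          exact hconj b⁻¹ (inv_smul_eq_iff.2 hb'.1.symm) hb'.2.2 _ ha'.2.2⟩
      inv_mem' := fun {a} ha' => ⟨inv_smul_eq_iff.2 ha'.1.symm, ha'.2.2, by
          rw [inv_inv]; exact ha'.2.1⟩ }
  letI : MulAction H Z :=
    { smul := fun g t => ⟨(g : G) * t.1 * (g : G)⁻¹, hconj g g.2.1 g.2.2.1 _ t.2⟩
      one_smul := fun t => Subtype.ext (show ((1 : H) : G) * t.1 * ((1 : H) : G)⁻¹ = t.1 by simp)
      mul_smul := fun a b t => Subtype.ext (show ((a * b : H) : G) * t.1 * ((a * b : H) : G)⁻¹ =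
        (a : G) * ((b : G) * t.1 * (b : G)⁻¹) * (a : G)⁻¹ by simp [mul_assoc]) }
  have hreach : ∀ t : Z, ∃ g : H, g • (⟨x, hZx⟩ : Z) = t := by
    rintro ⟨t, rfl | ⟨d, hd, hdp, hxd, rfl⟩⟩
    · exact ⟨1, one_smul _ _⟩
    obtain ⟨r, s, hrs, hr, hs⟩ := hx.2
    obtain ⟨u, hu⟩ := isConj_iff.1
      (h.crit.isConj_mul_member h.hfree hx.1 hrs hr hs hd₀ he₀ hxd₀ hxe₀ hde₀ hne₀ hd hxd)
    have hyo : orderOf (x * d) = 2 := hu ▸ invol_conj hx.1 u
    have hyp : (x * d) • p = p := by rw [mul_smul, hdp, hxp]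
    have hyu : (x * d) • (u • p) = u • p := by rw [← hu, smul_smul, inv_mul_cancel_right, mul_smul, hxp]
    obtain ⟨g, hgy, hgp⟩ : ∃ g : G, Commute (x * d) g ∧ g • (u • p) = p := by
      by_cases e : u • p = p
      · exact ⟨1, Commute.one_right _, by rw [one_smul, e]⟩
      obtain ⟨g, -, hga, hgA⟩ := h.crit.exists_commuting_swap (Crit.isPGroup_zpowers_invol hyo) e
        (Crit.forall_zpowers_fix hyu) (Crit.forall_zpowers_fix hyp)
      exact ⟨g, hgA _ (mem_zpowers _), hga⟩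
    have hn : g * u * x * (g * u)⁻¹ = x * d := by
      rw [show g * u * x * (g * u)⁻¹ = g * (u * x * u⁻¹) * g⁻¹ by group, hu, ← hgy.eq, mul_inv_cancel_right]
    have hnp : (g * u) • p = p := by rw [mul_smul, hgp]
    set n := g * u
    have h1 : n * x * n⁻¹ ∈ Z := hn ▸ Or.inr ⟨d, hd, hdp, hxd, rfl⟩
    have hd' : IsConj z (n⁻¹ * d * n) := hd.trans (isConj_iff.2 ⟨n⁻¹, by rw [inv_inv]⟩)
    have hd'p : (n⁻¹ * d * n) • p = p := by rw [mul_smul, mul_smul, hnp, hdp, inv_smul_eq_iff, hnp]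
    have hd'x : Commute x (n⁻¹ * d * n) := by
      have := Commute.map (hxd.mul_left (Commute.refl d)) (MulAut.conj n⁻¹).toMonoidHom
      simp only [MulEquiv.coe_toMonoidHom, MulAut.conj_apply, inv_inv] at this
      rw [← hn] at this
      rwa [show n⁻¹ * (n * x * n⁻¹) * n = x by group] at this
    have h2 : n⁻¹ * x * n⁻¹⁻¹ ∈ Z := Or.inr ⟨_, hd', hd'p, hd'x, by
      rw [inv_inv]
      calc n⁻¹ * x * n = n⁻¹ * (x * d * d) * n := by
            rw [mul_assoc x d d, invol_mul_self (h.crit.orderOf_conj hd), mul_one]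
        _ = n⁻¹ * (x * d) * n * (n⁻¹ * d * n) := by group
        _ = x * (n⁻¹ * d * n) := by rw [← hn, show n⁻¹ * (n * x * n⁻¹) * n = x by group]⟩
    exact ⟨⟨n, hnp, h1, h2⟩, Subtype.ext hn⟩
  haveI : MulAction.IsPretransitive H Z := ⟨fun a b => by
    obtain ⟨g, hg⟩ := hreach a
    obtain ⟨k, hk⟩ := hreach b
    exact ⟨k * g⁻¹, by rw [mul_smul, ← hg, inv_smul_smul, hk]⟩⟩
  have hHcard : Nat.card H = (Nat.card (CAt z ({x} : Set G) p) + 1) * Nat.card C := by
    rw [← (MulAction.stabilizer H (⟨x, hZx⟩ : Z)).index_mul_card, MulAction.index_stabilizer_of_transitive]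
    congr 1
    · have e : (Z : Set G) = insert x ((fun d => x * d) '' {d | IsConj z d ∧ d • p = p ∧ Commute x d}) := by
        ext t
        simp only [Z, Set.mem_setOf_eq, Set.mem_insert_iff, Set.mem_image]
        constructor
        · rintro (rfl | ⟨d, h1, h2, h3, rfl⟩)
          exacts [Or.inl rfl, Or.inr ⟨d, ⟨h1, h2, h3⟩, rfl⟩]
        · rintro (rfl | ⟨d, ⟨h1, h2, h3⟩, rfl⟩)
          exacts [Or.inl rfl, Or.inr ⟨d, h1, h2, h3, rfl⟩]
      rw [Nat.card_coe_set_eq, e, Set.ncard_insert_of_notMem ?_ (Set.toFinite _),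
        Set.ncard_image_of_injective _ (mul_right_injective x), ← Nat.card_coe_set_eq]
      · exact congrArg (· + 1) (Nat.card_congr (Equiv.subtypeEquivRight fun g => by simp))
      · rintro ⟨d, ⟨h1, -, -⟩, h2⟩
        exact invol_ne_one (h.crit.orderOf_conj h1) (mul_eq_left.1 h2)
    · refine Nat.card_congr ⟨fun g => ⟨g.1.1, mem_centralizer_singleton_iff.2
          (mul_inv_eq_iff_eq_mul.1 (congrArg Subtype.val g.2)), g.1.2.1⟩,
        fun g => ⟨⟨g.1, MulAction.mem_stabilizer_iff.1 g.2.2, ?_, ?_⟩, ?_⟩, fun _ => rfl, fun _ => rfl⟩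
      · rw [mem_centralizer_singleton_iff.1 g.2.1, mul_inv_cancel_right]; exact hZx
      · rw [inv_inv, mul_assoc, ← mem_centralizer_singleton_iff.1 g.2.1, inv_mul_cancel_left]; exact hZx
      · exact Subtype.ext (show (g : G) * x * (g : G)⁻¹ = x by
          rw [mem_centralizer_singleton_iff.1 g.2.1, mul_inv_cancel_right])
  rw [mul_assoc, ← hC1, ← hHcard]
  exact card_dvd_of_le (H := H) (K := MulAction.stabilizer G p) fun g hg => hg.1

/-- `q * s` divides the number of further points, and there are enough elements of two-power order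
at `p`, if no larger two-group fixes two points. -/
theorem Setup.dvd_points {q₀ : G ⧸ M} (hq₀ : q₀ ≠ p) (hxq₀ : x • q₀ = q₀) {P : Subgroup G}
    (hP : IsPGroup 2 P) (hPx : P ≤ twoPt x p q₀)
    (hmax : ∀ (T : Subgroup G) (c : G ⧸ M), IsPGroup 2 T → c ≠ p → (∀ g ∈ T, g • p = p ∧ g • c = c) →
      Nat.card T ≤ Nat.card P) {β k : ℕ} (hβ : Nat.card (CAt z ({x} : Set G) p) + 1 = 2 ^ β)
    (hk : Nat.card {c : G ⧸ M // x • c = c} = 2 ^ k + 1) :
    2 ^ (β + k) ∣ Nat.card {c : G ⧸ M // c ≠ p} ∧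
      ∃ S : Subgroup G, IsPGroup 2 S ∧ (∀ g ∈ S, g • p = p) ∧ 2 ^ (β + k) * 2 ≤ Nat.card S := by
  classical
  haveI : Fact (Nat.Prime 2) := ⟨Nat.prime_two⟩
  obtain ⟨r, hr⟩ := hP.exists_card_eq
  set K := MulAction.stabilizer G p with hK
  have hdvd : 2 ^ (β + k + r) ∣ Nat.card K := by
    refine dvd_trans ?_ (h.dvd_card_stabilizer hloc hx hxp ha hq₀ hxq₀)
    rw [hβ, hk, Nat.add_sub_cancel, pow_add, pow_add, ← hr]
    exact Nat.mul_dvd_mul_left _ (card_dvd_of_le hPx)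
  obtain ⟨S⟩ := (inferInstance : Nonempty (Sylow 2 K))
  obtain ⟨e, he⟩ := S.2.exists_card_eq
  have hle : β + k + r ≤ e := by
    have := (Nat.Prime.pow_dvd_iff_le_factorization Nat.prime_two Nat.card_pos.ne').1 hdvd
    rw [S.card_eq_multiplicity] at he
    have := Nat.pow_right_injective le_rfl he
    omega
  have hSG : IsPGroup 2 ((S : Subgroup K).map K.subtype) := S.2.map _
  have hScard : Nat.card ((S : Subgroup K).map K.subtype) = 2 ^ e := by
    rw [card_map_of_injective K.subtype_injective]; exact he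
  refine ⟨?_, _, hSG, fun g hg => ?_, ?_⟩
  · letI : MulAction S {c : G ⧸ M // c ≠ p} :=
      { smul := fun g c => ⟨((g : K) : G) • c.1, fun hh => c.2 (smul_left_cancel ((g : K) : G)
          (hh.trans (MulAction.mem_stabilizer_iff.1 (g : K).2).symm))⟩
        one_smul := fun c => Subtype.ext (one_smul G c.1)
        mul_smul := fun g g' c => Subtype.ext (mul_smul ((g : K) : G) ((g' : K) : G) c.1) }
    rw [Nat.card_congr (MulAction.selfEquivSigmaOrbits S {c : G ⧸ M // c ≠ p})]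
    letI := Fintype.ofFinite (Quotient (MulAction.orbitRel S {c : G ⧸ M // c ≠ p}))
    rw [Nat.card_sigma]
    refine Finset.dvd_sum fun o _ => ?_
    set c := o.out with hc
    set St := MulAction.stabilizer S c with hSt
    obtain ⟨i, hi⟩ := (S.2.to_subgroup St).exists_card_eq
    have hir : i ≤ r := by
      have h1 := hmax ((St.map (S : Subgroup K).subtype).map K.subtype) c.1
        (((S.2.to_subgroup St).map _).map _) c.2 (by
          rintro g ⟨g1, ⟨g2, hg2, rfl⟩, rfl⟩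
          exact ⟨MulAction.mem_stabilizer_iff.1 (g2 : K).2, congrArg Subtype.val hg2⟩)
      rw [card_map_of_injective K.subtype_injective, card_map_of_injective (S : Subgroup K).subtype_injective,
        hi, hr] at h1
      exact (Nat.pow_le_pow_iff_right (by norm_num)).1 h1
    have horb : Nat.card (MulAction.orbit S c) * 2 ^ i = 2 ^ e := by
      rw [← hi, Nat.card_coe_set_eq, ← MulAction.index_stabilizer, index_mul_card]
      exact he
    obtain ⟨j, hj⟩ := Nat.exists_eq_add_of_le (show β + k + i ≤ e by omega)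
    refine ⟨2 ^ j, Nat.eq_of_mul_eq_mul_right (Nat.two_pow_pos i) ?_⟩
    rw [horb, hj]
    simp only [pow_add]; ring
  · obtain ⟨g', -, rfl⟩ := hg
    exact MulAction.mem_stabilizer_iff.1 g'.2
  · rw [hScard, ← pow_succ]
    refine Nat.pow_le_pow_right (by norm_num) ?_
    have : 1 ≤ r := by
      have h1 := hmax (zpowers x) q₀ (Crit.isPGroup_zpowers_invol hx.1) hq₀ fun g hg =>
        ⟨Crit.forall_zpowers_fix hxp g hg, Crit.forall_zpowers_fix hxq₀ g hg⟩
      rw [Nat.card_zpowers, hx.1, hr] at h1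
      exact Nat.one_le_iff_ne_zero.2 fun e0 => by rw [e0, pow_zero] at h1; omega
    omega

/-- **`L = 1` gives (A).** -/
theorem Setup.exists_elementary_of_L_one {q₀ : G ⧸ M} (hq₀ : q₀ ≠ p) (hxq₀ : x • q₀ = q₀)
    {P : Subgroup G} (hP : IsPGroup 2 P) (hPx : P ≤ twoPt x p q₀)
    (hmax : ∀ (T : Subgroup G) (c : G ⧸ M), IsPGroup 2 T → c ≠ p → (∀ g ∈ T, g • p = p ∧ g • c = c) →
      Nat.card T ≤ Nat.card P) {β k : ℕ} (hβ : Nat.card (CAt z ({x} : Set G) p) + 1 = 2 ^ β)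
    (hk : Nat.card {c : G ⧸ M // x • c = c} = 2 ^ k + 1)
    (hN : Nat.card {c : G ⧸ M // c ≠ p} = 2 ^ (β + k)) :
    ∃ E : Subgroup G, (∀ g : G, g ∈ E ↔ (IsConj z g ∧ g • p = p) ∨ g = 1) ∧
      (∀ a ∈ E, ∀ b ∈ E, Commute a b) ∧ (∀ a ∈ E, a * a = 1) ∧
      ∀ c : G, c • p = p → ∀ a ∈ E, c * a * c⁻¹ ∈ E := by
  obtain ⟨-, S, hS, hSp, hScard⟩ := h.dvd_points hloc hx hxp ha hq₀ hxq₀ hP hPx hmax hβ hk
  refine h.exists_elementary_of_joined hloc (fun c hc => ?_) hN
  refine exists_invol_fix_of_card hS hSp ?_ hc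
  rw [hN]
  have := Nat.two_pow_pos (β + k)
  omega

/-- **The arithmetic.**  With `N - 1 = q s L`: `R (q L - 1) = f a` and `R = 1` modulo `q` when `q ∣ s`. -/
theorem Setup.exists_arith {q₀ : G ⧸ M} (hq₀ : q₀ ≠ p) (hxq₀ : x • q₀ = q₀)
    {P : Subgroup G} (hP : IsPGroup 2 P) (hPx : P ≤ twoPt x p q₀)
    (hmax : ∀ (T : Subgroup G) (c : G ⧸ M), IsPGroup 2 T → c ≠ p → (∀ g ∈ T, g • p = p ∧ g • c = c) →
      Nat.card T ≤ Nat.card P) {β k : ℕ} (hβ : Nat.card (CAt z ({x} : Set G) p) + 1 = 2 ^ β)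
    (hk : Nat.card {c : G ⧸ M // x • c = c} = 2 ^ k + 1) (hβk : β ≤ k)
    (hlt : Nat.card (CAt z ({x} : Set G) p) < deg M z) :
    ∃ i j : ℕ, 1 ≤ i ∧ 1 ≤ j ∧ (2 ^ β * j + 1) * (2 ^ β - 1) = deg M z ∧
      Nat.card {c : G ⧸ M // c ≠ p} = 2 ^ (β + k) * i ∧
      (2 ^ β * j + 1) * (2 ^ β * i - 1) + (2 ^ k + 1) = (2 ^ k + 1) * 2 ^ β := by
  classical
  obtain ⟨⟨i, hi⟩, -⟩ := h.dvd_points hloc hx hxp ha hq₀ hxq₀ hP hPx hmax hβ hk
  obtain ⟨R, hRm, hRN⟩ := h.exists_swap_count hloc hx hxp ha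
  set a := Nat.card (CAt z ({x} : Set G) p) with hadef
  rw [hk, Nat.add_sub_cancel] at hRN
  have hN : Nat.card {c : G ⧸ M // c ≠ p} + 1 = Nat.card (G ⧸ M) := by
    rw [← Finite.card_option, Nat.card_congr (Equiv.optionSubtypeNe p)]
  have hfN : 2 ^ k + 1 ≤ Nat.card (G ⧸ M) := hk ▸ Nat.card_le_card_of_injective _ Subtype.val_injective
  have hR : 2 ≤ R := by
    by_contra hR
    have : R * a ≤ 1 * a := Nat.mul_le_mul_right _ (by omega)
    omega
  have key : 2 ^ β * i * R = R + (2 ^ k + 1) * a := by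
    refine Nat.eq_of_mul_eq_mul_left (Nat.two_pow_pos k) ?_
    have h1 : (2 ^ k + (Nat.card (G ⧸ M) - (2 ^ k + 1))) * R = 2 ^ (β + k) * i * R := by
      rw [← hi]; congr 1; omega
    rw [add_mul, hRN, pow_add] at h1
    linarith
  obtain ⟨t, ht⟩ : ∃ t, k = β + t := ⟨k - β, by omega⟩
  have hi1 : 1 ≤ i := Nat.pos_of_ne_zero fun e => by rw [e, mul_zero, zero_mul] at key; omega
  -- `R = 1` modulo `q`
  obtain ⟨j, hj⟩ : 2 ^ β ∣ R - 1 := by
    have h1 : 2 ^ β * (i * R + 1) = (R - 1) + 2 ^ β * 2 + 2 ^ k * a := by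
      have : R + (2 ^ k + 1) * a + 2 ^ β = (R - 1) + 2 ^ β * 2 + 2 ^ k * a := by
        rw [← hβ, add_mul, one_mul]; omega
      rw [← this, ← key]; ring
    have h2 : 2 ^ β ∣ (R - 1) + (2 ^ β * 2 + 2 ^ k * a) := ⟨i * R + 1, by omega⟩
    refine (Nat.dvd_add_left ?_).1 h2
    rw [ht, pow_add, mul_assoc]
    exact dvd_add (dvd_mul_right _ _) (dvd_mul_right _ _)
  have hj1 : 1 ≤ j := Nat.pos_of_ne_zero fun e => by rw [e, mul_zero] at hj; omega
  have hRj : R = 2 ^ β * j + 1 := by omega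
  refine ⟨i, j, hi1, hj1, ?_, hi, ?_⟩
  · rw [← hRj, ← hRm]; congr 1; omega
  · rw [← hRj]
    obtain ⟨c, hc⟩ := Nat.exists_eq_add_of_le (show 1 ≤ 2 ^ β * i from Nat.mul_pos (Nat.two_pow_pos β) hi1)
    rw [hc, Nat.add_sub_cancel_left]
    rw [hc] at key
    rw [← hβ]
    linarith

/-- **`s = q` gives (A).** -/
theorem Setup.exists_elementary_of_fix_eq {q₀ : G ⧸ M} (hq₀ : q₀ ≠ p) (hxq₀ : x • q₀ = q₀)
    {P : Subgroup G} (hP : IsPGroup 2 P) (hPx : P ≤ twoPt x p q₀)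
    (hmax : ∀ (T : Subgroup G) (c : G ⧸ M), IsPGroup 2 T → c ≠ p → (∀ g ∈ T, g • p = p ∧ g • c = c) →
      Nat.card T ≤ Nat.card P) {β : ℕ} (hβ : Nat.card (CAt z ({x} : Set G) p) + 1 = 2 ^ β) (hβ2 : 2 ≤ β)
    (hk : Nat.card {c : G ⧸ M // x • c = c} = 2 ^ β + 1)
    (hlt : Nat.card (CAt z ({x} : Set G) p) < deg M z) :
    ∃ E : Subgroup G, (∀ g : G, g ∈ E ↔ (IsConj z g ∧ g • p = p) ∨ g = 1) ∧
      (∀ a ∈ E, ∀ b ∈ E, Commute a b) ∧ (∀ a ∈ E, a * a = 1) ∧
      ∀ c : G, c • p = p → ∀ a ∈ E, c * a * c⁻¹ ∈ E := by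
  obtain ⟨i, j, hi, hj, -, hN, harith⟩ := h.exists_arith hloc hx hxp ha hq₀ hxq₀ hP hPx hmax hβ hk le_rfl hlt
  obtain ⟨rfl, rfl⟩ := Types.of_one
    (le_trans (by norm_num) (Nat.pow_le_pow_right (n := 2) (by norm_num) hβ2)) hi hj harith
  exact h.exists_elementary_of_L_one hloc hx hxp ha hq₀ hxq₀ hP hPx hmax hβ hk (by rw [hN, mul_one])

/-- **`s = q ^ 2` does not occur.** -/
theorem Setup.false_of_fix_sq {q₀ : G ⧸ M} (hq₀ : q₀ ≠ p) (hxq₀ : x • q₀ = q₀)
    {P : Subgroup G} (hP : IsPGroup 2 P) (hPx : P ≤ twoPt x p q₀)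
    (hmax : ∀ (T : Subgroup G) (c : G ⧸ M), IsPGroup 2 T → c ≠ p → (∀ g ∈ T, g • p = p ∧ g • c = c) →
      Nat.card T ≤ Nat.card P) {β : ℕ} (hβ : Nat.card (CAt z ({x} : Set G) p) + 1 = 2 ^ β) (hβ2 : 2 ≤ β)
    (hk : Nat.card {c : G ⧸ M // x • c = c} = 2 ^ (β * 2) + 1)
    (hlt : Nat.card (CAt z ({x} : Set G) p) < deg M z) : False := by
  haveI : Fact (Nat.Prime 2) := ⟨Nat.prime_two⟩
  obtain ⟨i, j, hi, hj, hdeg, hN, harith⟩ :=
    h.exists_arith hloc hx hxp ha hq₀ hxq₀ hP hPx hmax hβ hk (by omega) hlt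
  have hq : 4 ≤ 2 ^ β := le_trans (by norm_num) (Nat.pow_le_pow_right (n := 2) (by norm_num) hβ2)
  rw [pow_mul] at harith
  obtain ⟨rfl, rfl⟩ := Types.of_two hq (even_two.pow_of_ne_zero (by omega)) hi hj harith
  obtain ⟨E, hE, -, hE2, -⟩ :=
    h.exists_elementary_of_L_one hloc hx hxp ha hq₀ hxq₀ hP hPx hmax hβ hk (by rw [hN, mul_one])
  have hEp : IsPGroup 2 E := fun g => ⟨1, Subtype.ext (by
    rw [SubmonoidClass.coe_pow, pow_one, pow_two, hE2 g g.2]; rfl)⟩
  obtain ⟨e, he⟩ := hEp.exists_card_eq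
  have hcard : Nat.card E = deg M z + 1 := by
    have h1 : (E : Set G) = insert 1 {g | IsConj z g ∧ g • p = p} := by
      ext g; rw [SetLike.mem_coe, hE, Set.mem_insert_iff, or_comm]; rfl
    show Nat.card ↑(E : Set G) = _
    rw [Nat.card_coe_set_eq, h1, Set.ncard_insert_of_notMem ?_ (Set.toFinite _),
      ← Nat.card_coe_set_eq, ← card_DAt (z := z) p]
    · rfl
    · exact fun h2 => invol_ne_one (h.crit.orderOf_conj h2.1) rfl
  obtain ⟨q, hq'⟩ : ∃ q, 2 ^ β = q + 1 := ⟨2 ^ β - 1, by omega⟩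
  rw [← hdeg, hq', Nat.add_sub_cancel] at hcard
  have hodd : Odd ((q + 1) * q + 1) := by
    rw [← hq']; exact ((even_two.pow_of_ne_zero (by omega)).mul_right _).add_one
  have hdvd : (q + 1) * q + 1 ∣ 2 ^ e := he ▸ hcard.symm ▸ ⟨q + 1, by ring⟩
  obtain ⟨l, -, hl⟩ := (Nat.dvd_prime_pow Nat.prime_two).1 hdvd
  have : 12 ≤ (q + 1) * q := Nat.mul_le_mul (show 4 ≤ q + 1 by omega) (show 3 ≤ q by omega)
  rcases l with _ | l
  · rw [pow_zero] at hl; omega
  · exact Nat.not_even_iff_odd.2 hodd (hl ▸ even_two.pow_of_ne_zero (by omega))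

omit x hx hxp ha hloc in
/-- A largest two-group fixing `p` and another point is centralized by one of its involutions. -/
theorem Setup.exists_max_twoGroup {p : G ⧸ M} (hex : ∃ x : G, orderOf x = 2 ∧ x • p = p ∧ ∃ c, c ≠ p ∧ x • c = c) :
    ∃ (x : G) (q₀ : G ⧸ M) (P : Subgroup G), IsBad M x ∧ x • p = p ∧ q₀ ≠ p ∧ x • q₀ = q₀ ∧
      IsPGroup 2 P ∧ P ≤ twoPt x p q₀ ∧
      ∀ (T : Subgroup G) (c : G ⧸ M), IsPGroup 2 T → c ≠ p → (∀ g ∈ T, g • p = p ∧ g • c = c) →
        Nat.card T ≤ Nat.card P := by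
  classical
  haveI : Fact (Nat.Prime 2) := ⟨Nat.prime_two⟩
  obtain ⟨x₀, hx₀, hx₀p, c₀, hc₀, hx₀c⟩ := hex
  let ok : Subgroup G × (G ⧸ M) → Prop := fun t =>
    IsPGroup 2 t.1 ∧ t.2 ≠ p ∧ ∀ g ∈ t.1, g • p = p ∧ g • t.2 = t.2
  letI := Fintype.ofFinite (Subgroup G × (G ⧸ M))
  have h0 : ok (zpowers x₀, c₀) := ⟨Crit.isPGroup_zpowers_invol hx₀, hc₀, fun g hg =>
    ⟨Crit.forall_zpowers_fix hx₀p g hg, Crit.forall_zpowers_fix hx₀c g hg⟩⟩
  obtain ⟨⟨P, q₀⟩, hPq, hmax⟩ := Finset.exists_max_image (Finset.univ.filter ok)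
    (fun t => Nat.card t.1) ⟨(zpowers x₀, c₀), Finset.mem_filter.2 ⟨Finset.mem_univ _, h0⟩⟩
  simp only [Finset.mem_filter, Finset.mem_univ, true_and] at hPq hmax
  obtain ⟨hP, hq₀, hfix⟩ := hPq
  have h2 : 2 ≤ Nat.card P := by
    have := hmax (zpowers x₀, c₀) h0
    rwa [Nat.card_zpowers, hx₀] at this
  haveI : Nontrivial P := Finite.one_lt_card_iff_nontrivial.1 h2
  haveI := hP.center_nontrivial
  obtain ⟨i, hi0, hi⟩ := IsPGroup.nontrivial_iff_card (hP.to_subgroup (Subgroup.center P)) |>.1 inferInstance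
  obtain ⟨t, ht⟩ := exists_prime_orderOf_dvd_card' (G := Subgroup.center P) 2 (hi ▸ dvd_pow_self 2 hi0.ne')
  set x : G := ((t : P) : G) with hxdef
  have hxo : orderOf x = 2 := by rw [hxdef, orderOf_coe, orderOf_coe, ht]
  have hxP : x ∈ P := (t : P).2
  refine ⟨x, q₀, P, ⟨hxo, p, q₀, hq₀.symm, (hfix x hxP).1, (hfix x hxP).2⟩, (hfix x hxP).1, hq₀,
    (hfix x hxP).2, hP, fun g hg => ⟨⟨?_, (hfix g hg).1⟩, (hfix g hg).2⟩,
    fun T c hT hc hTfix => hmax (T, c) ⟨hT, hc, hTfix⟩⟩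
  exact mem_centralizer_singleton_iff.2 (congrArg Subtype.val (Subgroup.mem_center_iff.1 t.2 ⟨g, hg⟩))

end CfsgLib.SECrit
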