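import Cfsg.Agent.Lib.Invol.SECriterion.Closed

/-!
# The strong embedding criterion: the odd core of a two point stabilizer is transitive on the
conjugates of `z` at each of the two points
-/

set_option autoImplicit false

namespace CfsgLib.SECrit

open CfsgLib.Invol

variable {G : Type*} [Group G] [Finite G] {M : Subgroup G} {z : G}

namespace Crit

variable (h : Crit M z)
include h

/-- Two conjugates of `z` at `a` are conjugate by an element of the odd core of the stabilizer of
the pair `a, b`, which fixes both points. -/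
theorem exists_core_conj {a b : G ⧸ M} (hab : a ≠ b) {d d' : G} (hd : IsConj z d) (hd' : IsConj z d')
    (ha : d • a = a) (ha' : d' • a = a) :
    ∃ r : pairStab a b, r ∈ Cfsg.pPrimeCore 2 (pairStab a b) ∧ (r : G) • a = a ∧ (r : G) • b = b ∧
      (r : G) * d * (r : G)⁻¹ = d' := by
  obtain ⟨e, he, heb⟩ := h.exists_fixing b
  obtain ⟨g, hg, hge⟩ := h.exists_midpoint hd he ha heb hab
  obtain ⟨k, hk, hke⟩ := h.exists_midpoint hd' he ha' heb hab
  have hga : g • a = b := h.smul_eq_of_conj he hge ha heb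
  have hka : k • a = b := h.smul_eq_of_conj he hke ha' heb
  have hgo := h.orderOf_conj hg
  have hko := h.orderOf_conj hk
  have hgN := h.swap_mem_pairStab hg hga
  have hkN := h.swap_mem_pairStab hk hka
  have hkb : k • b = a := by rw [← hka, smul_smul, invol_mul_self hko, one_smul]
  refine ⟨⟨k * g, mul_mem hkN hgN⟩, ?_, ?_, ?_, ?_⟩
  · obtain ⟨v, hv, hvk⟩ := exists_conj_eq_of_odd hgo hko (h.odd_mul_swaps hg hk hab hga hka)
    have hvN : v ∈ pairStab a b := Subgroup.zpowers_le.2 (mul_mem hgN hkN) hv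
    have hc := h.commutator_swap_mem_core hab hg hga ⟨v, hvN⟩
    haveI : (Cfsg.pPrimeCore 2 (pairStab a b)).Characteristic :=
      Coprime.pPrimeCore_characteristic 2
    have hc' := (inferInstance : (Cfsg.pPrimeCore 2 (pairStab a b)).Normal).conj_mem _ hc
      ⟨g, hgN⟩
    have e1 : (⟨k * g, mul_mem hkN hgN⟩ : pairStab a b) = ⟨g, hgN⟩ * (⟨g, hgN⟩ * ⟨v, hvN⟩ *
        (⟨g, hgN⟩ : pairStab a b)⁻¹ * (⟨v, hvN⟩ : pairStab a b)⁻¹) * (⟨g, hgN⟩ : pairStab a b)⁻¹ := by
      apply Subtype.ext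
      show k * g = g * (g * v * g⁻¹ * v⁻¹) * g⁻¹
      rw [← hvk]
      calc v * g * v⁻¹ * g = v * g⁻¹ * v⁻¹ * g⁻¹ := by rw [invol_inv hgo]
        _ = (g * g) * v * g⁻¹ * v⁻¹ * g⁻¹ := by rw [invol_mul_self hgo, one_mul]
        _ = g * (g * v * g⁻¹ * v⁻¹) * g⁻¹ := by group
    rw [e1]; exact hc'
  · show (k * g) • a = a
    rw [mul_smul, hga, hkb]
  · show (k * g) • b = b
    rw [mul_smul, ← hga, smul_smul g g, invol_mul_self hgo, one_smul, hka, hga]
  · show k * g * d * (k * g)⁻¹ = d'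
    calc k * g * d * (k * g)⁻¹ = k * (g * d * g⁻¹) * k⁻¹ := by group
      _ = k⁻¹ * e * k := by rw [hge, invol_inv hko]
      _ = d' := by rw [← hke]; group

end Crit

end CfsgLib.SECrit
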