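import Cfsg.Agent.Lib.Invol.SECriterion.ResOfA
import Cfsg.Agent.Lib.Invol.SECriterion.Shape.Local
import Cfsg.Agent.Lib.Invol.SECriterion.Local.OfTWeak
import Cfsg.Agent.Lib.Invol.SECriterion.SmallCount
import Cfsg.Agent.Lib.Invol.SECriterion.SmallType.Pairs
import Cfsg.Agent.Lib.Invol.SECriterion.EqType.SEq.Main
import Cfsg.Agent.Lib.Invol.SECriterion.Sub.TWeakTop

/-!
# The strong embedding criterion: assembly

In a generated group with a bad involution, every bad involution centralizes `a ≥ 3` members at a point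
and fixes `s + 1` points, `s ∈ {q, q ^ 2, q ^ 3}` for `q = a + 1`.  The criterion follows from the
remaining cases, taken here as hypotheses.
-/

set_option autoImplicit false
set_option linter.style.haveILetI false

namespace CfsgLib.SECrit

open CfsgLib.Invol Subgroup

universe u

/-- The equal type with `q + 1` fixed points does not occur. -/
def NoEqLinear {G : Type u} [Group G] [Finite G] (M : Subgroup G) (z : G) : Prop :=
  (∀ x : G, IsBad M x → Local M z x) → Eq.EqRes M z →
    (∀ x : G, Small.Bad z x → Small.fix M x = deg M z + 2) → ∀ x : G, Small.Bad z x → False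

/-- The equal type with more than `q + 1` fixed points does not occur. -/
def NoEqBig {G : Type u} [Group G] [Finite G] (M : Subgroup G) (z : G) : Prop :=
  (∀ x : G, IsBad M x → Local M z x) → Eq.EqRes M z → ∀ x : G, Small.Bad z x →
    (Small.fix M x = (deg M z + 1) ^ 2 + 1 ∨ Small.fix M x = (deg M z + 1) ^ 3 + 1) → False

/-- The small type with `q + 1` fixed points does not occur. -/
def NoSmallLinear {G : Type u} [Group G] [Finite G] (M : Subgroup G) (z : G) : Prop :=
  (∀ x : G, IsBad M x → Local M z x) → ∀ a : ℕ, Small.Uni M z a → (∀ x : G, Small.Bad z x → Small.fix M x = a + 2) → ∀ x : G, Small.Bad z x → False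

/-- The small type with `q ^ 3 + 1` fixed points does not occur. -/
def NoSmallCube {G : Type u} [Group G] [Finite G] (M : Subgroup G) (z : G) : Prop :=
  (∀ x : G, IsBad M x → Local M z x) → ∀ (x : G) (p q₀ : G ⧸ M) (P : Subgroup G) (β : ℕ),
    IsBad M x → x • p = p → q₀ ≠ p → x • q₀ = q₀ → IsPGroup 2 P → P ≤ twoPt x p q₀ →
    (∀ (T : Subgroup G) (c : G ⧸ M), IsPGroup 2 T → c ≠ p → (∀ g ∈ T, g • p = p ∧ g • c = c) →
      Nat.card T ≤ Nat.card P) →
    Nat.card (CAt z ({x} : Set G) p) + 1 = 2 ^ β → 2 ≤ β → Nat.card (CAt z ({x} : Set G) p) < deg M z →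
    Nat.card {c : G ⧸ M // x • c = c} = 2 ^ (β * 3) + 1 → False

variable {G : Type u} [Group G] [Finite G] {M : Subgroup G} {z : G}

/-- If the members at one point commute, so do those at every point. -/
theorem Setup.comm_of_point (h : Setup M z) {p : G ⧸ M}
    (hp : ∀ d e : G, IsConj z d → IsConj z e → d • p = p → e • p = p → Commute d e) :
    ∀ (d e : G) (q : G ⧸ M), IsConj z d → IsConj z e → d • q = q → e • q = q → Commute d e := by
  intro d e q hd he hdq heq
  have := h
  obtain ⟨g, hg⟩ := MulAction.exists_smul_eq G q p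
  have hfix : ∀ c : G, c • q = q → (g * c * g⁻¹) • p = p := fun c hc => by
    rw [← hg, smul_smul, inv_mul_cancel_right, mul_smul, hc]
  exact (Commute.conj_iff g).1 (hp _ _ (hd.trans (isConj_iff.2 ⟨g, rfl⟩)) (he.trans (isConj_iff.2 ⟨g, rfl⟩))
    (hfix d hdq) (hfix e heq))

/-- **No bad involution in a generated group, given the residues.** -/
theorem Setup.false_of_residues (h : Setup M z) (hgen : normalClosure ({z} : Set G) = ⊤)
    (heql : NoEqLinear M z) (hbig : NoEqBig M z) (hlin : NoSmallLinear M z)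
    (hcube : NoSmallCube M z) {x : G} (hx : IsBad M x) : False := by
  have hloc := h.local_of_tweak hgen (h.tweak_of_top hgen)
  obtain ⟨hxo, r, s, hrs, hr, hs⟩ := hx
  obtain ⟨x₁, q₀, P, hx₁, hx₁p, hq₀, hx₁q₀, hP, hPx, hmax⟩ :=
    h.exists_max_twoGroup (p := r) ⟨x, hxo, hr, s, hrs.symm, hs⟩
  set a := Nat.card (CAt z ({x₁} : Set G) r) with hadef
  -- two members at the point
  have ha : 2 ≤ a := by
    obtain ⟨d, e, hd, he, hxd, hxe, hde, hne⟩ := h.exists_pair_of_top hgen hx₁
    obtain ⟨b, hb⟩ := h.crit.fix_exists hd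
    have heb : e • b = b := h.crit.smul_of_commute hd hde.symm hb
    have hxb : x₁ • b = b := h.crit.smul_of_commute hd hxd hb
    rw [hadef, h.crit.card_CAt_eq (A := ({x₁} : Set G))
      (by rw [← zpowers_eq_closure]; exact Crit.isPGroup_zpowers_invol hx₁.1) (a := r) (b := b)
      (by rintro y rfl; exact hx₁p) (by rintro y rfl; exact hxb)]
    refine Finite.one_lt_card_iff_nontrivial.2 ⟨⟨d, hd, hb, by rintro y rfl; exact hxd⟩,
      ⟨e, he, heb, by rintro y rfl; exact hxe⟩, fun e1 => hne (congrArg Subtype.val e1)⟩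
  obtain ⟨β, hβ⟩ := h.exists_card_CAt_pow hloc hx₁ hx₁p ha
  have hβ2 : 2 ≤ β := by
    rcases β with - | - | β
    · rw [pow_zero] at hβ; omega
    · rw [zero_add, pow_one] at hβ; omega
    · omega
  obtain ⟨d, e, hd, he, hxd, hxe, hde, hne⟩ := h.exists_pair_of_top hgen hx₁
  obtain ⟨k, hk⟩ := (hloc x₁ hx₁).card_fix ⟨d, e, hd, he, hxd, hxe, hde, hne⟩ hq₀.symm hx₁p hx₁q₀
  have hshape := h.fix_shape (hloc x₁ hx₁) hx₁ hx₁p ha hβ hk
  have hbad : Small.Bad z x₁ := ⟨hx₁.1, h.crit.not_isConj_of_bad hx₁⟩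
  have hle : a ≤ deg M z := by
    rw [← card_DAt (z := z) r]
    exact Nat.card_le_card_of_injective (fun d => (⟨d.1, d.2.1, d.2.2.1⟩ : DAt z r))
      fun c c' hcc => Subtype.ext (congrArg (fun d : DAt z r => d.1) hcc)
  rcases hle.eq_or_lt with heq | hlt
  · -- the equal type
    have hfull : Function.Bijective fun d : CAt z ({x₁} : Set G) r => (⟨d.1, d.2.1, d.2.2.1⟩ : DAt z r) :=
      (Nat.bijective_iff_injective_and_card _).2 ⟨fun c c' hcc =>
        Subtype.ext (congrArg (fun d : DAt z r => d.1) hcc), by rw [card_DAt]; exact heq⟩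
    have hxall : ∀ c : G, IsConj z c → c • r = r → Commute x₁ c := fun c hc hcr => by
      obtain ⟨w, hw⟩ := hfull.2 ⟨c, hc, hcr⟩
      rw [show c = w.1 from (congrArg (fun t : DAt z r => t.1) hw).symm]
      exact w.2.2.2 x₁ rfl
    have hA := h.comm_of_point (p := r) fun d e hd he hdr her =>
      (hloc x₁ hx₁).comm_at d e r hd he (hxall d hd hdr) (hxall e he her) hdr her
    have hres := h.res_of_comm hgen hloc hA
    have hE : Eq.EqRes M z := by
      refine ⟨hres, fun g hg => ?_, heq ▸ ha, fun y p hy hyp => ?_⟩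
      · have := mem_core_of_forall_smul hg
        rwa [h.core, mem_bot] at this
      refine (hres.cnt_le p).eq_or_lt.resolve_right fun hlt => ?_
      obtain ⟨q, hqp, hyq⟩ := hres.bad_two_fix hy hyp
      have hpair := h.exists_pair_of_top hgen (x := y) ⟨hy.invol, p, q, hqp.symm, hyp, hyq⟩
      obtain ⟨d', e', hd', he', hyd', hye', hde', hne'⟩ := hpair
      obtain ⟨b, hb⟩ := h.crit.fix_exists hd'
      have hc2 : 2 ≤ Small.cnt z y p := by
        rw [hres.cnt_eq hy.invol hyp (q := b) (h.crit.smul_of_commute hd' hyd' hb)]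
        exact Finite.one_lt_card_iff_nontrivial.2 ⟨⟨d', hd', hb, by rintro w rfl; exact hyd'⟩,
          ⟨e', he', h.crit.smul_of_commute hd' hde'.symm hb, by rintro w rfl; exact hye'⟩,
          fun e1 => hne' (congrArg Subtype.val e1)⟩
      exact lt_irrefl _ (heq ▸ hres.lt_of_small hy hyp hlt hc2 hbad hx₁p : deg M z < deg M z)
    have hq : deg M z + 1 = 2 ^ β := by rw [← heq]; exact hβ
    have hfix : Small.fix M x₁ = 2 ^ k + 1 := hk
    rcases hshape with rfl | rfl | rfl
    · exact heql hloc hE (fun y hy => by rw [hE.fix_eq hy hbad, hfix, ← hq]) x₁ hbad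
    · exact hbig hloc hE x₁ hbad (Or.inl (by rw [hfix, hq, ← pow_mul]))
    · exact hbig hloc hE x₁ hbad (Or.inr (by rw [hfix, hq, ← pow_mul]))
  · -- the small type
    rcases hshape with rfl | rfl | rfl
    · obtain ⟨E, hE, hEc, -, -⟩ :=
        h.exists_elementary_of_fix_eq hloc hx₁ hx₁p ha hq₀ hx₁q₀ hP hPx hmax hβ hβ2 hk hlt
      have hA := h.comm_of_point (p := r) fun d e hd he hdr her =>
        hEc d ((hE d).2 (Or.inl ⟨hd, hdr⟩)) e ((hE e).2 (Or.inl ⟨he, her⟩))
      have hres := h.res_of_comm hgen hloc hA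
      refine hlin hloc a (hres.uni_of_small hbad hx₁p hlt ha) (fun y hy => ?_) x₁ hbad
      obtain ⟨q, hyq⟩ := Small.exists_fix h.crit hy.invol
      rw [(hres.small_uniform hbad hx₁p hlt ha hy hyq).2, show Small.fix M x₁ = 2 ^ k + 1 from hk, ← hβ]
    · exact h.false_of_fix_sq hloc hx₁ hx₁p ha hq₀ hx₁q₀ hP hPx hmax hβ hβ2 hk hlt
    · exact hcube hloc x₁ r q₀ P β hx₁ hx₁p hq₀ hx₁q₀ hP hPx hmax hβ hβ2 hlt hk

/-- **The criterion from the residues.** -/
theorem critThm_of_residues
    (hres : ∀ (G : Type u) [Group G] [Finite G] (M : Subgroup G) (z : G), Setup M z →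
      normalClosure ({z} : Set G) = ⊤ → NoEqLinear M z ∧ NoEqBig M z ∧ NoSmallLinear M z ∧ NoSmallCube M z) :
    CritThm.{u} :=
  critThm_of_top fun G _ _ M z h hgen x hx _ => by
    obtain ⟨h1, h2, h3, h4⟩ := hres G M z h hgen
    exact h.false_of_residues hgen h1 h2 h3 h4 hx

end CfsgLib.SECrit
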