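import Cfsg.Agent.Lib.Invol.SECriterion.SmallType.Basic
import Cfsg.Agent.Lib.Invol.SECriterion.PureE
import Mathlib.GroupTheory.Nilpotent

/-!
# The strong embedding criterion: the small type residue from the commutation of the members

In a generated group with the local structure of every bad involution, if the conjugates of `z` at
every point commute, the hypotheses `Small.Res` hold: the two-elements of the regular group are a
subgroup because the kernel is central.
-/

set_option autoImplicit false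
set_option linter.style.haveILetI false

namespace CfsgLib.SECrit.Setup

open CfsgLib.Invol Subgroup

universe u

variable {G : Type u} [Group G] [Finite G] {M : Subgroup G} {z : G} (h : Setup M z)
include h

/-- An involution that is not a conjugate of `z` fixes two points. -/
theorem isBad_of_not_isConj {x : G} (hx : orderOf x = 2) (hnc : ¬ IsConj z x) : IsBad M x := by
  refine ⟨hx, ?_⟩
  by_contra hh
  refine hnc (h.crit.isConj_of_unique_fix h.hfree hx fun a b ha hb => ?_)
  by_contra hab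
  exact hh ⟨a, b, hab, ha, hb⟩

/-- The regular two-group of a bad involution. -/
theorem exists_regular_twoGroup {x : G} (hl : Local M z x)
    (hpair : ∃ d e : G, IsConj z d ∧ IsConj z e ∧ Commute x d ∧ Commute x e ∧ Commute d e ∧ d ≠ e)
    {p : G ⧸ M} (hxp : x • p = p) :
    ∃ P : Subgroup G, IsPGroup 2 P ∧ (∀ g ∈ P, Commute x g) ∧
      (∀ g ∈ P, g • p = p) ∧ (∀ c : G, Commute x c → c • p = p → ∀ g ∈ P, c * g * c⁻¹ ∈ P) ∧
      (∀ a b : G ⧸ M, x • a = a → x • b = b → a ≠ p → b ≠ p → ∃ g ∈ P, g • a = b) ∧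
      (∀ g ∈ P, ∀ a : G ⧸ M, x • a = a → a ≠ p → g • a = a → ∀ b : G ⧸ M, x • b = b → g • b = b) := by
  haveI : Fact (Nat.Prime 2) := ⟨Nat.prime_two⟩
  obtain ⟨Q, hQL, hKQ, hQp, hQ2, -, hQn, htr, hfree⟩ := hl.regular hpair p hxp
  set K := (locKer M z x).subgroupOf Q with hK
  have hKc : K ≤ center Q := fun k hk => mem_center_iff.2 fun g => Subtype.ext
    (hl.ker_comm k (mem_subgroupOf.1 hk) g (hQL g.2)).eq.symm
  haveI hKn : K.Normal := ⟨fun k hk g => by
    rwa [(mem_center_iff.1 (hKc hk) g), mul_inv_cancel_right]⟩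
  set π := QuotientGroup.mk' K with hπ
  have h2 : IsPGroup 2 (Q ⧸ K) := by
    intro q
    obtain ⟨g, rfl⟩ := QuotientGroup.mk'_surjective _ q
    obtain ⟨k, hk⟩ := hQ2 g g.2
    exact ⟨k, by rw [← map_pow]; exact (QuotientGroup.eq_one_iff _).2 (mem_subgroupOf.2 (by simpa using hk))⟩
  haveI : Group.IsNilpotent (Q ⧸ K) := h2.isNilpotent
  haveI : Group.IsNilpotent Q :=
    Subgroup.isNilpotent_of_ker_le_center π (by rw [hπ, QuotientGroup.ker_mk']; exact hKc)
  obtain ⟨S⟩ : Nonempty (Sylow 2 Q) := inferInstance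
  haveI hSn : (S : Subgroup Q).Normal := S.normal_of_normalizerCondition Group.normalizerCondition_of_isNilpotent
  have hmem : ∀ g : Q, (∃ k : ℕ, g ^ 2 ^ k = 1) → g ∈ (S : Subgroup Q) := by
    intro g hg
    have hp : IsPGroup 2 (zpowers g) := by
      obtain ⟨k, hk⟩ := hg
      rintro ⟨_, i, rfl⟩
      exact ⟨k, Subtype.ext (show (g ^ i) ^ 2 ^ k = 1 by
        rw [← zpow_natCast, zpow_comm, zpow_natCast, hk, one_zpow])⟩
    have hle : IsPGroup 2 (zpowers g ⊔ (S : Subgroup Q) : Subgroup Q) :=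
      hp.to_sup_of_normal_right S.2
    exact (S.3 hle le_sup_right) ▸ mem_sup_left (mem_zpowers g)
  have hsup : (S : Subgroup Q) ⊔ K = ⊤ := by
    rw [← index_eq_one]
    obtain ⟨n, hn⟩ := IsPGroup.iff_card.1 h2
    refine Nat.dvd_one.1 ?_
    have h1 : ((S : Subgroup Q) ⊔ K).index ∣ 2 ^ n := hn ▸ index_dvd_of_le le_sup_right
    have h3 : ((S : Subgroup Q) ⊔ K).index ∣ (S : Subgroup Q).index := index_dvd_of_le le_sup_left
    have hcop : Nat.Coprime (2 ^ n) (S : Subgroup Q).index :=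
      (Nat.prime_two.coprime_iff_not_dvd.2 S.not_dvd_index).pow_left n
    exact hcop ▸ Nat.dvd_gcd h1 h3
  refine ⟨(S : Subgroup Q).map Q.subtype, S.2.map _, ?_, ?_, ?_, ?_, ?_⟩
  · rintro _ ⟨g, -, rfl⟩; exact commute_of_mem_locGroup (hQL g.2)
  · rintro _ ⟨g, -, rfl⟩; exact hQp g g.2
  · rintro c hxc hcp _ ⟨g, hg, rfl⟩
    refine ⟨⟨c * g * c⁻¹, hQn c hxc hcp g g.2⟩, hmem _ ?_, rfl⟩
    obtain ⟨k, hk⟩ := S.2 ⟨g, hg⟩
    refine ⟨k, Subtype.ext ?_⟩
    show (c * (g : G) * c⁻¹) ^ 2 ^ k = 1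
    rw [conj_pow, show (g : G) ^ 2 ^ k = 1 from congrArg (fun t : (S : Subgroup Q) => ((t : Q) : G)) hk, mul_one,
      mul_inv_cancel]
  · intro a b ha hb hap hbp
    obtain ⟨g, hg, hgb⟩ := htr a b ha hb hap hbp
    obtain ⟨r, hr, k, hk, e⟩ := mem_sup_of_normal_right.1 (hsup ▸ mem_top (⟨g, hg⟩ : Q))
    refine ⟨(r : G), ⟨r, hr, rfl⟩, ?_⟩
    rw [← hgb, show g = (r : G) * (k : G) from (congrArg Subtype.val e).symm, mul_smul,
      (mem_locKer.1 (mem_subgroupOf.1 hk)).2 a ha]
  · rintro _ ⟨g, -, rfl⟩ a ha hap hga b hb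
    exact (mem_locKer.1 (hfree g g.2 a ha hap hga)).2 b hb

/-- **The small type residue** from the commutation of the members at each point. -/
theorem res_of_comm (hgen : normalClosure ({z} : Set G) = ⊤)
    (hloc : ∀ x : G, IsBad M x → Local M z x)
    (hA : ∀ (d e : G) (p : G ⧸ M), IsConj z d → IsConj z e → d • p = p → e • p = p → Commute d e) :
    Small.Res M z where
  crit := h.crit
  free := h.hfree
  gen := hgen
  comm := hA
  mul := fun _ _ hd he hde hne => h.isConj_mul hd he hde hne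
  reg := fun x hx hpair _ hxp =>
    h.exists_regular_twoGroup (hloc x (h.isBad_of_not_isConj hx.invol hx.not_conj)) hpair hxp

end CfsgLib.SECrit.Setup
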