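import Cfsg.Agent.Lib.Invol.SECriterion.PureE
import Cfsg.Agent.Lib.Invol.SECriterion.Consumers.Statement
import Mathlib.GroupTheory.Transfer

/-!
# The strong embedding criterion: transfer, and the assembly from the bad involutions

A character of `M` trivial on the conjugates of `z` in `M` and equal to `-1` on the conjugates of an
involution `x` in `M` shows that `x` is outside the normal closure of `z`.
-/

set_option autoImplicit false

namespace CfsgLib.SECrit

open CfsgLib.Invol Subgroup

universe u

variable {G : Type u} [Group G] [Finite G] {M : Subgroup G} {z : G}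

/-- The transfer of a character at an involution. -/
theorem transfer_invol (χ : M →* ℤˣ) {t : G} (ht : orderOf t = 2) (ε : ℤˣ)
    (hε : ∀ g : G, ∀ hm : g⁻¹ * t * g ∈ M, χ ⟨g⁻¹ * t * g, hm⟩ = ε) :
    MonoidHom.transfer χ t = ε ^ Nat.card {a : G ⧸ M // t • a = a} := by
  classical
  haveI : M.FiniteIndex := ⟨index_ne_zero_of_finite⟩
  letI := Fintype.ofFinite (Quotient (MulAction.orbitRel (zpowers t) (G ⧸ M)))
  rw [MonoidHom.transfer_eq_prod_quotient_orbitRel_zpowers_quot]
  have ht2 : t ^ 2 = 1 := by rw [← ht, pow_orderOf_eq_one]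
  have hmem : ∀ q : Quotient (MulAction.orbitRel (zpowers t) (G ⧸ M)),
      q.out.out⁻¹ * t ^ Function.minimalPeriod (t • ·) q.out * q.out.out ∈ M := fun q =>
    QuotientGroup.out_conj_pow_minimalPeriod_mem M t q.out
  have hper : ∀ q : Quotient (MulAction.orbitRel (zpowers t) (G ⧸ M)),
      Function.minimalPeriod (t • ·) q.out = if t • q.out = q.out then 1 else 2 := by
    intro q
    have hdvd : Function.minimalPeriod (t • ·) q.out ∣ 2 :=
      Function.IsPeriodicPt.minimalPeriod_dvd (by
        show ((t • ·)^[2]) q.out = q.out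
        simp [smul_smul, invol_mul_self ht])
    split_ifs with hq
    · exact Function.minimalPeriod_eq_one_iff_isFixedPt.2 hq
    · rcases (Nat.dvd_prime Nat.prime_two).1 hdvd with h1 | h1
      · exact absurd (Function.minimalPeriod_eq_one_iff_isFixedPt.1 h1) hq
      · exact h1
  have hval : ∀ q : Quotient (MulAction.orbitRel (zpowers t) (G ⧸ M)),
      χ ⟨q.out.out⁻¹ * t ^ Function.minimalPeriod (t • ·) q.out * q.out.out, hmem q⟩ =
        if t • q.out = q.out then ε else 1 := by
    intro q
    split_ifs with hq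
    · have hm : q.out.out⁻¹ * t * q.out.out ∈ M := by
        rw [← smul_coe_eq_iff, QuotientGroup.out_eq']
        exact hq
      refine (congrArg χ (Subtype.ext ?_)).trans (hε _ hm)
      show q.out.out⁻¹ * t ^ _ * q.out.out = q.out.out⁻¹ * t * q.out.out
      rw [hper q, if_pos hq, pow_one]
    · refine (congrArg χ (show _ = (1 : M) from Subtype.ext ?_)).trans (map_one χ)
      show q.out.out⁻¹ * t ^ _ * q.out.out = 1
      rw [hper q, if_neg hq, ht2, mul_one, inv_mul_cancel]
  rw [Finset.prod_congr rfl fun q _ => hval q, Finset.prod_ite, Finset.prod_const, Finset.prod_const_one,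
    mul_one]
  congr 1
  rw [← Fintype.card_subtype, ← Nat.card_eq_fintype_card]
  have horb : ∀ a : G ⧸ M, t • a = a → ∀ b : G ⧸ M, b ∈ MulAction.orbit (zpowers t) a → b = a := by
    rintro a ha b ⟨⟨g, hg⟩, rfl⟩
    exact MulAction.mem_stabilizer_iff.1 ((zpowers_le.2 (MulAction.mem_stabilizer_iff.2 ha)) hg)
  refine Nat.card_eq_of_bijective (fun q => ⟨q.1.out, q.2⟩) ⟨?_, ?_⟩
  · intro q q' hqq
    have h1 : q.1.out = q'.1.out := congrArg Subtype.val hqq
    exact Subtype.ext (by rw [← Quotient.out_eq q.1, h1, Quotient.out_eq])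
  · rintro ⟨a, ha⟩
    have h1 : (Quotient.mk (MulAction.orbitRel (zpowers t) (G ⧸ M)) a).out = a :=
      horb a ha _ (MulAction.orbitRel_apply.1 (Quotient.exact (Quotient.out_eq (Quotient.mk (MulAction.orbitRel (zpowers t) (G ⧸ M)) a))))
    exact ⟨⟨Quotient.mk _ a, by rw [h1]; exact ha⟩, Subtype.ext h1⟩

namespace Crit

variable (h : Crit M z)
include h

/-- **The transfer lemma.** -/
theorem not_mem_normalClosure {x : G} (hx : orderOf x = 2) (χ : M →* ℤˣ)
    (hz : ∀ d : M, IsConj z (d : G) → χ d = 1) (hxχ : ∀ y : M, IsConj x (y : G) → χ y = -1) :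
    x ∉ normalClosure ({z} : Set G) := by
  haveI : M.FiniteIndex := ⟨index_ne_zero_of_finite⟩
  intro hmem
  haveI : Fact (Nat.Prime 2) := ⟨Nat.prime_two⟩
  have hzero : MonoidHom.transfer χ z = 1 := by
    rw [transfer_invol χ h.invol 1 fun g hm => hz _ (isConj_iff.2 ⟨g⁻¹, by simp⟩), one_pow]
  have hle : normalClosure ({z} : Set G) ≤ (MonoidHom.transfer χ).ker :=
    normalClosure_le_normal (Set.singleton_subset_iff.2 hzero)
  have hfix : Odd (Nat.card {a : G ⧸ M // x • a = a}) := by
    have hmod := (isPGroup_zpowers_invol hx).card_modEq_card_fixedPoints (G ⧸ M)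
    have e : Nat.card {a : G ⧸ M // x • a = a} = Nat.card (MulAction.fixedPoints (zpowers x) (G ⧸ M)) :=
      Nat.card_congr (Equiv.subtypeEquivRight fun a =>
        ⟨fun ha g => forall_zpowers_fix ha g g.2, fun ha => ha ⟨x, mem_zpowers x⟩⟩)
    rw [e, Nat.odd_iff, ← hmod, ← Nat.odd_iff]
    exact h.odd_index
  have hx1 : MonoidHom.transfer χ x = 1 := hle hmem
  rw [transfer_invol χ hx (-1) fun g hm => hxχ _ (isConj_iff.2 ⟨g⁻¹, by simp⟩), hfix.neg_one_pow] at hx1
  exact absurd hx1 (by decide)

end Crit

/-- The conclusion from: no bad involution lies in the normal closure of `z`. -/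
theorem Setup.concl_of_bad (h : Setup M z)
    (hbad : ∀ x : G, IsBad M x → x ∉ normalClosure ({z} : Set G)) : Concl M z := fun x hx hxo =>
  h.crit.isConj_of_unique_fix h.hfree hxo fun a b ha hb =>
    by_contra fun hab => hbad x ⟨hxo, a, b, hab, ha, hb⟩ hx

/-- The criterion from: no bad involution lies in the normal closure of `z`. -/
theorem critThm_of_bad (hbad : ∀ (G : Type u) [Group G] [Finite G] (M : Subgroup G) (z : G), Setup M z →
    ∀ x : G, IsBad M x → x ∉ normalClosure ({z} : Set G)) : CritThm.{u} :=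
  critThm_of_setup fun G _ _ M z h => h.concl_of_bad (hbad G M z h)

end CfsgLib.SECrit
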