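import Cfsg.Agent.Lib.Invol.SECriterion.Count

/-!
# The strong embedding criterion: centralizers of 2-subgroups and of bad involutions
-/

set_option autoImplicit false

namespace CfsgLib.SECrit

open CfsgLib.Invol

variable {G : Type*} [Group G] [Finite G] {M : Subgroup G} {z : G}

namespace Crit

variable (h : Crit M z)
include h

/-- A 2-subgroup fixing `a` centralizes a conjugate of `z` at `a`. -/
theorem exists_commuting_at {A : Subgroup G} (hA : IsPGroup 2 A) {a : G ⧸ M}
    (hfix : ∀ x ∈ A, x • a = a) :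
    ∃ d : G, IsConj z d ∧ d • a = a ∧ ∀ x ∈ A, Commute x d := by
  haveI : Fact (Nat.Prime 2) := ⟨Nat.prime_two⟩
  letI : MulAction A (DAt z a) :=
    { smul := fun x d => ⟨(x : G) * d.1 * (x : G)⁻¹, d.2.1.trans (isConj_iff.2 ⟨x, rfl⟩), by
        have hx : (x : G)⁻¹ • a = a := hfix _ (A.inv_mem x.2)
        rw [mul_smul, mul_smul, hx, d.2.2, hfix _ x.2]⟩
      one_smul := fun d => Subtype.ext (show ((1 : A) : G) * d.1 * ((1 : A) : G)⁻¹ = d.1 by simp)
      mul_smul := fun x y d => Subtype.ext (show ((x * y : A) : G) * d.1 * ((x * y : A) : G)⁻¹ =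
        (x : G) * ((y : G) * d.1 * (y : G)⁻¹) * (x : G)⁻¹ by simp [mul_assoc]) }
  obtain ⟨d, hd⟩ := hA.nonempty_fixed_point_of_prime_not_dvd_card (DAt z a)
    (by rw [card_DAt]; exact fun hh => Nat.not_even_iff_odd.2 h.odd_deg (even_iff_two_dvd.2 hh))
  refine ⟨d.1, d.2.1, d.2.2, fun x hx => ?_⟩
  have h1 := congrArg Subtype.val (hd ⟨x, hx⟩)
  exact mul_inv_eq_iff_eq_mul.1 (show x * d.1 * x⁻¹ = d.1 from h1)

omit h in
theorem isPGroup_zpowers_invol {x : G} (hx : orderOf x = 2) : IsPGroup 2 (Subgroup.zpowers x) :=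
  IsPGroup.of_card (n := 1) (by rw [Nat.card_zpowers, hx, pow_one])

omit h in
theorem forall_zpowers_fix {x : G} {a : G ⧸ M} (hxa : x • a = a) :
    ∀ y ∈ Subgroup.zpowers x, y • a = a := fun _ hy =>
  MulAction.mem_stabilizer_iff.1 ((Subgroup.zpowers_le.2 (MulAction.mem_stabilizer_iff.2 hxa)) hy)

theorem exists_commuting_invol {x : G} (hx : orderOf x = 2) {a : G ⧸ M} (hxa : x • a = a) :
    ∃ d : G, IsConj z d ∧ d • a = a ∧ Commute x d := by
  obtain ⟨d, h1, h2, h3⟩ := h.exists_commuting_at (isPGroup_zpowers_invol hx) (forall_zpowers_fix hxa)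
  exact ⟨d, h1, h2, h3 x (Subgroup.mem_zpowers x)⟩

/-- The centralizer of a 2-subgroup moves any of its fixed points to any other one, by a
conjugate of `z`. -/
theorem exists_commuting_swap {A : Subgroup G} (hA : IsPGroup 2 A) {a b : G ⧸ M} (hab : a ≠ b)
    (ha : ∀ x ∈ A, x • a = a) (hb : ∀ x ∈ A, x • b = b) :
    ∃ g : G, IsConj z g ∧ g • a = b ∧ ∀ x ∈ A, Commute x g := by
  obtain ⟨d, hd, hda, hcd⟩ := h.exists_commuting_at hA ha
  obtain ⟨e, he, heb, hce⟩ := h.exists_commuting_at hA hb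
  obtain ⟨g, hg, hge⟩ := h.exists_midpoint hd he hda heb hab
  exact ⟨g, hg, h.smul_eq_of_conj he hge hda heb, fun x hx =>
    h.commute_midpoint hd he hg hda heb hab hge (hcd x hx) (hce x hx)⟩

/-- If a 2-subgroup fixes two points, the conjugates of `z` centralizing it are conjugate in its
centralizer. -/
theorem exists_conj_commuting {A : Subgroup G} (hA : IsPGroup 2 A) {p q : G ⧸ M} (hpq : p ≠ q)
    (hp : ∀ x ∈ A, x • p = p) (hq : ∀ x ∈ A, x • q = q) {d e : G} (hd : IsConj z d)
    (he : IsConj z e) (hcd : ∀ x ∈ A, Commute x d) (hce : ∀ x ∈ A, Commute x e) :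
    ∃ u : G, (∀ x ∈ A, Commute x u) ∧ u * d * u⁻¹ = e := by
  have key : ∀ d e : G, IsConj z d → IsConj z e → (∀ x ∈ A, Commute x d) → (∀ x ∈ A, Commute x e) →
      ∀ a b : G ⧸ M, d • a = a → e • b = b → a ≠ b →
        ∃ u : G, (∀ x ∈ A, Commute x u) ∧ u * d * u⁻¹ = e := by
    intro d e hd he hcd hce a b ha hb hab
    obtain ⟨g, hg, hge⟩ := h.exists_midpoint hd he ha hb hab
    exact ⟨g, fun x hx => h.commute_midpoint hd he hg ha hb hab hge (hcd x hx) (hce x hx), hge⟩
  obtain ⟨a, ha⟩ := h.fix_exists hd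
  obtain ⟨b, hb⟩ := h.fix_exists he
  by_cases hab : a = b
  · subst hab
    obtain ⟨c, hca, hc⟩ : ∃ c : G ⧸ M, c ≠ a ∧ ∀ x ∈ A, x • c = c := by
      by_cases hpa : p = a
      · exact ⟨q, fun hh => hpq (hpa.trans hh.symm), hq⟩
      · exact ⟨p, hpa, hp⟩
    obtain ⟨f, hf, hfc, hcf⟩ := h.exists_commuting_at hA hc
    obtain ⟨u, hu, hud⟩ := key d f hd hf hcd hcf a c ha hfc hca.symm
    obtain ⟨v, hv, hvf⟩ := key f e hf he hcf hce c a hfc hb hca
    refine ⟨v * u, fun x hx => (hv x hx).mul_right (hu x hx), ?_⟩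
    rw [← hvf, ← hud]; group
  · exact key d e hd he hcd hce a b ha hb hab

/-- An involution moving `a` commutes with a conjugate of `z` moving `a` to the same point. -/
theorem exists_commuting_swap_of_moved {x : G} (hx : orderOf x = 2) {a : G ⧸ M} (hxa : x • a ≠ a) :
    ∃ g : G, IsConj z g ∧ g • a = x • a ∧ Commute x g := by
  obtain ⟨d, hd, hda⟩ := h.exists_fixing a
  have he : IsConj z (x * d * x⁻¹) := hd.trans (isConj_iff.2 ⟨x, rfl⟩)
  have hea : (x * d * x⁻¹) • (x • a) = x • a := by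
    rw [smul_smul, inv_mul_cancel_right, mul_smul, hda]
  obtain ⟨g, hg, hge⟩ := h.exists_midpoint hd he hda hea hxa.symm
  have hga : g • a = x • a := h.smul_eq_of_conj he hge hda hea
  refine ⟨g, hg, hga, ?_⟩
  have hgo := h.orderOf_conj hg
  have hgb : g • (x • a) ≠ x • a := by
    rw [← hga, smul_smul, invol_mul_self hgo, one_smul, hga]; exact hxa.symm
  have hgd : g * (x * d * x⁻¹) * g⁻¹ = d := by
    rw [← hge, invol_inv hgo]
    calc g * (g * d * g) * g = (g * g) * d * (g * g) := by group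
      _ = d := by rw [invol_mul_self hgo, one_mul, mul_one]
  have heq : g * (x * d * x⁻¹) * g⁻¹ = (x * g * x⁻¹) * (x * d * x⁻¹) * (x * g * x⁻¹)⁻¹ := by
    have e2 : (x * g * x⁻¹) * (x * d * x⁻¹) * (x * g * x⁻¹)⁻¹ = x * (g * d * g⁻¹) * x⁻¹ := by group
    rw [hgd, e2, hge, invol_inv hx]
    calc d = (x * x) * d * (x * x) := by rw [invol_mul_self hx, one_mul, mul_one]
      _ = x * (x * d * x) * x := by group
  exact (mul_inv_eq_iff_eq_mul.1
    (h.midpoint_unique he hg (hg.trans (isConj_iff.2 ⟨x, rfl⟩)) hea hgb heq).symm)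

/-- **Bad involutions stay bad**: if `x` fixes two points but not all, so does its product with a
conjugate of `z` centralizing it. -/
theorem exists_two_fix_mul {x d : G} (hx : orderOf x = 2) (hd : IsConj z d) (hxd : Commute x d)
    {p q a : G ⧸ M} (hpq : p ≠ q) (hp : x • p = p) (hq : x • q = q) (ha : x • a ≠ a) :
    ∃ r s : G ⧸ M, r ≠ s ∧ (x * d) • r = r ∧ (x * d) • s = s := by
  obtain ⟨g, hg, hga, hxg⟩ := h.exists_commuting_swap_of_moved hx ha
  obtain ⟨b, hb⟩ := h.fix_exists hg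
  have hxb : x • b = b := h.smul_of_commute hg hxg hb
  obtain ⟨u, hu, hud⟩ := h.exists_conj_commuting (isPGroup_zpowers_invol hx) hpq
    (forall_zpowers_fix hp) (forall_zpowers_fix hq) hg hd
    (fun y hy => by obtain ⟨i, rfl⟩ := Subgroup.mem_zpowers_iff.1 hy; exact hxg.zpow_left i)
    (fun y hy => by obtain ⟨i, rfl⟩ := Subgroup.mem_zpowers_iff.1 hy; exact hxd.zpow_left i)
  have hux : Commute x u := hu x (Subgroup.mem_zpowers x)
  have e1 : x * d = u * (x * g) * u⁻¹ := by
    rw [← hud, ← mul_assoc u x g, ← hux.eq]; group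
  refine ⟨u • a, u • b, fun hh => ?_, ?_, ?_⟩
  · have hab : a = b := smul_left_cancel u hh
    rw [hab] at ha; exact ha hxb
  · rw [e1, smul_smul, inv_mul_cancel_right, mul_smul, mul_smul, hga,
      smul_smul x x, invol_mul_self hx, one_smul]
  · rw [e1, smul_smul, inv_mul_cancel_right, mul_smul, mul_smul, hb, hxb]

/-- Two conjugates of `z` mapping `a` to the same other point have a product of odd order. -/
theorem odd_mul_swaps {g k : G} (hg : IsConj z g) (hk : IsConj z k) {a b : G ⧸ M} (hab : a ≠ b)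
    (hga : g • a = b) (hka : k • a = b) : Odd (orderOf (g * k)) := by
  obtain ⟨c, hgc⟩ := h.fix_exists hg
  obtain ⟨c', hkc⟩ := h.fix_exists hk
  by_cases hcc : c = c'
  swap
  · exact h.odd_mul hg hk hgc hkc hcc
  by_contra hodd
  have heven := Nat.not_odd_iff_even.1 hodd
  have hgo := h.orderOf_conj hg
  have hko := h.orderOf_conj hk
  set w := (g * k) ^ (orderOf (g * k) / 2) with hw
  have hwo : orderOf w = 2 := orderOf_pow_half heven
  have hwg : Commute w g := commute_pow_half (invol_conj_mul hgo hko) heven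
  have hgka : (g * k) • a = a := by
    rw [mul_smul, hka, ← hga, smul_smul, invol_mul_self hgo, one_smul]
  have hwa : w • a = a :=
    forall_zpowers_fix hgka w (Subgroup.pow_mem _ (Subgroup.mem_zpowers _) _)
  have hgw : IsConj z (g * w) := hw ▸ h.isConj_mul_half hg hk
  obtain ⟨d, hd, hda, hwd⟩ := h.exists_commuting_invol hwo hwa
  have hne : g ≠ g * w := fun hh => invol_ne_one hwo (left_eq_mul.1 hh)
  have hprod : g * (g * w) = w := by rw [← mul_assoc, invol_mul_self hgo, one_mul]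
  have hdc : d • c = c :=
    h.smul_of_commute_mul hg hgw ((Commute.refl g).mul_right hwg.symm) hne (hprod.symm ▸ hwd.symm) hgc
  have hac : a = c := h.fix_unique hd hda hdc
  rw [← hac] at hgc
  exact hab (hgc.symm.trans hga)

end Crit

end CfsgLib.SECrit
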