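import Cfsg.Agent.Lib.Invol.SECriterion.SignKill
import Cfsg.Agent.Lib.Invol.SECriterion.Centralizer
import Mathlib.GroupTheory.Transfer

/-!
# The strong embedding criterion: `M` controls the fusion of its two-elements

A two-element of `M` fixing two points commutes with a conjugate of `z` exchanging them, so the
two-elements of `M` conjugate in `G` are conjugate in `M`.  If `G` is generated by the conjugates
of `z` and two commuting ones have their product conjugate to `z`, the transfer shows that `M` has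
no non-trivial abelian two-quotient.
-/

set_option autoImplicit false
set_option linter.style.haveILetI false

namespace CfsgLib.SECrit

open CfsgLib.Invol Subgroup

universe u

variable {G : Type u} [Group G] [Finite G] {M : Subgroup G} {z : G}

omit [Finite G] in
theorem isPGroup_zpowers_two {g : G} {k : ℕ} (hg : g ^ 2 ^ k = 1) : IsPGroup 2 (zpowers g) := by
  rintro ⟨_, i, rfl⟩
  refine ⟨k, Subtype.ext ?_⟩
  show (g ^ i) ^ (2 ^ k) = 1
  rw [← zpow_natCast, zpow_comm, zpow_natCast, hg, one_zpow]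

namespace Crit

variable (h : Crit M z)
include h

/-- **Fusion of two-elements.** -/
theorem isConj_of_two_element {g : G} {k : ℕ} (hg : g ^ 2 ^ k = 1) (hgM : g ∈ M) {y : G}
    (hyM : y ∈ M) (hgy : IsConj g y) : ∃ m ∈ M, m * g * m⁻¹ = y := by
  obtain ⟨c, hc⟩ := isConj_iff.1 hgy
  by_cases hcM : c ∈ M
  · exact ⟨c, hcM, hc⟩
  have hne : ((1 : G) : G ⧸ M) ≠ ((c⁻¹ : G) : G ⧸ M) := fun e => hcM (by
    have h1 := QuotientGroup.eq.1 e
    simpa using inv_mem h1)
  have hfix : ∀ a : G ⧸ M, g • a = a → ∀ x ∈ zpowers g, x • a = a := fun a ha x hx =>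
    forall_zpowers_fix ha x hx
  have h1 : g • ((1 : G) : G ⧸ M) = ((1 : G) : G ⧸ M) := by
    rw [smul_coe_eq_iff]; simpa using hgM
  have h2 : g • ((c⁻¹ : G) : G ⧸ M) = ((c⁻¹ : G) : G ⧸ M) := by
    rw [smul_coe_eq_iff, inv_inv, hc]; exact hyM
  obtain ⟨t, -, hta, htg⟩ := h.exists_commuting_swap (isPGroup_zpowers_two hg) hne (hfix _ h1)
    (hfix _ h2)
  refine ⟨c * t, ?_, ?_⟩
  · rw [MulAction.Quotient.smul_coe, smul_eq_mul, mul_one, QuotientGroup.eq] at hta
    simpa using inv_mem hta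
  · rw [mul_inv_rev]
    calc c * t * g * (t⁻¹ * c⁻¹) = c * (t * g * t⁻¹) * c⁻¹ := by group
      _ = y := by rw [← (htg g (mem_zpowers g)).eq, mul_inv_cancel_right, hc]

/-- The transfer of a character at a two-element of `M`. -/
theorem transfer_two_element {A : Type*} [CommGroup A] (χ : M →* A) [M.FiniteIndex] {g : M} {k : ℕ}
    (hg : (g : G) ^ 2 ^ k = 1) : MonoidHom.transfer χ (g : G) = χ g ^ M.index := by
  classical
  letI := Fintype.ofFinite (Quotient (MulAction.orbitRel (zpowers (g : G)) (G ⧸ M)))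
  rw [MonoidHom.transfer_eq_prod_quotient_orbitRel_zpowers_quot,
    index_eq_sum_minimalPeriod M (g : G), ← Finset.prod_pow_eq_pow_sum]
  refine Finset.prod_congr rfl fun q _ => ?_
  set n := Function.minimalPeriod ((g : G) • ·) q.out
  have hgn : ((g : G) ^ n) ^ 2 ^ k = 1 := by rw [← pow_mul, mul_comm, pow_mul, hg, one_pow]
  obtain ⟨m, hm, hmc⟩ := h.isConj_of_two_element hgn (pow_mem g.2 n)
    (QuotientGroup.out_conj_pow_minimalPeriod_mem M (g : G) q.out)
    (isConj_iff.2 ⟨q.out.out⁻¹, by rw [inv_inv]⟩)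
  rw [← map_pow]
  refine Eq.trans (congrArg χ (show _ = (⟨m, hm⟩ : M) * g ^ n * (⟨m, hm⟩ : M)⁻¹ from
    Subtype.ext hmc.symm)) ?_
  rw [map_mul, map_mul, map_inv, mul_right_comm, mul_inv_cancel, one_mul]

/-- **No abelian two-quotient.** -/
theorem char_eq_one_of_two (hgen : normalClosure ({z} : Set G) = ⊤) {A : Type*} [CommGroup A]
    (hA : IsPGroup 2 A) (χ : M →* A) {d v : G} (hd : IsConj z d) (hv : IsConj z v) (hdM : d ∈ M)
    (hvM : v ∈ M) (hdv : IsConj z (d * v)) : χ = 1 := by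
  haveI : M.FiniteIndex := ⟨index_ne_zero_of_finite⟩
  haveI : Fact (Nat.Prime 2) := ⟨Nat.prime_two⟩
  have key : ∀ c : M, IsConj z (c : G) → χ c = χ ⟨z, h.mem⟩ := by
    intro c hc
    obtain ⟨k, hk, hkc⟩ := h.exists_mem_conj hc c.2
    rw [show c = ⟨k, hk⟩ * ⟨z, h.mem⟩ * (⟨k, hk⟩ : M)⁻¹ from Subtype.ext hkc.symm, map_mul, map_mul,
      map_inv, mul_right_comm, mul_inv_cancel, one_mul]
  have hz1 : χ ⟨z, h.mem⟩ = 1 := by
    have h1 : χ (⟨d, hdM⟩ * ⟨v, hvM⟩) = χ ⟨z, h.mem⟩ := key _ hdv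
    rw [map_mul, key ⟨d, hdM⟩ hd, key ⟨v, hvM⟩ hv] at h1
    exact mul_eq_left.1 h1
  have hz2 : ((⟨z, h.mem⟩ : M) : G) ^ 2 ^ 1 = 1 := by
    rw [pow_one, pow_two]; exact invol_mul_self h.invol
  have htz : MonoidHom.transfer χ z = 1 := by
    have := h.transfer_two_element χ hz2
    rwa [hz1, one_pow] at this
  have hall : ∀ g : G, MonoidHom.transfer χ g = 1 := fun g =>
    (normalClosure_le_normal (N := (MonoidHom.transfer χ).ker) (Set.singleton_subset_iff.2 htz))
      (hgen.symm ▸ mem_top g)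
  refine MonoidHom.ext fun c => ?_
  obtain ⟨a, b, hb, hab⟩ := Nat.exists_eq_two_pow_mul_odd (orderOf_pos (c : G)).ne'
  have hcb : ((c ^ b : M) : G) ^ 2 ^ a = 1 := by
    rw [SubmonoidClass.coe_pow, ← pow_mul, mul_comm, ← hab, pow_orderOf_eq_one]
  have h3 : χ c ^ (b * M.index) = 1 := by
    rw [pow_mul, ← map_pow, ← h.transfer_two_element χ hcb]
    exact hall _
  have hodd : Odd (b * M.index) := hb.mul (by rw [index_eq_card]; exact h.odd_index)
  obtain ⟨j, hj⟩ := IsPGroup.iff_orderOf.1 hA (χ c)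
  rw [← orderOf_dvd_iff_pow_eq_one, hj] at h3
  cases j with
  | zero => simpa using hj
  | succ j =>
    exact absurd ((dvd_pow_self 2 j.succ_ne_zero).trans h3) hodd.not_two_dvd_nat

end Crit

end CfsgLib.SECrit
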