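import Cfsg.Agent.Lib.Invol.SECriterion.Assembly
import Cfsg.Agent.Lib.Invol.SECriterion.Cube.NoCube
import Cfsg.Agent.Lib.Invol.SECriterion.SmallType.Main
import Cfsg.Agent.Lib.Invol.SECriterion.EqType.Equal.Main
import Cfsg.Agent.Lib.Invol.SECriterion.EqType.Big.Main

/-!
# The strong embedding criterion

All residues of the assembly are proved, so the criterion holds.
-/

set_option autoImplicit false

namespace CfsgLib.SECrit

universe u

/-- **The strong embedding criterion.** -/
theorem critThm : CritThm.{u} :=
  critThm_of_residues fun _ _ _ M z h hgen =>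
    ⟨h.noEqLinear, h.noEqBig hgen, noSmallLinear M z, h.noSmallCube hgen⟩

end CfsgLib.SECrit
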