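import Cfsg.Agent.Lib.Invol.Basic
import Mathlib.GroupTheory.GroupAction.Quotient

/-!
# The strong embedding criterion: conjugates of a 2-central involution on the cosets of `M`

`z` is a 2-central involution of `M`, every conjugate of `z` lies in exactly one conjugate of `M`
and the product of two commuting conjugates has its centralizer in that conjugate.
-/

set_option autoImplicit false

namespace CfsgLib.SECrit

open CfsgLib.Invol

variable {G : Type*} [Group G]

/-- The setting of Aschbacher's criterion. -/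
structure Crit (M : Subgroup G) (z : G) : Prop where
  invol : orderOf z = 2
  mem : z ∈ M
  sylow : Odd (Subgroup.centralizer ({z} : Set G)).index
  fuse : ∀ g : G, g * z * g⁻¹ ∈ M → g ∈ M
  prod : ∀ g : G, Commute z (g * z * g⁻¹) → g * z * g⁻¹ ≠ z →
    Subgroup.centralizer ({z * (g * z * g⁻¹)} : Set G) ≤ M

variable {M : Subgroup G} {z : G}

theorem smul_coe_eq_iff (d g : G) :
    d • (g : G ⧸ M) = (g : G ⧸ M) ↔ g⁻¹ * d * g ∈ M := by
  rw [MulAction.Quotient.smul_coe, smul_eq_mul, QuotientGroup.eq, ← inv_mem_iff]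
  simp [mul_assoc]

namespace Crit

variable (h : Crit M z)
include h

theorem orderOf_conj {d : G} (hd : IsConj z d) : orderOf d = 2 := by
  obtain ⟨g, rfl⟩ := isConj_iff.1 hd
  exact invol_conj h.invol g

theorem fix_coe (g : G) : (g * z * g⁻¹) • (g : G ⧸ M) = (g : G ⧸ M) := by
  rw [smul_coe_eq_iff]
  simpa [mul_assoc] using h.mem

theorem fix_exists {d : G} (hd : IsConj z d) : ∃ a : G ⧸ M, d • a = a := by
  obtain ⟨g, rfl⟩ := isConj_iff.1 hd
  exact ⟨g, h.fix_coe g⟩

theorem eq_coe_of_fix {g : G} {a : G ⧸ M} (ha : (g * z * g⁻¹) • a = a) : a = (g : G ⧸ M) := by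
  obtain ⟨k, rfl⟩ := QuotientGroup.mk_surjective a
  rw [smul_coe_eq_iff] at ha
  rw [QuotientGroup.eq]
  refine h.fuse _ ?_
  simpa [mul_assoc] using ha

theorem fix_unique {d : G} (hd : IsConj z d) {a b : G ⧸ M} (ha : d • a = a) (hb : d • b = b) :
    a = b := by
  obtain ⟨g, rfl⟩ := isConj_iff.1 hd
  rw [h.eq_coe_of_fix ha, h.eq_coe_of_fix hb]

theorem exists_fixing (a : G ⧸ M) : ∃ d : G, IsConj z d ∧ d • a = a := by
  obtain ⟨g, rfl⟩ := QuotientGroup.mk_surjective a
  exact ⟨g * z * g⁻¹, isConj_iff.2 ⟨g, rfl⟩, h.fix_coe g⟩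

/-- Whatever commutes with a conjugate of `z` fixes its point. -/
theorem smul_of_commute {d c : G} (hd : IsConj z d) (hc : Commute c d) {a : G ⧸ M}
    (ha : d • a = a) : c • a = a :=
  h.fix_unique hd (by rw [smul_smul, ← hc.eq, mul_smul, ha]) ha

/-- Whatever commutes with the product of two commuting conjugates fixes their point. -/
theorem smul_of_commute_mul {d e c : G} (hd : IsConj z d) (he : IsConj z e) (hde : Commute d e)
    (hne : d ≠ e) (hc : Commute c (d * e)) {a : G ⧸ M} (ha : d • a = a) : c • a = a := by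
  obtain ⟨g, rfl⟩ := isConj_iff.1 hd
  obtain ⟨k, hk⟩ := isConj_iff.1 he
  rw [h.eq_coe_of_fix ha, smul_coe_eq_iff]
  have e1 : (g⁻¹ * k) * z * (g⁻¹ * k)⁻¹ = g⁻¹ * e * g := by rw [← hk]; group
  refine h.prod (g⁻¹ * k) ?_ ?_ ?_
  · rw [e1]
    show z * (g⁻¹ * e * g) = g⁻¹ * e * g * z
    calc z * (g⁻¹ * e * g) = g⁻¹ * ((g * z * g⁻¹) * e) * g := by group
      _ = g⁻¹ * (e * (g * z * g⁻¹)) * g := by rw [hde.eq]
      _ = g⁻¹ * e * g * z := by group
  · rw [e1]
    intro hh
    exact hne (by rw [show e = g * (g⁻¹ * e * g) * g⁻¹ by group, hh])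
  · rw [Subgroup.mem_centralizer_singleton_iff, e1]
    calc g⁻¹ * c * g * (z * (g⁻¹ * e * g)) = g⁻¹ * (c * (g * z * g⁻¹ * e)) * g := by group
      _ = g⁻¹ * ((g * z * g⁻¹ * e) * c) * g := by rw [hc.eq]
      _ = z * (g⁻¹ * e * g) * (g⁻¹ * c * g) := by group

/-- Multiplying a conjugate of `z` by the half power of its product with another one gives a
conjugate of `z`. -/
theorem isConj_mul_half {d e : G} (hd : IsConj z d) (he : IsConj z e) :
    IsConj z (d * (d * e) ^ (orderOf (d * e) / 2)) := by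
  have hdo := h.orderOf_conj hd
  have heo := h.orderOf_conj he
  rw [← zpow_natCast]
  generalize orderOf (d * e) / 2 = n
  rcases Nat.even_or_odd' n with ⟨j, rfl | rfl⟩
  · refine hd.trans (isConj_iff.2 ⟨(d * e) ^ (-(j : ℤ)), ?_⟩)
    rw [zpow_conj_invol hdo heo]
    congr 2; push_cast; ring
  · refine he.trans (isConj_iff.2 ⟨(d * e) ^ (-(j : ℤ)), ?_⟩)
    have hed : e = d * (d * e) := by rw [← mul_assoc, invol_mul_self hdo, one_mul]
    calc (d * e) ^ (-(j : ℤ)) * e * ((d * e) ^ (-(j : ℤ)))⁻¹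
        = ((d * e) ^ (-(j : ℤ)) * d * ((d * e) ^ (-(j : ℤ)))⁻¹) * (d * e) := by
          have key : ∀ a : G, a ^ (-(j : ℤ)) * (d * a) * (a ^ (-(j : ℤ)))⁻¹
              = a ^ (-(j : ℤ)) * d * (a ^ (-(j : ℤ)))⁻¹ * a := fun a => by group
          rw [← key (d * e), ← hed]
      _ = d * (d * e) ^ (((2 * j + 1 : ℕ) : ℤ)) := by
          rw [zpow_conj_invol hdo heo, mul_assoc, ← zpow_add_one]
          congr 2; push_cast; ring

/-- Conjugates of `z` fixing different points have products of odd order. -/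
theorem odd_mul [Finite G] {d e : G} (hd : IsConj z d) (he : IsConj z e) {a b : G ⧸ M}
    (ha : d • a = a) (hb : e • b = b) (hab : a ≠ b) : Odd (orderOf (d * e)) := by
  have hdo := h.orderOf_conj hd
  have heo := h.orderOf_conj he
  by_contra hodd
  have heven := Nat.not_odd_iff_even.1 hodd
  set c := (d * e) ^ (orderOf (d * e) / 2) with hc
  have hco : orderOf c = 2 := orderOf_pow_half heven
  have hcd : Commute c d := commute_pow_half (invol_conj_mul hdo heo) heven
  have hce : Commute c e := commute_pow_half (invol_conj_mul' hdo heo) heven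
  have hdc : IsConj z (d * c) := hc ▸ h.isConj_mul_half hd he
  have hne : d ≠ d * c := fun hh => invol_ne_one hco (left_eq_mul.1 hh)
  have hcomm : Commute d (d * c) := (Commute.refl d).mul_right hcd.symm
  have hprod : d * (d * c) = c := by rw [← mul_assoc, invol_mul_self hdo, one_mul]
  have hea : e • a = a := h.smul_of_commute_mul hd hdc hcomm hne (hprod.symm ▸ hce.symm) ha
  exact hab (h.fix_unique he hea hb)

/-- An element conjugating `d` to `e` moves the point of `d` to the point of `e`. -/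
theorem smul_eq_of_conj {d e g : G} (he : IsConj z e) (hg : g * d * g⁻¹ = e) {a b : G ⧸ M}
    (ha : d • a = a) (hb : e • b = b) : g • a = b := by
  refine h.fix_unique he ?_ hb
  rw [← hg, smul_smul, inv_mul_cancel_right, mul_smul, ha]

/-- Two conjugates of `z` at different points are exchanged by a third one. -/
theorem exists_midpoint [Finite G] {d e : G} (hd : IsConj z d) (he : IsConj z e) {a b : G ⧸ M}
    (ha : d • a = a) (hb : e • b = b) (hab : a ≠ b) :
    ∃ g : G, IsConj z g ∧ g * d * g⁻¹ = e := by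
  have hdo := h.orderOf_conj hd
  have heo := h.orderOf_conj he
  have hodd := h.odd_mul hd he ha hb hab
  obtain ⟨i, hi⟩ := hodd
  refine ⟨d * (d * e) ^ ((i + 1 : ℕ) : ℤ), ?_, ?_⟩
  · refine hd.trans (Invol.isConj_of_odd hdo (orderOf_reflection hdo heo _) ?_)
    rw [← mul_assoc, invol_mul_self hdo, one_mul]
    have hodd' : Odd (orderOf (d * e)) := ⟨i, hi⟩
    exact hodd'.of_dvd_nat (orderOf_dvd_of_mem_zpowers (Subgroup.zpow_mem_zpowers _ _))
  · have h1 : (d * e) ^ (2 * ((i + 1 : ℕ) : ℤ)) = d * e := by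
      rw [show 2 * ((i + 1 : ℕ) : ℤ) = ((2 * i + 1 : ℕ) : ℤ) + 1 by push_cast; ring, zpow_add_one,
        zpow_natCast, ← hi, pow_orderOf_eq_one, one_mul]
    calc d * (d * e) ^ ((i + 1 : ℕ) : ℤ) * d * (d * (d * e) ^ ((i + 1 : ℕ) : ℤ))⁻¹
        = d * ((d * e) ^ ((i + 1 : ℕ) : ℤ) * d * ((d * e) ^ ((i + 1 : ℕ) : ℤ))⁻¹) * d⁻¹ := by
          group
      _ = e := by
          rw [zpow_conj_invol hdo heo, ← mul_assoc d d, invol_mul_self hdo, one_mul, zpow_neg,
            h1, mul_inv_rev, invol_inv hdo, invol_inv heo, mul_assoc, invol_mul_self hdo, mul_one]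

end Crit

end CfsgLib.SECrit
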