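import Cfsg.Agent.Lib.Invol.SECriterion.Centralizer
import Cfsg.Agent.Lib.Invol.ZStar

/-!
# The strong embedding criterion: involutions with one fixed point, two point stabilizers

An involution with one fixed point commuting with a bad involution is a conjugate of `z`; a swap
of two points is central in the stabilizer of the pair modulo the odd core.
-/

set_option autoImplicit false

namespace CfsgLib.SECrit

open CfsgLib.Invol

variable {G : Type*} [Group G] {M : Subgroup G} {z : G}

/-- The setwise stabilizer of a pair of points. -/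
def pairStab (a b : G ⧸ M) : Subgroup G where
  carrier := {n | (n • a = a ∧ n • b = b) ∨ (n • a = b ∧ n • b = a)}
  one_mem' := Or.inl ⟨one_smul _ a, one_smul _ b⟩
  mul_mem' := by
    rintro m n (⟨h1, h2⟩ | ⟨h1, h2⟩) (⟨h3, h4⟩ | ⟨h3, h4⟩)
    · exact Or.inl ⟨by rw [mul_smul, h3, h1], by rw [mul_smul, h4, h2]⟩
    · exact Or.inr ⟨by rw [mul_smul, h3, h2], by rw [mul_smul, h4, h1]⟩
    · exact Or.inr ⟨by rw [mul_smul, h3, h1], by rw [mul_smul, h4, h2]⟩
    · exact Or.inl ⟨by rw [mul_smul, h3, h2], by rw [mul_smul, h4, h1]⟩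
  inv_mem' := by
    rintro n (⟨h1, h2⟩ | ⟨h1, h2⟩)
    · exact Or.inl ⟨inv_smul_eq_iff.2 h1.symm, inv_smul_eq_iff.2 h2.symm⟩
    · exact Or.inr ⟨inv_smul_eq_iff.2 h2.symm, inv_smul_eq_iff.2 h1.symm⟩

theorem mem_pairStab_of_fix {a b : G ⧸ M} {k : G} (ha : k • a = a) (hb : k • b = b) :
    k ∈ pairStab a b :=
  Or.inl ⟨ha, hb⟩

variable [Finite G]

namespace Crit

variable (h : Crit M z)
include h

theorem swap_mem_pairStab {a b : G ⧸ M} {g : G} (hg : IsConj z g) (hga : g • a = b) :
    g ∈ pairStab a b :=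
  Or.inr ⟨hga, by rw [← hga, smul_smul, invol_mul_self (h.orderOf_conj hg), one_smul]⟩

/-- A swap is isolated in the stabilizer of its pair. -/
theorem isolated_swap {a b : G ⧸ M} (hab : a ≠ b) {g : G} (hg : IsConj z g) (hga : g • a = b) :
    Cfsg.IsIsolatedInvolution (⟨g, h.swap_mem_pairStab hg hga⟩ : pairStab a b) := by
  have hgo := h.orderOf_conj hg
  refine ⟨by rw [Subgroup.orderOf_mk]; exact hgo, fun n hn => Subtype.ext ?_⟩
  obtain ⟨n, hnm⟩ := n
  show n * g * n⁻¹ = g
  have hc : Commute g (n * g * n⁻¹) := congrArg Subtype.val hn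
  have hk : IsConj z (n * g * n⁻¹) := hg.trans (isConj_iff.2 ⟨n, rfl⟩)
  have hgb : g • b = a := by rw [← hga, smul_smul, invol_mul_self hgo, one_smul]
  have hka : (n * g * n⁻¹) • a = b := by
    rcases hnm with ⟨h1, h2⟩ | ⟨h1, h2⟩
    · rw [mul_smul, mul_smul, inv_smul_eq_iff.2 h1.symm, hga, h2]
    · rw [mul_smul, mul_smul, inv_smul_eq_iff.2 h2.symm, hgb, h1]
  have hodd := h.odd_mul_swaps hg hk hab hga hka
  have hsq : (g * (n * g * n⁻¹)) ^ (2 : ℕ) = 1 := by
    rw [hc.mul_pow, pow_two, pow_two, invol_mul_self hgo, one_mul,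
      invol_mul_self (h.orderOf_conj hk)]
  have h1 : g * (n * g * n⁻¹) = 1 := eq_one_of_odd_of_pow_two (k := 1) hodd (by rwa [pow_one])
  exact (inv_eq_of_mul_eq_one_right h1).symm.trans (invol_inv hgo)

/-- A swap centralizes the two point stabilizer modulo its odd core. -/
theorem commutator_swap_mem_core {a b : G ⧸ M} (hab : a ≠ b) {g : G} (hg : IsConj z g)
    (hga : g • a = b) (n : pairStab a b) :
    (⟨g, h.swap_mem_pairStab hg hga⟩ : pairStab a b) * n *
        (⟨g, h.swap_mem_pairStab hg hga⟩ : pairStab a b)⁻¹ * n⁻¹ ∈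
      Cfsg.pPrimeCore 2 (pairStab a b) :=
  zstar (h.isolated_swap hab hg hga) n

variable (hfree : ∀ c : G, orderOf c = 2 → ∃ a : G ⧸ M, c • a ≠ a)
include hfree

/-- An involution with one fixed point commuting with a bad involution is conjugate to `z`. -/
theorem isConj_of_single_fix {x y : G} (hx : orderOf x = 2) {p q : G ⧸ M} (hpq : p ≠ q)
    (hp : x • p = p) (hq : x • q = q) (hy : orderOf y = 2) (hxy : Commute x y)
    (hy1 : ∀ a b : G ⧸ M, y • a = a → y • b = b → a = b) : IsConj z y := by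
  haveI : Fact (Nat.Prime 2) := ⟨Nat.prime_two⟩
  obtain ⟨o, ho⟩ := hfree x hx
  -- a common fixed point
  obtain ⟨c, hxc, hyc⟩ : ∃ c : G ⧸ M, x • c = c ∧ y • c = c := by
    have hA : IsPGroup 2 (Subgroup.closure ({x, y} : Set G)) :=
      two_group_of_pair hx hy (s := (orderOf (x * y)).factorization 2) (by
        have hdvd : orderOf (x * y) ∣ 2 := orderOf_dvd_of_pow_eq_one (by
          rw [hxy.mul_pow, pow_two, pow_two, invol_mul_self hx, one_mul, invol_mul_self hy])
        rcases (Nat.dvd_prime Nat.prime_two).1 hdvd with h2 | h2 <;> rw [h2] <;>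
          simp [Nat.Prime.factorization_self Nat.prime_two])
    obtain ⟨c, hc⟩ := hA.nonempty_fixed_point_of_prime_not_dvd_card (G ⧸ M) (fun hh =>
      Nat.not_even_iff_odd.2 h.odd_index (even_iff_two_dvd.2 hh))
    exact ⟨c, hc ⟨x, Subgroup.subset_closure (by simp)⟩, hc ⟨y, Subgroup.subset_closure (by simp)⟩⟩
  obtain ⟨b, hbc, hxb⟩ : ∃ b : G ⧸ M, b ≠ c ∧ x • b = b := by
    by_cases hpc : p = c
    · exact ⟨q, fun hh => hpq (hpc.trans hh.symm), hq⟩
    · exact ⟨p, hpc, hp⟩
  obtain ⟨e, he, heb, hxe⟩ := h.exists_commuting_invol hx hxb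
  have heo := h.orderOf_conj he
  have hxne : x ≠ y := fun hh => hpq (hy1 p q (hh ▸ hp) (hh ▸ hq))
  have hto : orderOf (x * y) = 2 := by
    rw [invol_iff]
    refine ⟨?_, fun hh => hxne ((eq_inv_of_mul_eq_one_left hh).trans (invol_inv hy))⟩
    calc x * y * (x * y) = x * (y * x) * y := by group
      _ = 1 := by rw [← hxy.eq, ← mul_assoc, invol_mul_self hx, one_mul, invol_mul_self hy]
  have htx : Commute x (x * y) := (Commute.refl x).mul_right hxy
  have honly : ∀ a : G ⧸ M, x • a = a → (x * y) • a = a → a = c := fun a h1 h2 =>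
    hy1 a c (by rw [hxy.eq, mul_smul, h1] at h2; exact h2) hyc
  by_cases hodd : Odd (orderOf (e * (x * y)))
  · have ht : IsConj z (x * y) := he.trans (Invol.isConj_of_odd heo hto hodd)
    obtain ⟨r, s, hrs, hr, hs⟩ := h.exists_two_fix_mul hx ht htx hpq hp hq ho
    rw [← mul_assoc, invol_mul_self hx, one_mul] at hr hs
    exact absurd (hy1 r s hr hs) hrs
  have heven := Nat.not_odd_iff_even.1 hodd
  set w := (e * (x * y)) ^ (orderOf (e * (x * y)) / 2) with hw
  have hwo : orderOf w = 2 := orderOf_pow_half heven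
  have hwe : Commute w e := commute_pow_half (invol_conj_mul heo hto) heven
  have hwt : Commute w (x * y) := commute_pow_half (invol_conj_mul' heo hto) heven
  have hxw : Commute x w := (hxe.mul_right htx).pow_right _
  have hcase : IsConj z (e * w) ∨ ∃ g : G, Commute x g ∧ e * w = g * (x * y) * g⁻¹ := by
    rw [hw, ← zpow_natCast]
    generalize orderOf (e * (x * y)) / 2 = n
    rcases Nat.even_or_odd' n with ⟨j, rfl | rfl⟩
    · refine Or.inl (he.trans (isConj_iff.2 ⟨(e * (x * y)) ^ (-(j : ℤ)), ?_⟩))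
      rw [zpow_conj_invol heo hto]
      congr 2; push_cast; ring
    · refine Or.inr ⟨(e * (x * y)) ^ (-(j : ℤ)), (hxe.mul_right htx).zpow_right _, ?_⟩
      have key : ∀ a : G, a ^ (-(j : ℤ)) * (e * a) * (a ^ (-(j : ℤ)))⁻¹
          = a ^ (-(j : ℤ)) * e * (a ^ (-(j : ℤ)))⁻¹ * a := fun a => by group
      have hed : x * y = e * (e * (x * y)) := by rw [← mul_assoc, invol_mul_self heo, one_mul]
      conv_rhs => arg 1; arg 2; rw [hed]
      rw [key, zpow_conj_invol heo hto, mul_assoc, ← zpow_add_one]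
      congr 2; push_cast; ring
  rcases hcase with hew | ⟨g, hxg, hew⟩
  · -- `x * y` would fix the point of `e`
    have hne : e ≠ e * w := fun hh => invol_ne_one hwo (left_eq_mul.1 hh)
    have hprod : e * (e * w) = w := by rw [← mul_assoc, invol_mul_self heo, one_mul]
    exact absurd (honly b hxb (h.smul_of_commute_mul he hew
      ((Commute.refl e).mul_right hwe.symm) hne (hprod.symm ▸ hwt.symm) heb)) hbc
  by_cases hwx : w = x
  · refine he.trans (IsConj.symm (isConj_iff.2 ⟨g, ?_⟩))
    have h1 : e * x = x * (g * y * g⁻¹) := by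
      rw [← hwx, hew, hwx, ← mul_assoc g x y, ← hxg.eq]; group
    exact (mul_left_cancel ((hxe.eq).trans h1)).symm
  · have hwb : w • b = b := h.smul_of_commute he hwe heb
    have hwc : w • c = c := by
      refine honly _ ?_ ?_
      · rw [smul_smul, hxw.eq, mul_smul, hxc]
      · rw [smul_smul, ← hwt.eq, mul_smul, mul_smul x y, hyc, hxc]
    have hwxo : orderOf (w * x) = 2 := by
      rw [invol_iff]
      refine ⟨?_, fun hh => hwx ((eq_inv_of_mul_eq_one_left hh).trans (invol_inv hx))⟩
      calc w * x * (w * x) = w * (x * w) * x := by group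
        _ = 1 := by rw [hxw.eq, ← mul_assoc, invol_mul_self hwo, one_mul, invol_mul_self hx]
    obtain ⟨o', ho'⟩ := hfree _ hwxo
    obtain ⟨r, s, hrs, hr, hs⟩ := h.exists_two_fix_mul hwxo he (hwe.mul_left hxe) hbc
      (by rw [mul_smul, hxb, hwb]) (by rw [mul_smul, hxc, hwc]) ho'
    have e1 : w * x * e = g * y * g⁻¹ := by
      rw [(hwe.mul_left hxe).eq, ← mul_assoc, hew]
      calc g * (x * y) * g⁻¹ * x = g * (x * y) * (g⁻¹ * x) := by group
        _ = g * (x * y) * (x * g⁻¹) := by rw [(hxg.inv_right).eq]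
        _ = g * ((y * x) * x) * g⁻¹ := by rw [hxy.eq]; group
        _ = g * y * g⁻¹ := by rw [mul_assoc y, invol_mul_self hx, mul_one]
    rw [e1] at hr hs
    have key : ∀ t : G ⧸ M, (g * y * g⁻¹) • t = t → y • (g⁻¹ • t) = g⁻¹ • t := fun t ht => by
      have := congrArg (g⁻¹ • ·) ht
      simpa [smul_smul, mul_assoc] using this
    exact absurd (smul_left_cancel g⁻¹ (hy1 _ _ (key r hr) (key s hs))) hrs

/-- Commuting conjugates of `z` centralizing a bad involution have their product among them. -/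
theorem isConj_mul_of_commute {x d v : G} (hx : orderOf x = 2) {p q : G ⧸ M} (hpq : p ≠ q)
    (hp : x • p = p) (hq : x • q = q) (hd : IsConj z d) (hv : IsConj z v) (hdv : Commute d v)
    (hne : d ≠ v) (hxd : Commute x d) (hxv : Commute x v) : IsConj z (d * v) := by
  have hdo := h.orderOf_conj hd
  have hvo := h.orderOf_conj hv
  have ho : orderOf (d * v) = 2 := by
    rw [invol_iff]
    refine ⟨?_, fun hh => hne ((eq_inv_of_mul_eq_one_left hh).trans (invol_inv hvo))⟩
    calc d * v * (d * v) = d * (v * d) * v := by group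
      _ = 1 := by rw [← hdv.eq, ← mul_assoc, invol_mul_self hdo, one_mul, invol_mul_self hvo]
  refine h.isConj_of_single_fix hfree hx hpq hp hq ho (hxd.mul_right hxv) fun a b ha hb => ?_
  obtain ⟨c, hc⟩ := h.fix_exists hd
  have key : ∀ a : G ⧸ M, (d * v) • a = a → a = c := fun a ha => by
    obtain ⟨f, hf, hfa, hcf⟩ := h.exists_commuting_invol ho ha
    exact (h.fix_unique hf hfa (h.smul_of_commute_mul hd hv hdv hne hcf.symm hc))
  rw [key a ha, key b hb]

end Crit

end CfsgLib.SECrit
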