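import Cfsg.Agent.Lib.Invol.SECriterion.Basic
import Cfsg.Agent.Lib.Invol.TwoClasses

/-!
# The strong embedding criterion: swaps of two points

Every pair of points is exchanged by exactly as many conjugates of `z` as fix one point, and two
conjugates at different points are exchanged by a unique one.
-/

set_option autoImplicit false

namespace CfsgLib.SECrit

open CfsgLib.Invol

variable {G : Type*} [Group G] [Finite G] {M : Subgroup G} {z : G}

/-- The conjugates of `z` at the point `a`. -/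
abbrev DAt (z : G) (a : G ⧸ M) : Type _ := {d : G // IsConj z d ∧ d • a = a}

/-- The conjugates of `z` mapping `a` to `b`. -/
abbrev Swap (z : G) (a b : G ⧸ M) : Type _ := {g : G // IsConj z g ∧ g • a = b}

/-- The number of conjugates of `z` at one point. -/
noncomputable def deg (M : Subgroup G) (z : G) : ℕ := Nat.card (DAt z ((1 : G) : G ⧸ M))

/-- Transport of the conjugates at `a` to those at `k • a`. -/
def DAt.equiv (z : G) (a : G ⧸ M) (k : G) : DAt z a ≃ DAt z (k • a) where
  toFun d := ⟨k * d.1 * k⁻¹, d.2.1.trans (isConj_iff.2 ⟨k, rfl⟩), by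
    rw [smul_smul, inv_mul_cancel_right, mul_smul, d.2.2]⟩
  invFun d := ⟨k⁻¹ * d.1 * k, d.2.1.trans (isConj_iff.2 ⟨k⁻¹, by rw [inv_inv]⟩), by
    rw [mul_smul, mul_smul, d.2.2, inv_smul_smul]⟩
  left_inv d := Subtype.ext (by simp [mul_assoc])
  right_inv d := Subtype.ext (by simp [mul_assoc])

theorem card_DAt (a : G ⧸ M) : Nat.card (DAt z a) = deg M z := by
  obtain ⟨g, rfl⟩ := QuotientGroup.mk_surjective a
  have e : g • ((1 : G) : G ⧸ M) = (g : G ⧸ M) := by
    rw [MulAction.Quotient.smul_coe, smul_eq_mul, mul_one]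
  rw [deg, Nat.card_congr (DAt.equiv z ((1 : G) : G ⧸ M) g), e]

theorem card_isConj_eq_index (z : G) :
    Nat.card {d : G // IsConj z d} = (Subgroup.centralizer ({z} : Set G)).index := by
  have h1 := card_isConj_mul z
  rw [← (Subgroup.centralizer ({z} : Set G)).index_mul_card] at h1
  exact Nat.eq_of_mul_eq_mul_right Nat.card_pos h1

namespace Crit

variable (h : Crit M z)
include h

theorem card_conjugates : Nat.card {d : G // IsConj z d} = Nat.card (G ⧸ M) * deg M z := by
  have e : Nat.card {d : G // IsConj z d} = Nat.card (Σ a : G ⧸ M, DAt z a) :=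
    (Nat.card_eq_of_bijective (fun p : Σ a : G ⧸ M, DAt z a => (⟨p.2.1, p.2.2.1⟩ : {d // IsConj z d}))
      ⟨fun p q hpq => by
        obtain ⟨a, d, hd⟩ := p
        obtain ⟨b, e, he⟩ := q
        simp only [Subtype.mk.injEq] at hpq
        subst hpq
        obtain rfl := h.fix_unique hd.1 hd.2 he.2
        rfl,
      fun d => by
        obtain ⟨a, ha⟩ := h.fix_exists d.2
        exact ⟨⟨a, d.1, d.2, ha⟩, rfl⟩⟩).symm
  letI := Fintype.ofFinite (G ⧸ M)
  rw [e, Nat.card_sigma, Finset.sum_congr rfl fun a _ => card_DAt a, Finset.sum_const, smul_eq_mul,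
    Finset.card_univ, Nat.card_eq_fintype_card]

theorem odd_deg : Odd (deg M z) := by
  have := h.sylow
  rw [← card_isConj_eq_index, h.card_conjugates] at this
  exact (Nat.odd_mul.1 this).2

theorem odd_index : Odd (Nat.card (G ⧸ M)) := by
  have := h.sylow
  rw [← card_isConj_eq_index, h.card_conjugates] at this
  exact (Nat.odd_mul.1 this).1

omit h in
theorem sum_card_swap (a : G ⧸ M) [Fintype (G ⧸ M)] :
    ∑ b : G ⧸ M, Nat.card (Swap z a b) = Nat.card {d : G // IsConj z d} := by
  rw [← Nat.card_sigma]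
  exact Nat.card_eq_of_bijective
    (fun p : Σ b : G ⧸ M, Swap z a b => (⟨p.2.1, p.2.2.1⟩ : {d // IsConj z d}))
    ⟨fun p q hpq => by
      obtain ⟨b, g, hg, hgb⟩ := p
      obtain ⟨c, k, hk, hkc⟩ := q
      simp only [Subtype.mk.injEq] at hpq
      subst hpq
      obtain rfl := hgb.symm.trans hkc
      rfl,
    fun d => ⟨⟨d.1 • a, d.1, d.2, rfl⟩, rfl⟩⟩

omit [Finite G] h in
/-- A swap of `a` and `b` and a conjugate at `a` give a conjugate at `b`. -/
def swapMap {a b : G ⧸ M} (p : Swap z a b × DAt z a) : DAt z a × DAt z b :=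
  (p.2, ⟨p.1.1 * p.2.1 * p.1.1⁻¹, p.2.2.1.trans (isConj_iff.2 ⟨p.1.1, rfl⟩), by
    obtain ⟨⟨g, -, rfl⟩, d, -, hd⟩ := p
    rw [smul_smul, inv_mul_cancel_right, mul_smul]
    exact congrArg (g • ·) hd⟩)

theorem swapMap_surjective {a b : G ⧸ M} (hab : a ≠ b) :
    Function.Surjective (swapMap (z := z) (a := a) (b := b)) := by
  rintro ⟨⟨d, hd, hda⟩, ⟨e, he, heb⟩⟩
  obtain ⟨g, hg, hge⟩ := h.exists_midpoint hd he hda heb hab
  exact ⟨(⟨g, hg, h.smul_eq_of_conj he hge hda heb⟩, ⟨d, hd, hda⟩),
    Prod.ext rfl (Subtype.ext hge)⟩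

/-- Exactly `deg` conjugates of `z` map `a` to `b`. -/
theorem card_swap (a b : G ⧸ M) : Nat.card (Swap z a b) = deg M z := by
  letI := Fintype.ofFinite (G ⧸ M)
  have hle : ∀ c ∈ (Finset.univ : Finset (G ⧸ M)), deg M z ≤ Nat.card (Swap z a c) := by
    intro c _
    by_cases hac : a = c
    · subst hac; exact (card_DAt a).ge
    have := Nat.card_le_card_of_surjective _ (h.swapMap_surjective hac)
    rw [Nat.card_prod, Nat.card_prod, card_DAt, card_DAt] at this
    exact Nat.le_of_mul_le_mul_right this h.odd_deg.pos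
  have hsum : ∑ _c : G ⧸ M, deg M z = ∑ c : G ⧸ M, Nat.card (Swap z a c) := by
    rw [sum_card_swap a, h.card_conjugates, Finset.sum_const, smul_eq_mul, Finset.card_univ,
      Nat.card_eq_fintype_card]
  exact ((Finset.sum_eq_sum_iff_of_le hle).1 hsum b (Finset.mem_univ b)).symm

/-- The swap carrying a conjugate at `a` to one elsewhere is unique. -/
theorem midpoint_unique {d g k : G} (hd : IsConj z d) (hg : IsConj z g) (hk : IsConj z k)
    {a : G ⧸ M} (ha : d • a = a) (hga : g • a ≠ a) (heq : g * d * g⁻¹ = k * d * k⁻¹) : g = k := by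
  have he : IsConj z (g * d * g⁻¹) := hd.trans (isConj_iff.2 ⟨g, rfl⟩)
  have hka : k • a = g • a := by
    refine h.smul_eq_of_conj he heq.symm ha ?_
    rw [smul_smul, inv_mul_cancel_right, mul_smul, ha]
  have hbij := (Nat.bijective_iff_surjective_and_card _).2
    ⟨h.swapMap_surjective (a := a) (b := g • a) (Ne.symm hga), by
      rw [Nat.card_prod, Nat.card_prod, card_DAt, card_DAt, h.card_swap]⟩
  have := @hbij.1 (⟨g, hg, rfl⟩, ⟨d, hd, ha⟩) (⟨k, hk, hka⟩, ⟨d, hd, ha⟩)
    (Prod.ext rfl (Subtype.ext heq))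
  exact congrArg (fun p : Swap z a (g • a) × DAt z a => p.1.1) this

/-- The product of two conjugates of `z` mapping `a` elsewhere centralizes none at `a`. -/
theorem not_commute_mul {d g k : G} (hd : IsConj z d) (hg : IsConj z g) (hk : IsConj z k)
    {a : G ⧸ M} (ha : d • a = a) (hga : g • a ≠ a) (hgk : g ≠ k) : ¬ Commute (g * k) d := by
  intro hc
  refine hgk (h.midpoint_unique hd hg hk ha hga ?_)
  have hgo := h.orderOf_conj hg
  have hko := h.orderOf_conj hk
  rw [invol_inv hgo, invol_inv hko]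
  calc g * d * g = g * ((g * k) * d * (g * k)⁻¹) * g := by rw [hc.eq, mul_inv_cancel_right]
    _ = (g * g) * (k * d * k⁻¹) * (g⁻¹ * g) := by group
    _ = k * d * k := by rw [invol_mul_self hgo, invol_inv hko, inv_mul_cancel, one_mul, mul_one]

/-- What centralizes two conjugates at different points centralizes their midpoint. -/
theorem commute_midpoint {c d e g : G} (hd : IsConj z d) (he : IsConj z e) (hg : IsConj z g)
    {a b : G ⧸ M} (ha : d • a = a) (hb : e • b = b) (hab : a ≠ b) (hge : g * d * g⁻¹ = e)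
    (hcd : Commute c d) (hce : Commute c e) : Commute c g := by
  have hga : g • a ≠ a := by rw [h.smul_eq_of_conj he hge ha hb]; exact hab.symm
  have heq : g * d * g⁻¹ = (c * g * c⁻¹) * d * (c * g * c⁻¹)⁻¹ := by
    have e1 : c⁻¹ * d * c = d := by rw [mul_assoc, ← hcd.eq, inv_mul_cancel_left]
    have e2 : (c * g * c⁻¹) * d * (c * g * c⁻¹)⁻¹ = c * (g * (c⁻¹ * d * c) * g⁻¹) * c⁻¹ := by group
    rw [e2, e1, hge, hce.eq, mul_inv_cancel_right]
  exact (mul_inv_eq_iff_eq_mul.1
    (h.midpoint_unique hd hg (hg.trans (isConj_iff.2 ⟨c, rfl⟩)) ha hga heq).symm)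

end Crit

end CfsgLib.SECrit
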