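import Cfsg.Agent.Lib.Invol.SECriterion.PureE
import Mathlib.GroupTheory.GroupAction.SubMulAction

/-!
# The strong embedding criterion: a two-power number of further points

If every element of odd order inverted by a conjugate of `z` at `p` fixes no point joined to `p` by
a bad involution, and the points different from `p` are a two-power in number and all joined to `p`,
then the conjugates of `z` at `p` commute.
-/

set_option autoImplicit false
set_option linter.style.haveILetI false

namespace CfsgLib.SECrit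

open CfsgLib.Invol Subgroup

section

variable {H : Type*} [Group H] [Finite H] {J Y : Set H}

/-- One class `J` of involutions with all products two-elements commutes, if every involution is in
`J` or in `Y` and the members of `J` commuting with one member of `Y` commute. -/
theorem commute_of_two_products (hJ : ∀ v ∈ J, orderOf v = 2)
    (hJc : ∀ v ∈ J, ∀ g : H, g * v * g⁻¹ ∈ J)
    (hclass : ∀ u ∈ J, ∀ v ∈ J, ∃ g : H, g * u * g⁻¹ = v)
    (hall : ∀ x : H, orderOf x = 2 → x ∈ J ∨ x ∈ Y)
    (hfix : ∀ y ∈ Y, ∀ u ∈ J, ∀ v ∈ J, Commute u y → Commute v y → Commute u v)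
    (hprod : ∀ u ∈ J, ∀ v ∈ J, ∃ k : ℕ, (u * v) ^ 2 ^ k = 1)
    {u v : H} (hu : u ∈ J) (hv : v ∈ J) : Commute u v := by
  haveI : Fact (Nat.Prime 2) := ⟨Nat.prime_two⟩
  obtain ⟨N, hN, hN2, huN⟩ := exists_normal_pGroup_mem (p := 2) (x := u) fun g => by
    obtain ⟨k, hk⟩ := hprod u hu _ (hJc u hu g)
    obtain ⟨s, -, hs⟩ := (Nat.dvd_prime_pow Nat.prime_two).1 (orderOf_dvd_of_pow_eq_one hk)
    exact two_group_of_pair (hJ u hu) (hJ _ (hJc u hu g)) hs
  have hJN : closure J ≤ N := by
    rw [closure_le]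
    intro w hw
    obtain ⟨g, rfl⟩ := hclass u hu w hw
    exact hN.conj_mem u huN g
  have hP : IsPGroup 2 (closure J) := hN2.to_le hJN
  haveI : Nontrivial (closure J) :=
    ⟨⟨u, subset_closure hu⟩, 1, fun e => by
      have := hJ u hu
      rw [show u = 1 from congrArg Subtype.val e, orderOf_one] at this
      exact absurd this (by decide)⟩
  haveI := hP.center_nontrivial
  obtain ⟨n, hn0, hn⟩ :=
    IsPGroup.nontrivial_iff_card (hP.to_subgroup (center (closure J))) |>.1 inferInstance
  obtain ⟨w, hw⟩ := exists_prime_orderOf_dvd_card' (G := center (closure J)) 2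
    (hn ▸ dvd_pow_self 2 hn0.ne')
  set ζ : H := ((w : closure J) : H) with hζ
  have hζo : orderOf ζ = 2 := by rw [hζ, Subgroup.orderOf_coe, Subgroup.orderOf_coe, hw]
  have hζc : ∀ a ∈ J, Commute a ζ := fun a ha =>
    congrArg Subtype.val (mem_center_iff.1 w.2 ⟨a, subset_closure ha⟩)
  rcases hall ζ hζo with h1 | h1
  · obtain ⟨g, rfl⟩ := hclass ζ h1 v hv
    have h2 := Commute.map (hζc _ (hJc u hu g⁻¹)) (MulAut.conj g).toMonoidHom
    simp only [MulEquiv.coe_toMonoidHom, MulAut.conj_apply, inv_inv] at h2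
    rwa [show g * (g⁻¹ * u * g) * g⁻¹ = u by group] at h2
  · exact hfix ζ h1 u hu v hv (hζc u hu) (hζc v hv)

end

variable {G : Type*} [Group G] [Finite G] {M : Subgroup G} {z : G}

/-- An element of odd order inverted by a conjugate of `z` at `p` fixes no point joined to `p` by a
bad involution. -/
def Lonely (M : Subgroup G) (z : G) (p : G ⧸ M) : Prop :=
  ∀ (d w x : G) (q : G ⧸ M), IsConj z d → d • p = p → w • p = p → Odd (orderOf w) →
    d * w * d⁻¹ = w⁻¹ → IsBad M x → x • p = p → q ≠ p → x • q = q → w • q = q → w = 1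

/-- A large two-group at `p` joins `p` to all other points by bad involutions. -/
theorem Crit.exists_bad_of_card_lt (h : Crit M z) {p : G ⧸ M} {S : Subgroup G} (hS : IsPGroup 2 S)
    (hSp : ∀ g ∈ S, g • p = p) (hlt : Nat.card (G ⧸ M) ≤ Nat.card S) {q : G ⧸ M} (hq : q ≠ p) :
    ∃ x : G, IsBad M x ∧ x • p = p ∧ x • q = q := by
  haveI : Fact (Nat.Prime 2) := ⟨Nat.prime_two⟩
  have hstab : MulAction.stabilizer S q ≠ ⊥ := by
    intro hbot
    have h1 : Nat.card (MulAction.orbit S q) = Nat.card S := by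
      rw [← (MulAction.stabilizer S q).index_mul_card, hbot, card_bot, mul_one, ← hbot,
        MulAction.index_stabilizer, Nat.card_coe_set_eq]
    have hp : p ∉ MulAction.orbit S q := by
      rintro ⟨g, hg⟩
      exact hq (smul_left_cancel (g : G) ((show (g : G) • q = p from hg).trans (hSp g g.2).symm))
    have h2 : Nat.card (MulAction.orbit S q) < Nat.card (G ⧸ M) := by
      rw [Nat.card_coe_set_eq, ← Set.ncard_univ]
      exact Set.ncard_lt_ncard ⟨Set.subset_univ _, fun hh => hp (hh (Set.mem_univ p))⟩ (Set.toFinite _)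
    omega
  obtain ⟨n, hn⟩ := (hS.to_subgroup (MulAction.stabilizer S q)).exists_card_eq
  have hn0 : n ≠ 0 := fun e => hstab (eq_bot_of_card_eq _ (by rw [hn, e, pow_zero]))
  obtain ⟨x, hxq, hxo⟩ := exists_invol_mem (H := MulAction.stabilizer S q)
    (by rw [hn]; exact Nat.even_pow.2 ⟨even_two, hn0⟩)
  exact ⟨x, ⟨by rw [Subgroup.orderOf_coe]; exact hxo, p, q, hq.symm, hSp x x.2, hxq⟩, hSp x x.2, hxq⟩

/-- **The conjugates of `z` at `p` commute** if the other points are a two-power in number, all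
joined to `p`, and inverted elements of odd order are lonely. -/
theorem Setup.commute_of_lonely (h : Setup M z) (hloc : ∀ x : G, IsBad M x → Local M z x)
    {p : G ⧸ M} {t : ℕ} (hN : Nat.card (G ⧸ M) = 2 ^ t + 1) (hlon : Lonely M z p)
    (hdelta : ∀ q : G ⧸ M, q ≠ p → ∃ x : G, IsBad M x ∧ x • p = p ∧ x • q = q)
    {d e : G} (hd : IsConj z d) (he : IsConj z e) (hdp : d • p = p) (hep : e • p = p) :
    Commute d e := by
  set J := {d : MulAction.stabilizer G p | IsConj z (d : G)} with hJ
  set Y := {y : MulAction.stabilizer G p | IsBad M (y : G)} with hY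
  have hfixp : ∀ d : MulAction.stabilizer G p, (d : G) • p = p := fun d => d.2
  have hclass : ∀ u ∈ J, ∀ v ∈ J, ∃ g : MulAction.stabilizer G p, g * u * g⁻¹ = v := by
    intro u hu v hv
    obtain ⟨q, hq⟩ := h.exists_ne_point p
    obtain ⟨e, he, heq⟩ := h.crit.exists_fixing q
    obtain ⟨g1, -, hg1⟩ := h.crit.exists_midpoint hu he (hfixp u) heq hq.symm
    obtain ⟨g2, -, hg2⟩ := h.crit.exists_midpoint he hv heq (hfixp v) hq
    have hg : g2 * g1 * (u : G) * (g2 * g1)⁻¹ = v := by rw [← hg2, ← hg1]; group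
    exact ⟨⟨g2 * g1, h.crit.smul_eq_of_conj hv hg (hfixp u) (hfixp v)⟩, Subtype.ext hg⟩
  have hall : ∀ x : MulAction.stabilizer G p, orderOf x = 2 → x ∈ J ∨ x ∈ Y := by
    intro x hx
    rw [← orderOf_coe] at hx
    by_cases h1 : ∀ a b : G ⧸ M, (x : G) • a = a → (x : G) • b = b → a = b
    · exact Or.inl (h.crit.isConj_of_unique_fix h.hfree hx h1)
    · push Not at h1
      obtain ⟨a, b, ha, hb, hab⟩ := h1
      exact Or.inr ⟨hx, a, b, hab, ha, hb⟩
  have hfix : ∀ y ∈ Y, ∀ u ∈ J, ∀ v ∈ J, Commute u y → Commute v y → Commute u v := by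
    intro y hy u hu v hv huy hvy
    exact Subtype.ext ((hloc y hy).comm_at u v p hu hv
      (show Commute (y : G) u from (congrArg Subtype.val huy).symm)
      (show Commute (y : G) v from (congrArg Subtype.val hvy).symm) (hfixp u) (hfixp v)).eq
  -- the products are two-elements
  have hprod : ∀ u ∈ J, ∀ v ∈ J, ∃ k : ℕ, (u * v) ^ 2 ^ k = 1 := by
    intro u hu v hv
    by_contra hno
    push Not at hno
    set g : G := (u : G) * v with hg
    have hgk : ∀ k : ℕ, g ^ 2 ^ k ≠ 1 := fun k hk => hno k (Subtype.ext (by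
      rw [SubmonoidClass.coe_pow]; exact hk))
    have hn : orderOf g ≠ 0 := (orderOf_pos g).ne'
    obtain ⟨r, hr, hr2, hrd⟩ : ∃ r : ℕ, r.Prime ∧ r ≠ 2 ∧ r ∣ orderOf g := by
      by_contra hh
      push Not at hh
      obtain ⟨k, hk⟩ : ∃ k : ℕ, orderOf g = 2 ^ k :=
        ⟨_, Nat.eq_prime_pow_of_unique_prime_dvd hn fun {d} hd hdd => by
          by_contra hd2; exact hh d hd hd2 hdd⟩
      exact hgk k (hk ▸ pow_orderOf_eq_one g)
    haveI : Fact r.Prime := ⟨hr⟩
    set c := orderOf g / r with hc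
    set w := g ^ c with hw
    have hwo : orderOf w = r := by
      rw [hw, orderOf_pow_of_dvd
        (Nat.div_pos (Nat.le_of_dvd (Nat.pos_of_ne_zero hn) hrd) hr.pos).ne' (Nat.div_dvd_of_dvd hrd),
        Nat.div_div_self hrd hn]
    have hwp : w • p = p := MulAction.mem_stabilizer_iff.1 (pow_mem (mul_mem u.2 v.2) c)
    have hinv : (u : G) * w * (u : G)⁻¹ = w⁻¹ := by
      rw [hw, ← conj_pow, hg, invol_conj_mul (h.crit.orderOf_conj hu) (h.crit.orderOf_conj hv),
        inv_pow]
    -- a second fixed point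
    letI : MulAction (zpowers w) {a : G ⧸ M // a ≠ p} :=
      { smul := fun i a => ⟨(i : G) • a.1, fun hh => a.2 (smul_left_cancel (i : G) (hh.trans
          (MulAction.mem_stabilizer_iff.1
            (zpowers_le.2 (MulAction.mem_stabilizer_iff.2 hwp) i.2)).symm))⟩
        one_smul := fun a => Subtype.ext (one_smul G a.1)
        mul_smul := fun i j a => Subtype.ext (mul_smul (i : G) (j : G) a.1) }
    have hcard : Nat.card {a : G ⧸ M // a ≠ p} = 2 ^ t := by
      classical
      have := Nat.card_congr (Equiv.optionSubtypeNe p)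
      rw [Finite.card_option] at this
      omega
    obtain ⟨⟨q, hqp⟩, hqw⟩ := (IsPGroup.of_card (n := 1) (by rw [Nat.card_zpowers, hwo, pow_one]) :
      IsPGroup r (zpowers w)).nonempty_fixed_point_of_prime_not_dvd_card {a : G ⧸ M // a ≠ p}
        (fun hd2 => hr2 ((Nat.prime_dvd_prime_iff_eq hr Nat.prime_two).1
          (hr.dvd_of_dvd_pow (hcard ▸ hd2))))
    obtain ⟨x, hx, hxp, hxq⟩ := hdelta q hqp
    have hw1 := hlon u w x q hu (hfixp u) hwp (hwo ▸ hr.odd_of_ne_two hr2) hinv hx hxp hqp hxq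
      (congrArg Subtype.val (hqw ⟨w, mem_zpowers w⟩))
    rw [hw1, orderOf_one] at hwo
    exact hr.one_lt.ne hwo
  have := commute_of_two_products (J := J) (Y := Y)
    (fun v hv => by rw [← orderOf_coe]; exact h.crit.orderOf_conj hv)
    (fun v hv g => IsConj.trans hv (isConj_iff.2 ⟨g, rfl⟩)) hclass hall hfix hprod
    (u := ⟨d, hdp⟩) (v := ⟨e, hep⟩) hd he
  exact congrArg Subtype.val this

end CfsgLib.SECrit
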