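import Cfsg.Agent.Lib.Invol.BaerSuzuki
import Mathlib.GroupTheory.Sylow

/-!
# The strong embedding criterion: the pure chain

Abstract form of the step "the single point involutions of `M` commute": `M` is a finite group with
two invariant sets of involutions `J` and `Y`.
-/

set_option autoImplicit false
set_option linter.style.haveILetI false

namespace CfsgLib.SECrit

open CfsgLib.Invol


variable {G : Type*} [Group G]

/-- The hypotheses of the pure chain. -/
structure PureData (J Y : Set G) : Prop where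
  invol_J : ∀ v ∈ J, orderOf v = 2
  invol_Y : ∀ y ∈ Y, orderOf y = 2
  conj_J : ∀ v ∈ J, ∀ g : G, g * v * g⁻¹ ∈ J
  conj_Y : ∀ y ∈ Y, ∀ g : G, g * y * g⁻¹ ∈ Y
  two_elem : ∀ v ∈ J, ∀ y ∈ Y, ∃ k : ℕ, (v * y) ^ (2 ^ k) = 1
  comm_of_fix : ∀ y ∈ Y, ∀ u ∈ J, ∀ v ∈ J, Commute u y → Commute v y → Commute u v
  sigma : ∀ v ∈ J, ∀ y ∈ Y, Commute v (y * v * y⁻¹) → ∀ u ∈ J, Commute u y → Commute v u

namespace PureData

variable {J Y : Set G} (h : PureData J Y)
include h

/-- The members of `J` commuting with `y`, together with their conjugates under the powers of an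
element inverted by `y` of two-power order, commute pairwise. -/
theorem commute_orbit {y : G} (hy : y ∈ Y) : ∀ (n : ℕ) (t : G), y * t * y⁻¹ = t⁻¹ → t ^ (2 ^ n) = 1 →
    ∀ u ∈ J, ∀ v ∈ J, Commute u y → Commute v y → ∀ i : ℤ, Commute u (t ^ i * v * (t ^ i)⁻¹) := by
  intro n
  induction n with
  | zero =>
    intro t _ ht u hu v hv huy hvy i
    rw [pow_zero, pow_one] at ht
    simpa [ht] using h.comm_of_fix y hy u hu v hv huy hvy
  | succ n ih =>
    intro t hinv ht u hu v hv huy hvy i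
    have hy1 : y⁻¹ = y := invol_inv (h.invol_Y y hy)
    have hk : ∀ k : ℤ, y * t ^ k * y⁻¹ = t ^ (-k) := by
      intro k
      rw [← conj_zpow, hinv, zpow_neg, inv_zpow]
    have hinv2 : y * t ^ (2 : ℤ) * y⁻¹ = (t ^ (2 : ℤ))⁻¹ := by rw [hk, zpow_neg]
    have ht2 : (t ^ (2 : ℤ)) ^ (2 ^ n) = 1 := by
      rw [show t ^ (2 : ℤ) = t ^ (2 : ℕ) from zpow_natCast t 2, ← pow_mul, ← pow_succ', ht]
    rcases Int.even_or_odd' i with ⟨j, rfl | rfl⟩
    · rw [zpow_mul]
      exact ih _ hinv2 ht2 u hu v hv huy hvy j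
    · have hy' : t ^ (2 * j + 1) * y * (t ^ (2 * j + 1))⁻¹ ∈ Y := h.conj_Y y hy _
      refine h.sigma u hu _ hy' ?_ _ (h.conj_J v hv _) ?_
      · have e : t ^ (2 * j + 1) * y * (t ^ (2 * j + 1))⁻¹ * u *
            (t ^ (2 * j + 1) * y * (t ^ (2 * j + 1))⁻¹)⁻¹ =
            (t ^ (2 : ℤ)) ^ (2 * j + 1) * u * ((t ^ (2 : ℤ)) ^ (2 * j + 1))⁻¹ := by
          have e1 : ∀ a : ℤ, t ^ a * y * (t ^ a)⁻¹ = (t ^ (2 : ℤ)) ^ a * y := by
            intro a
            have h1 := hk (-a)
            rw [zpow_neg, neg_neg] at h1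
            calc t ^ a * y * (t ^ a)⁻¹ = t ^ a * (y * (t ^ a)⁻¹ * y⁻¹) * y := by group
              _ = t ^ a * t ^ a * y := by rw [h1]
              _ = (t ^ (2 : ℤ)) ^ a * y := by rw [← zpow_mul, two_mul a, zpow_add]
          replace e1 := e1 (2 * j + 1)
          rw [e1]
          calc (t ^ (2 : ℤ)) ^ (2 * j + 1) * y * u * ((t ^ (2 : ℤ)) ^ (2 * j + 1) * y)⁻¹
              = (t ^ (2 : ℤ)) ^ (2 * j + 1) * (y * u * y⁻¹) *
                  ((t ^ (2 : ℤ)) ^ (2 * j + 1))⁻¹ := by group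
            _ = _ := by rw [← huy.eq, mul_inv_cancel_right]
        rw [e]
        exact ih _ hinv2 ht2 u hu u hu huy huy _
      · exact Commute.map hvy (MulAut.conj (t ^ (2 * j + 1))).toMonoidHom

/-- **Key lemma.** A member of `J` commuting with a member of `Y` generates a two-group with any
member of `J`. -/
theorem pow_four_eq_one {y z v : G} (hy : y ∈ Y) (hz : z ∈ J) (hzy : Commute z y) (hv : v ∈ J) :
    (z * v) ^ 4 = 1 := by
  obtain ⟨k, hk⟩ := h.two_elem v hv y hy
  have hv1 := invol_inv (h.invol_J v hv)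
  have hy1 := invol_inv (h.invol_Y y hy)
  have hinv : y * (v * y) * y⁻¹ = (v * y)⁻¹ := by
    rw [← mul_assoc, mul_inv_cancel_right, mul_inv_rev, hv1, hy1]
  have hc := h.commute_orbit hy k (v * y) hinv hk z hz z hz hzy hzy 1
  rw [zpow_one, show v * y * z * (v * y)⁻¹ = v * (y * z * y⁻¹) * v⁻¹ by group, ← hzy.eq,
    mul_inv_cancel_right, hv1] at hc
  have sq : (z * v) ^ 2 = z * (v * z * v) := by simp only [pow_two, mul_assoc]
  have hvv := invol_mul_self (h.invol_J v hv)
  have sq' : (v * z * v) ^ 2 = 1 := by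
    rw [pow_two, show v * z * v * (v * z * v) = v * z * (v * v) * z * v by simp only [mul_assoc],
      hvv, mul_one, mul_assoc v z z, invol_mul_self (h.invol_J z hz), mul_one, hvv]
  rw [show 4 = 2 * 2 from rfl, pow_mul, sq, hc.mul_pow, sq', mul_one, pow_two,
    invol_mul_self (h.invol_J z hz)]

/-- **Conclusion.** If `J` is one class, some member of `J` commutes with a member of `Y` and every
involution is in `J` or in `Y`, then the members of `J` commute. -/
theorem commute_of_mem [Finite G] (hclass : ∀ u ∈ J, ∀ v ∈ J, ∃ g : G, g * u * g⁻¹ = v)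
    (hmeet : ∃ u ∈ J, ∃ y ∈ Y, Commute u y) (hall : ∀ x : G, orderOf x = 2 → x ∈ J ∨ x ∈ Y)
    {u v : G} (hu : u ∈ J) (hv : v ∈ J) : Commute u v := by
  haveI : Fact (Nat.Prime 2) := ⟨Nat.prime_two⟩
  -- each member of `J` commutes with a member of `Y`
  have hcov : ∀ z ∈ J, ∃ y ∈ Y, Commute z y := by
    obtain ⟨u0, hu0, y0, hy0, hc⟩ := hmeet
    intro z hz
    obtain ⟨g, rfl⟩ := hclass u0 hu0 z hz
    exact ⟨_, h.conj_Y y0 hy0 g, Commute.map hc (MulAut.conj g).toMonoidHom⟩
  have hpow : ∀ a ∈ J, ∀ b ∈ J, (a * b) ^ 4 = 1 := by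
    intro a ha b hb
    obtain ⟨y, hy, hc⟩ := hcov a ha
    exact h.pow_four_eq_one hy ha hc hb
  -- the closure of `J` is a two-group
  obtain ⟨N, hN, hN2, huN⟩ := exists_normal_pGroup_mem (p := 2) (x := u) fun g => by
    obtain ⟨s, -, hs⟩ := (Nat.dvd_prime_pow Nat.prime_two).1
      (orderOf_dvd_of_pow_eq_one (hpow u hu _ (h.conj_J u hu g)) : _ ∣ 2 ^ 2)
    exact two_group_of_pair (h.invol_J u hu) (h.invol_J _ (h.conj_J u hu g)) hs
  have hJN : Subgroup.closure J ≤ N := by
    rw [Subgroup.closure_le]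
    intro w hw
    obtain ⟨g, rfl⟩ := hclass u hu w hw
    exact hN.conj_mem u huN g
  have hP : IsPGroup 2 (Subgroup.closure J) := hN2.to_le hJN
  haveI : Nontrivial (Subgroup.closure J) :=
    ⟨⟨u, Subgroup.subset_closure hu⟩, 1, fun e => by
      have := h.invol_J u hu
      rw [show u = 1 from congrArg Subtype.val e, orderOf_one] at this
      exact absurd this (by decide)⟩
  -- an involution of its centre
  haveI := hP.center_nontrivial
  obtain ⟨n, hn0, hn⟩ :=
    IsPGroup.nontrivial_iff_card (hP.to_subgroup (Subgroup.center (Subgroup.closure J))) |>.1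
      inferInstance
  obtain ⟨w, hw⟩ := exists_prime_orderOf_dvd_card'
    (G := Subgroup.center (Subgroup.closure J)) 2 (hn ▸ dvd_pow_self 2 hn0.ne')
  set ζ : G := ((w : Subgroup.closure J) : G) with hζ
  have hζo : orderOf ζ = 2 := by
    rw [hζ, Subgroup.orderOf_coe, Subgroup.orderOf_coe, hw]
  have hζc : ∀ a ∈ J, Commute a ζ := fun a ha =>
    congrArg Subtype.val (Subgroup.mem_center_iff.1 w.2 ⟨a, Subgroup.subset_closure ha⟩)
  rcases hall ζ hζo with hJ | hY
  · obtain ⟨g, rfl⟩ := hclass ζ hJ v hv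
    have h1 := Commute.map (hζc _ (h.conj_J u hu g⁻¹)) (MulAut.conj g).toMonoidHom
    simp only [MulEquiv.coe_toMonoidHom, MulAut.conj_apply, inv_inv] at h1
    rwa [show g * (g⁻¹ * u * g) * g⁻¹ = u by group] at h1
  · exact h.comm_of_fix ζ hY u hu v hv (hζc u hu) (hζc v hv)

/-- `J` and the identity form a normal elementary abelian subgroup. -/
theorem exists_normal_eq [Finite G] (hclass : ∀ u ∈ J, ∀ v ∈ J, ∃ g : G, g * u * g⁻¹ = v)
    (hmeet : ∃ u ∈ J, ∃ y ∈ Y, Commute u y) (hall : ∀ x : G, orderOf x = 2 → x ∈ J ∨ x ∈ Y)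
    (hmul : ∀ u ∈ J, ∀ v ∈ J, u ≠ v → Commute u v → u * v ∈ J) :
    ∃ E : Subgroup G, E.Normal ∧ (E : Set G) = J ∪ {1} ∧ (∀ a ∈ E, ∀ b ∈ E, Commute a b) ∧
      ∀ a ∈ E, a * a = 1 := by
  have hcomm : ∀ a b : G, a ∈ J → b ∈ J → Commute a b := fun a b ha hb =>
    h.commute_of_mem hclass hmeet hall ha hb
  let E : Subgroup G :=
    { carrier := J ∪ {1}
      one_mem' := Or.inr rfl
      inv_mem' := by
        rintro a (ha | rfl)
        · rw [invol_inv (h.invol_J a ha)]; exact Or.inl ha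
        · rw [inv_one]; exact Or.inr rfl
      mul_mem' := by
        rintro a b (ha | rfl) (hb | rfl)
        · by_cases e : a = b
          · rw [← e, invol_mul_self (h.invol_J a ha)]; exact Or.inr rfl
          · exact Or.inl (hmul a ha b hb e (hcomm a b ha hb))
        · rw [mul_one]; exact Or.inl ha
        · rw [one_mul]; exact Or.inl hb
        · rw [one_mul]; exact Or.inr rfl }
  refine ⟨E, ⟨?_⟩, rfl, ?_, ?_⟩
  · rintro a (ha | rfl) g
    · exact Or.inl (h.conj_J a ha g)
    · exact Or.inr (by simp)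
  · rintro a (ha | rfl) b (hb | rfl)
    · exact hcomm a b ha hb
    · exact Commute.one_right _
    · exact Commute.one_left _
    · exact Commute.one_left _
  · rintro a (ha | rfl)
    · exact invol_mul_self (h.invol_J a ha)
    · exact one_mul 1

end PureData

end CfsgLib.SECrit
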