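import Cfsg.Agent.Lib.Invol.SECriterion.PureE

/-!
# The strong embedding criterion: item 23 when good pairs commute

If a conjugate of `z` and a bad involution at one point commute as soon as their product is a
two-element, they always commute.
-/

set_option autoImplicit false

namespace CfsgLib.SECrit

open CfsgLib.Invol Subgroup

variable {G : Type*} [Group G] [Finite G] {M : Subgroup G} {z : G}

theorem Setup.commute_of_good (h : Setup M z) (hloc : ∀ x : G, IsBad M x → Local M z x) {p : G ⧸ M}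
    (hgood : ∀ (d x : G) (k : ℕ), IsConj z d → d • p = p → IsBad M x → x • p = p →
      (d * x) ^ 2 ^ k = 1 → Commute d x)
    {d x : G} (hd : IsConj z d) (hdp : d • p = p) (hx : IsBad M x) (hxp : x • p = p) :
    Commute d x := by
  have hdo := h.crit.orderOf_conj hd
  obtain ⟨s, j, hj, hn⟩ := Nat.exists_eq_pow_mul_and_not_dvd (orderOf_pos (d * x)).ne' 2 (by norm_num)
  obtain ⟨i, rfl⟩ : Odd j := by rw [Nat.odd_iff]; omega
  -- the reflection `d'` with `d' x` of two-power order
  set d' := (d * x) ^ (i : ℤ) * d * ((d * x) ^ (i : ℤ))⁻¹ with hd'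
  have hd'z : IsConj z d' := hd.trans (isConj_iff.2 ⟨_, rfl⟩)
  have hrp : (d * x) ∈ MulAction.stabilizer G p := mul_mem (MulAction.mem_stabilizer_iff.2 hdp)
    (MulAction.mem_stabilizer_iff.2 hxp)
  have hd'p : d' • p = p := mul_mem (mul_mem (zpow_mem hrp _) (MulAction.mem_stabilizer_iff.2 hdp))
    (inv_mem (zpow_mem hrp _))
  have e : d' * x = (d * x) ^ (2 * i + 1) := by
    rw [hd', zpow_conj_invol hdo hx.1, ← zpow_natCast (d * x) (2 * i + 1)]
    have h1 : ∀ k : ℤ, d * (d * x) ^ k = (d * x) ^ (-k) * d := fun k =>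
      mul_inv_eq_iff_eq_mul.1
        (show d * (d * x) ^ k * d⁻¹ = (d * x) ^ (-k) by
          rw [← conj_zpow, invol_conj_mul hdo hx.1, inv_zpow, zpow_neg])
    rw [h1, mul_assoc, ← zpow_add_one]
    congr 1
    push_cast; ring
  have hc' : Commute d' x := hgood d' x s hd'z hd'p hx hxp (by
    rw [e, ← pow_mul, mul_comm, ← hn, pow_orderOf_eq_one])
  obtain ⟨-, a, b, hab, ha, hb⟩ := id hx
  -- the bad involution `d' x`
  obtain ⟨o, ho⟩ := h.hfree x hx.1
  obtain ⟨u, v, huv, hu, hv⟩ := h.crit.exists_two_fix_mul hx.1 hd'z hc'.symm hab ha hb ho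
  have hd'o := h.crit.orderOf_conj hd'z
  have hbad : IsBad M (x * d') := by
    refine ⟨invol_iff.2 ⟨?_, fun hh => ?_⟩, u, v, huv, hu, hv⟩
    · rw [mul_assoc, ← mul_assoc d' x, hc'.eq, mul_assoc x d', invol_mul_self hd'o, mul_one,
        invol_mul_self hx.1]
    · have hxd : x = d' := (eq_inv_of_mul_eq_one_left hh).trans (invol_inv hd'o)
      exact hab (h.crit.fix_unique hd'z (hxd ▸ ha) (hxd ▸ hb))
  have hcd : Commute (x * d') d := by
    have hsq : (d' * x) * (d' * x) = 1 := by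
      rw [mul_assoc, ← mul_assoc x d', ← hc'.eq, mul_assoc d' x x, invol_mul_self hx.1, mul_one,
        invol_mul_self hd'o]
    have hinv : d * (d' * x) * d⁻¹ = (d' * x)⁻¹ := by
      rw [e, ← conj_pow, invol_conj_mul hdo hx.1, inv_pow]
    rw [inv_eq_of_mul_eq_one_right hsq] at hinv
    rw [← hc'.eq]
    exact (mul_inv_eq_iff_eq_mul.1 hinv).symm
  have hdd : Commute d d' := (hloc _ hbad).comm_at d d' p hd hd'z hcd
    (hc'.symm.mul_left (Commute.refl d')) hdp hd'p
  -- `d d'` has order at most two and odd order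
  have hdd' : d * d' = (d * x) ^ (-(2 * (i : ℤ))) := by
    rw [hd', zpow_conj_invol hdo hx.1, ← mul_assoc, invol_mul_self hdo, one_mul]
  have h1 : (d * d') ^ (2 : ℕ) = 1 := by
    rw [hdd.mul_pow, pow_two, pow_two, invol_mul_self hdo, invol_mul_self hd'o, one_mul]
  have heq : d = d' := by
    by_contra hne
    have hne1 : d * d' ≠ 1 := fun hh => hne ((eq_inv_of_mul_eq_one_left hh).trans (invol_inv hd'o))
    have h2 : orderOf (d * d') = 2 := orderOf_eq_prime h1 hne1
    -- `d d'` is an even power of `d x`, and `(d x)^(2^(s-1) ...)` is odd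
    have h4 : (d * x) ^ ((2 * i + 1) * 2) = 1 := by
      rw [pow_mul, ← e, hc'.mul_pow, pow_two, pow_two, invol_mul_self hd'o, invol_mul_self hx.1, one_mul]
    have h5 : (d * d') ^ (2 * i + 1) = 1 := by
      rw [hdd', ← zpow_natCast, ← zpow_mul,
        show -(2 * (i : ℤ)) * ((2 * i + 1 : ℕ) : ℤ) = (((2 * i + 1) * 2 : ℕ) : ℤ) * (-(i : ℤ)) by
          push_cast; ring, zpow_mul, zpow_natCast, h4, one_zpow]
    have := orderOf_dvd_of_pow_eq_one h5
    rw [h2] at this
    omega
  rw [heq]; exact hc'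

/-- (A) when good pairs commute. -/
theorem Setup.exists_pureE_of_good (h : Setup M z) (hloc : ∀ x : G, IsBad M x → Local M z x)
    (hgood : ∀ (d x : G) (p : G ⧸ M) (k : ℕ), IsConj z d → d • p = p → IsBad M x → x • p = p →
      (d * x) ^ 2 ^ k = 1 → Commute d x)
    (hbad : ∃ x : G, IsBad M x) (p : G ⧸ M) :
    ∃ E : Subgroup G, (∀ g : G, g ∈ E ↔ (IsConj z g ∧ g • p = p) ∨ g = 1) ∧
      (∀ a ∈ E, ∀ b ∈ E, Commute a b) ∧ (∀ a ∈ E, a * a = 1) ∧
      ∀ c : G, c • p = p → ∀ a ∈ E, c * a * c⁻¹ ∈ E :=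
  h.exists_pureE hloc (fun d x q hd hdq hx hxq => ⟨1, by
    rw [pow_one, (h.commute_of_good hloc (fun d' x' k => hgood d' x' q k) hd hdq hx hxq).mul_pow,
      pow_two, pow_two, invol_mul_self (h.crit.orderOf_conj hd), invol_mul_self hx.1, one_mul]⟩) hbad p

end CfsgLib.SECrit
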