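import Cfsg.Agent.Lib.Invol.SECriterion.PureE
import Cfsg.Agent.Lib.Invol.SECriterion.SmallType.Klein
import Cfsg.Agent.Lib.Invol.BaerSuzuki
import Cfsg.Agent.Lib.Coprime.Core

/-!
# The strong embedding criterion: rigidity

A conjugate `v` of `z` at `p` is the only one at `p` with its effect on a point `q` joined to `p` by a
bad involution; an element of odd order inverted by `v` fixes no such point besides `p`. If every point
is joined to `p` and the number of points other than `p` is a power of two, the conjugates of `z` at `p`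
and the identity form an elementary group.
-/

set_option autoImplicit false
set_option linter.style.haveILetI false

namespace CfsgLib.SECrit

open CfsgLib.Invol Subgroup

variable {G : Type*} [Group G] {M : Subgroup G} {z : G}

variable [Finite G]

namespace Crit

variable (h : Crit M z)
include h

/-- If an involution fixes `p` and `q`, one of them centralizes any given conjugate of `z` at `p`. -/
theorem exists_invol_commuting {v k : G} {p q : G ⧸ M} (hpq : p ≠ q) (hv : IsConj z v) (hvp : v • p = p)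
    (hk : orderOf k = 2) (hkp : k • p = p) (hkq : k • q = q) :
    ∃ c : G, orderOf c = 2 ∧ c • p = p ∧ c • q = q ∧ Commute c v := by
  obtain ⟨g, hg, hgp, hgk⟩ := h.exists_commuting_swap (isPGroup_zpowers_invol hk) hpq
    (forall_zpowers_fix hkp) (forall_zpowers_fix hkq)
  have hkg : Commute k g := hgk k (mem_zpowers k)
  have hgo := h.orderOf_conj hg
  have hvo := h.orderOf_conj hv
  set x := k * g with hx
  have hxp : x • p = q := by rw [hx, mul_smul, hgp, hkq]
  have hxo : orderOf x = 2 := by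
    rw [invol_iff]
    refine ⟨?_, fun hh => hpq ?_⟩
    · rw [hx, mul_assoc, ← mul_assoc g k, ← hkg.eq, mul_assoc k g, invol_mul_self hgo, mul_one,
        invol_mul_self hk]
    · rw [← hxp, hh, one_smul]
  -- `v` is not conjugate to `x`
  have heven : Even (orderOf (v * x)) := by
    rw [← Nat.not_odd_iff_even]
    intro hodd
    have hxz : IsConj z x := hv.trans (Invol.isConj_of_odd hvo hxo hodd)
    have hgx : Commute g x := hkg.symm.mul_right (Commute.refl g)
    have hne : g ≠ x := fun hh => invol_ne_one hk (right_eq_mul.1 hh)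
    have e : g * x = k := by
      rw [hgx.eq, hx, mul_assoc, invol_mul_self hgo, mul_one]
    obtain ⟨a, ha⟩ := h.fix_exists hg
    exact hpq ((h.exists_mul_fix hg hxz hgx hne ha (e.symm ▸ hkp)).trans
      (h.exists_mul_fix hg hxz hgx hne ha (e.symm ▸ hkq)).symm)
  set c := (v * x) ^ (orderOf (v * x) / 2) with hc
  have hcv : Commute c v := commute_pow_half (invol_conj_mul hvo hxo) heven
  have hcx : Commute c x := commute_pow_half (invol_conj_mul' hvo hxo) heven
  have hcp : c • p = p := h.smul_of_commute hv hcv hvp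
  refine ⟨c, orderOf_pow_half heven, hcp, ?_, hcv⟩
  rw [← hxp, smul_smul, hcx.eq, mul_smul, hcp]

omit h in
/-- An element of odd order inverted by an involution `v` makes `v * w` conjugate to `v`. -/
theorem isConj_mul_inverted {v w : G} (hinv : v * w * v⁻¹ = w⁻¹) (hw : Odd (orderOf w)) :
    ∃ r ∈ zpowers w, r⁻¹ * v * r = v * w := by
  obtain ⟨i, hi⟩ := hw
  refine ⟨w ^ (i + 1), pow_mem (mem_zpowers w) _, ?_⟩
  have h1 : (w ^ (i + 1))⁻¹ * v = v * w ^ (i + 1) := by
    rw [← inv_pow, ← hinv, conj_pow, inv_mul_cancel_right]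
  rw [h1, mul_assoc, ← pow_add, show i + 1 + (i + 1) = (2 * i + 1) + 1 by ring, pow_succ w (2 * i + 1),
    ← hi, pow_orderOf_eq_one, one_mul]

end Crit

variable (h : Setup M z) (hloc : ∀ x : G, IsBad M x → Local M z x)
include h hloc

/-- An odd element centralizing a bad involution at `p` is not inverted by a conjugate of `z` at `p`
centralizing that involution. -/
theorem Setup.eq_one_of_inverted {v k u : G} {p : G ⧸ M} (hk : IsBad M k) (hv : IsConj z v)
    (hvp : v • p = p) (hkv : Commute k v) (hku : Commute k u) (hup : u • p = p) (hu : Odd (orderOf u))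
    (hinv : v * u * v⁻¹ = u⁻¹) : u = 1 := by
  have hv1 := invol_inv (h.crit.orderOf_conj hv)
  have hc : Commute v (u * v * u⁻¹) := (hloc k hk).comm_at v _ p hv (hv.trans (isConj_iff.2 ⟨u, rfl⟩))
    hkv ((hku.mul_right hkv).mul_right hku.inv_right) hvp (by
      rw [mul_smul, mul_smul, inv_smul_eq_iff.2 hup.symm, hvp, hup])
  have h2 : (v * (u * v * u⁻¹)) ^ 2 = 1 := by
    rw [hc.mul_pow, pow_two, pow_two, invol_mul_self (h.crit.orderOf_conj hv),
      invol_mul_self (invol_conj (h.crit.orderOf_conj hv) u), one_mul]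
  have h3 : v * (u * v * u⁻¹) = (u ^ 2)⁻¹ := by
    rw [← mul_assoc, ← mul_assoc, show v * u * v = u⁻¹ by nth_rewrite 2 [← hv1]; exact hinv, pow_two,
      mul_inv_rev]
  rw [h3, inv_pow, inv_eq_one, ← pow_mul] at h2
  exact eq_one_of_odd_of_pow_two (k := 2) hu h2

/-- **Four group lemma.** An odd subgroup at `p` normalized by commuting `v` and `k`, `v` a conjugate of
`z` at `p` and `k` bad fixing `p`, is centralized by `v`. -/
theorem Setup.commute_of_normalized {v k : G} {p q : G ⧸ M} (hk : orderOf k = 2) (hpq : p ≠ q)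
    (hkp : k • p = p) (hkq : k • q = q) (hv : IsConj z v) (hvp : v • p = p) (hkv : Commute k v)
    {A : Subgroup G} (hA : Odd (Nat.card A)) (hAp : ∀ a ∈ A, a • p = p)
    (hAk : ∀ a ∈ A, k * a * k⁻¹ ∈ A) (hAv : ∀ a ∈ A, v * a * v⁻¹ ∈ A) : ∀ a ∈ A, Commute v a := by
  have hvo := h.crit.orderOf_conj hv
  have hbk : IsBad M k := ⟨hk, p, q, hpq, hkp, hkq⟩
  -- the bad involution `k * v`
  have hbkv : IsBad M (k * v) := by
    obtain ⟨o, ho⟩ := h.hfree k hk
    obtain ⟨r, s, hrs, hr, hs⟩ := h.crit.exists_two_fix_mul hk hv hkv hpq hkp hkq ho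
    refine ⟨invol_iff.2 ⟨?_, fun hh => ?_⟩, r, s, hrs, hr, hs⟩
    · rw [mul_assoc, ← mul_assoc v k, ← hkv.eq, mul_assoc k v, invol_mul_self hvo, mul_one,
        invol_mul_self hk]
    · have e : k = v := (eq_inv_of_mul_eq_one_left hh).trans (invol_inv hvo)
      exact hpq (h.crit.fix_unique hv (e ▸ hkp) (e ▸ hkq))
  -- the two automorphisms
  let aut : ∀ g : G, orderOf g = 2 → (∀ a ∈ A, g * a * g⁻¹ ∈ A) → (A ≃* A) := fun g hg hgA =>
    { toFun := fun a => ⟨g * a * g⁻¹, hgA a a.2⟩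
      invFun := fun a => ⟨g * a * g⁻¹, hgA a a.2⟩
      left_inv := fun a => Subtype.ext (by
        show g * (g * a * g⁻¹) * g⁻¹ = a
        rw [invol_inv hg, show g * (g * a * g) * g = (g * g) * a * (g * g) by group, invol_mul_self hg,
          one_mul, mul_one])
      right_inv := fun a => Subtype.ext (by
        show g * (g * a * g⁻¹) * g⁻¹ = a
        rw [invol_inv hg, show g * (g * a * g) * g = (g * g) * a * (g * g) by group, invol_mul_self hg,
          one_mul, mul_one])
      map_mul' := fun a b => Subtype.ext (by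
        show g * ((a : G) * b) * g⁻¹ = g * a * g⁻¹ * (g * b * g⁻¹)
        group) }
  set σ := aut v hvo hAv with hσ
  set τ := aut k hk hAk with hτ
  have hσe : ∀ a : A, (σ a : G) = v * a * v⁻¹ := fun a => rfl
  have hτe : ∀ a : A, (τ a : G) = k * a * k⁻¹ := fun a => rfl
  have hσ2 : ∀ a : A, σ (σ a) = a := fun a => σ.left_inv a
  have hτ2 : ∀ a : A, τ (τ a) = a := fun a => τ.left_inv a
  have hστ : ∀ a : A, σ (τ a) = τ (σ a) := fun a => Subtype.ext (by
    rw [hσe, hτe, hτe, hσe,
      show v * (k * a * k⁻¹) * v⁻¹ = (v * k) * a * (v * k)⁻¹ by group,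
      show k * (v * a * v⁻¹) * k⁻¹ = (k * v) * a * (k * v)⁻¹ by group, hkv.eq])
  -- an element centralized by a bad involution centralizing `v` is centralized by `v`
  have key : ∀ x : G, IsBad M x → Commute x v → ∀ a : A, Commute x (a : G) → σ a = a := by
    intro x hx hxv a hxa
    set i := (a : G)⁻¹ * (v * a * v⁻¹) with hi
    have hiA : i ∈ A := mul_mem (inv_mem a.2) (hAv a a.2)
    have hi1 : i = 1 := h.eq_one_of_inverted hloc hx hv hvp hxv
      (hxa.inv_right.mul_right ((hxv.mul_right hxa).mul_right hxv.inv_right)) (hAp i hiA)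
      (hA.of_dvd_nat (A.orderOf_coe ⟨i, hiA⟩ ▸ orderOf_dvd_natCard _))
      (by rw [hi, invol_inv hvo, mul_inv_rev, inv_inv]
          calc v * ((a : G)⁻¹ * (v * a * v)) * v = v * (a : G)⁻¹ * v * a * (v * v) := by group
            _ = (v * (a : G) * v)⁻¹ * a := by
              rw [invol_mul_self hvo, mul_one, mul_inv_rev, mul_inv_rev, invol_inv hvo]
              group)
    refine Subtype.ext ?_
    rw [hσe]
    exact (inv_mul_eq_one.1 hi1).symm
  have hfix1 : ∀ a : A, τ a = a → σ a = a := fun a ha => key k hbk hkv a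
    (mul_inv_eq_iff_eq_mul.1 (congrArg Subtype.val ha))
  have hfix2 : ∀ a : A, σ (τ a) = a → σ a = a := fun a ha => key (k * v) hbkv
    ((hkv.mul_left (Commute.refl v))) a (by
      have h1 : v * (k * (a : G) * k⁻¹) * v⁻¹ = a := congrArg Subtype.val ha
      rw [hkv.eq]
      exact mul_inv_eq_iff_eq_mul.1 (Eq.trans (by group) h1))
  have hcard := Small.klein_card hA σ τ hσ2 hτ2 hστ
  have e1 : Nat.card (Small.Fixed τ) = Nat.card {t : A // σ t = t ∧ τ t = t} :=
    Nat.card_congr (Equiv.subtypeEquivRight fun t => ⟨fun ht => ⟨hfix1 t ht, ht⟩, fun ht => ht.2⟩)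
  have e2 : Nat.card {t : A // σ (τ t) = t} = Nat.card {t : A // σ t = t ∧ τ t = t} :=
    Nat.card_congr (Equiv.subtypeEquivRight fun t => ⟨fun ht => ⟨hfix2 t ht,
      σ.injective (ht.trans (hfix2 t ht).symm)⟩, fun ht => by rw [ht.2, ht.1]⟩)
  rw [e1, e2, mul_assoc, ← pow_two] at hcard
  haveI : Nonempty {t : A // σ t = t ∧ τ t = t} := ⟨⟨1, map_one σ, map_one τ⟩⟩
  have hall : Nat.card A = Nat.card (Small.Fixed σ) :=
    Nat.eq_of_mul_eq_mul_right (pow_pos Nat.card_pos 2) hcard
  intro a ha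
  have hsurj : Function.Surjective (fun t : Small.Fixed σ => t.1) :=
    ((Nat.bijective_iff_injective_and_card _).2 ⟨Subtype.val_injective, hall.symm⟩).2
  obtain ⟨⟨t, ht⟩, rfl⟩ := hsurj ⟨a, ha⟩
  exact mul_inv_eq_iff_eq_mul.1 (congrArg Subtype.val ht)

/-- **Rigidity.** A conjugate of `z` at `p` is the only one there with its image of a point joined to
`p` by an involution. -/
theorem Setup.eq_of_smul_eq {v v' k₀ : G} {p q : G ⧸ M} (hpq : p ≠ q) (hk₀ : orderOf k₀ = 2)
    (hk₀p : k₀ • p = p) (hk₀q : k₀ • q = q) (hv : IsConj z v) (hvp : v • p = p) (hv' : IsConj z v')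
    (hv'p : v' • p = p) (heq : v' • q = v • q) : v' = v := by
  haveI : Fact (Nat.Prime 2) := ⟨Nat.prime_two⟩
  obtain ⟨k, hk, hkp, hkq, hkv⟩ := h.crit.exists_invol_commuting hpq hv hvp hk₀ hk₀p hk₀q
  have hvo := h.crit.orderOf_conj hv
  have hv'o := h.crit.orderOf_conj hv'
  set q' := v • q with hq'
  have hqq : q ≠ q' := fun hh => hpq (h.crit.fix_unique hv hvp hh.symm)
  have hodd : Odd (orderOf (v * v')) := h.crit.odd_mul_swaps hv hv' hqq rfl heq
  set H := pairStab q q' with hH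
  have hvH : v ∈ H := h.crit.swap_mem_pairStab hv rfl
  have hv'H : v' ∈ H := h.crit.swap_mem_pairStab hv' heq
  have hkH : k ∈ H := mem_pairStab_of_fix hkq (by rw [hq', smul_smul, hkv.eq, mul_smul, hkq])
  obtain ⟨n, hn, hnv⟩ := exists_conj_eq_of_odd hvo hv'o hodd
  have hnH : n ∈ H := (zpowers_le.2 (mul_mem hvH hv'H)) hn
  set O := (Cfsg.pPrimeCore 2 H).map H.subtype with hO
  set A := O ⊓ MulAction.stabilizer G p with hA
  have hwO : v * v' ∈ O := by
    refine ⟨_, h.crit.commutator_swap_mem_core hqq hv rfl ⟨n, hnH⟩, ?_⟩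
    show v * n * v⁻¹ * n⁻¹ = v * v'
    rw [mul_assoc v n, mul_assoc v, invol_inv hvo, hnv]
  have hAodd : Odd (Nat.card A) := by
    have h1 : Nat.card A ∣ Nat.card (Cfsg.pPrimeCore 2 H) := by
      rw [← card_map_of_injective (K := Cfsg.pPrimeCore 2 H) H.subtype_injective]
      exact card_dvd_of_le inf_le_left
    rw [← Nat.not_even_iff_odd, even_iff_two_dvd]
    exact fun hh => Coprime.pPrimeCore_not_dvd Nat.prime_two (hh.trans h1)
  have hnorm : ∀ g ∈ H, g • p = p → ∀ a ∈ A, g * a * g⁻¹ ∈ A := by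
    rintro g hg hgp a ⟨⟨b, hb, rfl⟩, hap⟩
    refine ⟨⟨_, (inferInstance : (Cfsg.pPrimeCore 2 H).Normal).conj_mem b hb ⟨g, hg⟩, rfl⟩, ?_⟩
    have hbp : (b : G) • p = p := hap
    show (g * (b : G) * g⁻¹) • p = p
    rw [mul_smul, mul_smul, inv_smul_eq_iff.2 hgp.symm, hbp, hgp]
  have hwA : v * v' ∈ A := ⟨hwO, show (v * v') • p = p by rw [mul_smul, hv'p, hvp]⟩
  have hc : Commute v (v * v') := h.commute_of_normalized hloc hk hpq hkp hkq hv hvp hkv hAodd
    (fun a ha => ha.2) (hnorm k hkH hkp) (hnorm v hvH hvp) _ hwA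
  have hvv : Commute v v' := by
    have := hc.eq
    rw [mul_assoc v v' v] at this
    exact mul_left_cancel this
  have h1 : v * v' = 1 := eq_one_of_odd_of_pow_two (k := 1) hodd (by
    rw [pow_one, hvv.mul_pow, pow_two, pow_two, invol_mul_self hvo, invol_mul_self hv'o, one_mul])
  exact ((inv_eq_of_mul_eq_one_right h1).symm.trans (invol_inv hvo))

/-- An odd element inverted by a conjugate of `z` at `p` fixes no other point joined to `p`. -/
theorem Setup.eq_one_of_inverted_of_fix {v w k₀ : G} {p q : G ⧸ M} (hpq : p ≠ q) (hk₀ : orderOf k₀ = 2)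
    (hk₀p : k₀ • p = p) (hk₀q : k₀ • q = q) (hv : IsConj z v) (hvp : v • p = p) (hwp : w • p = p)
    (hwq : w • q = q) (hw : Odd (orderOf w)) (hinv : v * w * v⁻¹ = w⁻¹) : w = 1 := by
  obtain ⟨r, -, hr⟩ := Crit.isConj_mul_inverted hinv hw
  have hvw : IsConj z (v * w) := hv.trans (isConj_iff.2 ⟨r⁻¹, by rw [inv_inv, hr]⟩)
  have := h.eq_of_smul_eq hloc hpq hk₀ hk₀p hk₀q hv hvp hvw (by rw [mul_smul, hwp, hvp])
    (by rw [mul_smul, hwq])
  exact mul_left_cancel (this.trans (mul_one v).symm)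

/-- Two conjugates of `z` at `p` generate a two-group, if every point is joined to `p` and the points
other than `p` are a power of two in number. -/
theorem Setup.exists_two_pow_of_joined {p : G ⧸ M}
    (hall : ∀ q : G ⧸ M, q ≠ p → ∃ k : G, orderOf k = 2 ∧ k • p = p ∧ k • q = q) {n : ℕ}
    (hN : Nat.card {q : G ⧸ M // q ≠ p} = 2 ^ n) {u v : G} (hu : IsConj z u) (hup : u • p = p)
    (hv : IsConj z v) (hvp : v • p = p) : ∃ s : ℕ, orderOf (u * v) = 2 ^ s := by
  have huo := h.crit.orderOf_conj hu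
  have hvo := h.crit.orderOf_conj hv
  have huvp : (u * v) • p = p := by rw [mul_smul, hvp, hup]
  refine ⟨_, Nat.eq_prime_pow_of_unique_prime_dvd (orderOf_pos _).ne' fun {r} hr hrd => ?_⟩
  by_contra hr2
  haveI : Fact r.Prime := ⟨hr⟩
  set w := (u * v) ^ (orderOf (u * v) / r) with hw
  have hwo : orderOf w = r := orderOf_pow_orderOf_div (orderOf_pos _).ne' hrd
  have hwp : w • p = p := MulAction.mem_stabilizer_iff.1 (pow_mem (MulAction.mem_stabilizer_iff.2 huvp) _)
  have hwinv : u * w * u⁻¹ = w⁻¹ := by rw [hw, ← conj_pow, invol_conj_mul huo hvo, inv_pow]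
  have hstab : ∀ g : zpowers w, (g : G) • p = p := fun g =>
    MulAction.mem_stabilizer_iff.1 (zpowers_le.2 (MulAction.mem_stabilizer_iff.2 hwp) g.2)
  letI : MulAction (zpowers w) {q : G ⧸ M // q ≠ p} :=
    { smul := fun g a => ⟨(g : G) • a.1, fun hh => a.2 (smul_left_cancel (g : G) (hh.trans (hstab g).symm))⟩
      one_smul := fun a => Subtype.ext (one_smul G a.1)
      mul_smul := fun g g' a => Subtype.ext (mul_smul (g : G) (g' : G) a.1) }
  obtain ⟨⟨q, hqp⟩, hq⟩ := (IsPGroup.of_card (n := 1) (by rw [Nat.card_zpowers, hwo, pow_one]) :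
    IsPGroup r (zpowers w)).nonempty_fixed_point_of_prime_not_dvd_card {q : G ⧸ M // q ≠ p} (by
      rw [hN]
      exact fun hh => hr2 ((Nat.prime_dvd_prime_iff_eq hr Nat.prime_two).1 (hr.dvd_of_dvd_pow hh)))
  have hwq : w • q = q := congrArg Subtype.val (hq ⟨w, mem_zpowers w⟩)
  obtain ⟨k, hk, hkp, hkq⟩ := hall q hqp
  have := h.eq_one_of_inverted_of_fix hloc (Ne.symm hqp) hk hkp hkq hu hup hwp hwq
    (by rw [hwo]; exact hr.odd_of_ne_two hr2) hwinv
  rw [this, orderOf_one] at hwo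
  exact hr.ne_one hwo.symm

/-- **(A) from a two-power number of points.** -/
theorem Setup.exists_elementary_of_joined {p : G ⧸ M}
    (hall : ∀ q : G ⧸ M, q ≠ p → ∃ k : G, orderOf k = 2 ∧ k • p = p ∧ k • q = q) {n : ℕ}
    (hN : Nat.card {q : G ⧸ M // q ≠ p} = 2 ^ n) :
    ∃ E : Subgroup G, (∀ g : G, g ∈ E ↔ (IsConj z g ∧ g • p = p) ∨ g = 1) ∧
      (∀ a ∈ E, ∀ b ∈ E, Commute a b) ∧ (∀ a ∈ E, a * a = 1) ∧
      ∀ c : G, c • p = p → ∀ a ∈ E, c * a * c⁻¹ ∈ E := by
  haveI : Fact (Nat.Prime 2) := ⟨Nat.prime_two⟩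
  obtain ⟨u, hu, hup⟩ := h.crit.exists_fixing p
  set K := MulAction.stabilizer G p with hK
  have hcK : ∀ g : K, IsConj z ((g : G) * u * (g : G)⁻¹) ∧ ((g : G) * u * (g : G)⁻¹) • p = p :=
    fun g => ⟨hu.trans (isConj_iff.2 ⟨g, rfl⟩), by
      have hg : (g : G) • p = p := MulAction.mem_stabilizer_iff.1 g.2
      rw [mul_smul, mul_smul, inv_smul_eq_iff.2 hg.symm, hup, hg]⟩
  set uK : K := ⟨u, MulAction.mem_stabilizer_iff.2 hup⟩ with huK
  obtain ⟨N, hN', hN2, huN⟩ := exists_normal_pGroup_mem (p := 2) (x := uK) fun g => by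
    obtain ⟨s, hs⟩ := h.exists_two_pow_of_joined hloc hall hN hu hup (hcK g).1 (hcK g).2
    have huo : orderOf uK = 2 := by rw [huK, orderOf_mk]; exact h.crit.orderOf_conj hu
    refine two_group_of_pair huo (invol_conj huo g) (s := s) ?_
    rw [← orderOf_injective K.subtype K.subtype_injective]
    exact hs
  -- every conjugate of `z` at `p` lies in `N`
  have hmem : ∀ {d : G} (hd : IsConj z d) (hdp : d • p = p),
      (⟨d, MulAction.mem_stabilizer_iff.2 hdp⟩ : K) ∈ N := by
    intro d hd hdp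
    obtain ⟨g, hg⟩ := isConj_iff.1 (hu.symm.trans hd)
    have hgp : g • p = p := h.crit.smul_eq_of_conj hd hg hup hdp
    exact (show (⟨g, hgp⟩ : K) * uK * (⟨g, hgp⟩ : K)⁻¹ = ⟨d, _⟩ from Subtype.ext hg) ▸
      hN'.conj_mem uK huN ⟨g, hgp⟩
  -- an involution of its centre
  haveI : Nontrivial N := ⟨⟨uK, huN⟩, 1, fun e => invol_ne_one (h.crit.orderOf_conj hu)
    (congrArg (fun t : N => ((t : K) : G)) e)⟩
  haveI := hN2.center_nontrivial
  obtain ⟨i, hi0, hi⟩ :=
    IsPGroup.nontrivial_iff_card (hN2.to_subgroup (Subgroup.center N)) |>.1 inferInstance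
  obtain ⟨t, ht⟩ := exists_prime_orderOf_dvd_card' (G := Subgroup.center N) 2 (hi ▸ dvd_pow_self 2 hi0.ne')
  set ζ : G := (((t : N) : K) : G) with hζ
  have hζo : orderOf ζ = 2 := by rw [hζ, orderOf_coe, orderOf_coe, orderOf_coe, ht]
  have hζp : ζ • p = p := MulAction.mem_stabilizer_iff.1 ((t : N) : K).2
  have hζc : ∀ {d : G}, IsConj z d → d • p = p → Commute d ζ := fun hd hdp =>
    congrArg (fun s : N => ((s : K) : G)) (Subgroup.mem_center_iff.1 t.2 ⟨_, hmem hd hdp⟩)
  have hcomm : ∀ {a b : G}, IsConj z a → a • p = p → IsConj z b → b • p = p → Commute a b := by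
    intro a b ha hap hb hbp
    by_cases h1 : ∀ r s : G ⧸ M, ζ • r = r → ζ • s = s → r = s
    · -- the centre holds a conjugate of `z`
      have hζz := h.crit.isConj_of_unique_fix h.hfree hζo h1
      obtain ⟨g, hg⟩ := isConj_iff.1 (hζz.symm.trans hb)
      have hgp : g • p = p := h.crit.smul_eq_of_conj hb hg hζp hbp
      have ha' : IsConj z (g⁻¹ * a * g⁻¹⁻¹) := ha.trans (isConj_iff.2 ⟨g⁻¹, rfl⟩)
      have h2 := Commute.map (hζc ha' (by
        rw [inv_inv, mul_smul, mul_smul, hgp, hap, inv_smul_eq_iff.2 hgp.symm]))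
        (MulAut.conj g).toMonoidHom
      simp only [MulEquiv.coe_toMonoidHom, MulAut.conj_apply, inv_inv] at h2
      rwa [hg, show g * (g⁻¹ * a * g) * g⁻¹ = a by group] at h2
    · push Not at h1
      obtain ⟨r, s, hr, hs, hrs⟩ := h1
      exact (hloc ζ ⟨hζo, r, s, hrs, hr, hs⟩).comm_at a b p ha hb (hζc ha hap).symm (hζc hb hbp).symm
        hap hbp
  let E : Subgroup G :=
    { carrier := {g | (IsConj z g ∧ g • p = p) ∨ g = 1}
      one_mem' := Or.inr rfl
      inv_mem' := by
        rintro a (ha | rfl)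
        · rw [invol_inv (h.crit.orderOf_conj ha.1)]; exact Or.inl ha
        · rw [inv_one]; exact Or.inr rfl
      mul_mem' := by
        rintro a b (⟨ha, hap⟩ | rfl) (⟨hb, hbp⟩ | rfl)
        · by_cases e : a = b
          · rw [← e, invol_mul_self (h.crit.orderOf_conj ha)]; exact Or.inr rfl
          · exact Or.inl ⟨h.isConj_mul ha hb (hcomm ha hap hb hbp) e, by rw [mul_smul, hbp, hap]⟩
        · rw [mul_one]; exact Or.inl ⟨ha, hap⟩
        · rw [one_mul]; exact Or.inl ⟨hb, hbp⟩
        · rw [one_mul]; exact Or.inr rfl }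
  refine ⟨E, fun g => Iff.rfl, ?_, ?_, ?_⟩
  · rintro a (⟨ha, hap⟩ | rfl) b (⟨hb, hbp⟩ | rfl)
    · exact hcomm ha hap hb hbp
    · exact Commute.one_right _
    · exact Commute.one_left _
    · exact Commute.one_left _
  · rintro a (ha | rfl)
    · exact invol_mul_self (h.crit.orderOf_conj ha.1)
    · exact one_mul 1
  · rintro c hcp a (⟨ha, hap⟩ | rfl)
    · exact Or.inl ⟨ha.trans (isConj_iff.2 ⟨c, rfl⟩), by
        rw [mul_smul, mul_smul, inv_smul_eq_iff.2 hcp.symm, hap, hcp]⟩
    · exact Or.inr (by simp)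

omit h hloc in
/-- A two-subgroup at `p` with more elements than there are other points joins all points to `p`. -/
theorem exists_invol_fix_of_card {p : G ⧸ M} {P : Subgroup G} (hP : IsPGroup 2 P)
    (hPp : ∀ g ∈ P, g • p = p) (hcard : Nat.card {q : G ⧸ M // q ≠ p} < Nat.card P) {q : G ⧸ M}
    (hqp : q ≠ p) : ∃ k : G, orderOf k = 2 ∧ k • p = p ∧ k • q = q := by
  haveI : Fact (Nat.Prime 2) := ⟨Nat.prime_two⟩
  obtain ⟨a, b, hab, heq⟩ : ∃ a b : P, a ≠ b ∧ (a : G) • q = (b : G) • q := by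
    by_contra hh
    push Not at hh
    refine (Nat.not_le.2 hcard) (Nat.card_le_card_of_injective
      (fun a : P => (⟨(a : G) • q, fun e => hqp (smul_left_cancel (a : G) (e.trans (hPp a a.2).symm))⟩ :
        {q : G ⧸ M // q ≠ p})) fun a b e => ?_)
    by_contra hne
    exact hh a b hne (congrArg Subtype.val e)
  set T := P ⊓ MulAction.stabilizer G q with hT
  have hTmem : (((b⁻¹ * a : P)) : G) ∈ T := ⟨(b⁻¹ * a).2, show (((b⁻¹ * a : P)) : G) • q = q by
    rw [coe_mul, InvMemClass.coe_inv, mul_smul, heq, inv_smul_smul]⟩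
  have hTP : IsPGroup 2 T := hP.to_le inf_le_left
  haveI : Nontrivial T := ⟨⟨_, hTmem⟩, 1, fun e => hab (by
    have : b⁻¹ * a = 1 := Subtype.ext (congrArg Subtype.val e : _)
    exact (inv_mul_eq_one.1 this).symm)⟩
  obtain ⟨i, hi0, hi⟩ := IsPGroup.nontrivial_iff_card hTP |>.1 inferInstance
  obtain ⟨k, hk⟩ := exists_prime_orderOf_dvd_card' (G := T) 2 (hi ▸ dvd_pow_self 2 hi0.ne')
  exact ⟨k, by rw [orderOf_coe, hk], hPp k k.2.1, k.2.2⟩

end CfsgLib.SECrit
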