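import Cfsg.Agent.Lib.Invol.SECriterion.Closed

/-!
# The strong embedding criterion: the inductive setting

`Concl M z`: every involution of the normal closure of `z` is a conjugate of `z`.  It is proved for
core-free `M` by induction on the order of the group; `Setup M z` is the situation of the inductive
step.  A subgroup with `Crit` and an arbitrary core gives `QConcl`: every involution of the normal
closure of `z` lies in the core or fixes at most one point.
-/

set_option autoImplicit false

namespace CfsgLib.SECrit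

open CfsgLib.Invol Subgroup

universe u

/-- The conclusion of the criterion in the core-free case. -/
def Concl {G : Type u} [Group G] (_M : Subgroup G) (z : G) : Prop :=
  ∀ x ∈ normalClosure ({z} : Set G), orderOf x = 2 → IsConj z x

/-- The conclusion of the criterion for an arbitrary core. -/
def QConcl {G : Type u} [Group G] (M : Subgroup G) (z : G) : Prop :=
  ∀ x ∈ normalClosure ({z} : Set G), orderOf x = 2 →
    x ∈ M.normalCore ∨ ∀ a b : G ⧸ M, x • a = a → x • b = b → a = b

/-- The inductive step: a core-free proper `M`, the criterion holding in every smaller group. -/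
structure Setup {G : Type u} [Group G] [Finite G] (M : Subgroup G) (z : G) : Prop where
  crit : Crit M z
  ne_top : M ≠ ⊤
  core : M.normalCore = ⊥
  ih : ∀ (G' : Type u) [Group G'] [Finite G'], Nat.card G' < Nat.card G → ∀ (M' : Subgroup G') (z' : G'),
    Crit M' z' → M' ≠ ⊤ → M'.normalCore = ⊥ → Concl M' z'

section

variable {G : Type u} [Group G] {M : Subgroup G} {z : G}

theorem forall_smul_of_mem_core {n : G} (hn : n ∈ M.normalCore) (a : G ⧸ M) : n • a = a := by
  obtain ⟨g, rfl⟩ := QuotientGroup.mk_surjective a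
  rw [smul_coe_eq_iff]
  have := M.normalCore_le ((normalCore_normal M).conj_mem n hn g⁻¹)
  simpa [mul_assoc] using this

theorem mem_core_of_forall_smul {n : G} (hn : ∀ a : G ⧸ M, n • a = a) : n ∈ M.normalCore := by
  intro g
  have := hn ((g⁻¹ : G) : G ⧸ M)
  rw [smul_coe_eq_iff] at this
  simpa [mul_assoc] using this

variable [Finite G]

/-- Changing the point: the setting at any point with any conjugate fixing it. -/
theorem Crit.at_point (h : Crit M z) {p : G ⧸ M} {d : G} (hd : IsConj z d) (hdp : d • p = p) :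
    Crit (MulAction.stabilizer G p) d where
  invol := h.orderOf_conj hd
  mem := hdp
  sylow := by
    have e : Nat.card {x : G // IsConj d x} = Nat.card {x : G // IsConj z x} :=
      Nat.card_congr (Equiv.subtypeEquivRight fun x => ⟨fun hx => hd.trans hx, fun hx => hd.symm.trans hx⟩)
    rw [← card_isConj_eq_index, e, card_isConj_eq_index]
    exact h.sylow
  fuse := fun g hg => by
    refine h.smul_eq_of_conj (hd.trans (isConj_iff.2 ⟨g, rfl⟩)) rfl hdp ?_
    exact MulAction.mem_stabilizer_iff.1 hg
  prod := fun g hc hne c hcm => MulAction.mem_stabilizer_iff.2 (h.smul_of_commute_mul hd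
    (hd.trans (isConj_iff.2 ⟨g, rfl⟩)) hc hne.symm (mem_centralizer_singleton_iff.1 hcm) hdp)

/-- A two-subgroup centralizes an odd number of conjugates of `z`. -/
theorem Crit.odd_card_commuting (h : Crit M z) {A : Subgroup G} (hA : IsPGroup 2 A) :
    Odd (Nat.card {d : G // IsConj z d ∧ ∀ x ∈ A, Commute x d}) := by
  haveI : Fact (Nat.Prime 2) := ⟨Nat.prime_two⟩
  letI : MulAction A {d : G // IsConj z d} :=
    { smul := fun x d => ⟨(x : G) * d.1 * (x : G)⁻¹, d.2.trans (isConj_iff.2 ⟨x, rfl⟩)⟩
      one_smul := fun d => Subtype.ext (show ((1 : A) : G) * d.1 * ((1 : A) : G)⁻¹ = d.1 by simp)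
      mul_smul := fun x y d => Subtype.ext (show ((x * y : A) : G) * d.1 * ((x * y : A) : G)⁻¹ =
        (x : G) * ((y : G) * d.1 * (y : G)⁻¹) * (x : G)⁻¹ by simp [mul_assoc]) }
  have hmod := hA.card_modEq_card_fixedPoints {d : G // IsConj z d}
  have hodd : Odd (Nat.card {d : G // IsConj z d}) := by rw [card_isConj_eq_index]; exact h.sylow
  have e : Nat.card {d : G // IsConj z d ∧ ∀ x ∈ A, Commute x d} =
      Nat.card (MulAction.fixedPoints A {d : G // IsConj z d}) :=
    Nat.card_congr
      { toFun := fun d => ⟨⟨d.1, d.2.1⟩, fun x => Subtype.ext (show (x : G) * d.1 * (x : G)⁻¹ = d.1 by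
          rw [(d.2.2 x x.2).eq, mul_inv_cancel_right])⟩
        invFun := fun d => ⟨d.1.1, d.1.2, fun x hx => mul_inv_eq_iff_eq_mul.1
          (show x * d.1.1 * x⁻¹ = d.1.1 from congrArg Subtype.val (d.2 ⟨x, hx⟩))⟩
        left_inv := fun d => rfl
        right_inv := fun d => rfl }
  rw [e, Nat.odd_iff, ← hmod, ← Nat.odd_iff]
  exact hodd

theorem Crit.exists_mul_fix (h : Crit M z) {d e : G} (hd : IsConj z d) (he : IsConj z e) (hde : Commute d e)
    (hne : d ≠ e) {p : G ⧸ M} (hdp : d • p = p) {a : G ⧸ M} (ha : (d * e) • a = a) : a = p := by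
  have ho : orderOf (d * e) = 2 := by
    rw [invol_iff]
    refine ⟨?_, fun hh => hne ((eq_inv_of_mul_eq_one_left hh).trans (invol_inv (h.orderOf_conj he)))⟩
    calc d * e * (d * e) = d * (e * d) * e := by group
      _ = 1 := by
        rw [← hde.eq, ← mul_assoc, invol_mul_self (h.orderOf_conj hd), one_mul,
          invol_mul_self (h.orderOf_conj he)]
  obtain ⟨f, hf, hfa, hcf⟩ := h.exists_commuting_invol ho ha
  exact h.fix_unique hf hfa (h.smul_of_commute_mul hd he hde hne hcf.symm hdp)

/-- The setting passes to the quotient by the core. -/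
theorem Crit.quotient (h : Crit M z) (hM : M ≠ ⊤) :
    Crit (M.map (QuotientGroup.mk' M.normalCore)) (QuotientGroup.mk' M.normalCore z) ∧
      M.map (QuotientGroup.mk' M.normalCore) ≠ ⊤ ∧
      (M.map (QuotientGroup.mk' M.normalCore)).normalCore = ⊥ := by
  set N := M.normalCore with hN
  set π := QuotientGroup.mk' N with hπ
  have hsurj : Function.Surjective π := QuotientGroup.mk'_surjective N
  have hker : π.ker ≤ M := by rw [hπ, QuotientGroup.ker_mk']; exact M.normalCore_le
  have hcomap : (M.map π).comap π = M := comap_map_eq_self hker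
  have hmem : ∀ g : G, π g ∈ M.map π ↔ g ∈ M := fun g => by rw [← mem_comap, hcomap]
  have hzp : z • ((1 : G) : G ⧸ M) = ((1 : G) : G ⧸ M) := by
    rw [smul_coe_eq_iff]; simpa using h.mem
  have hzN : z ∉ N := by
    intro hz
    obtain ⟨g, hg⟩ : ∃ g : G, g ∉ M := by
      by_contra hh; push Not at hh; exact hM (eq_top_iff.2 fun g _ => hh g)
    exact hg (h.fuse g (M.normalCore_le ((normalCore_normal M).conj_mem z hz g)))
  have hzo : orderOf (π z) = 2 := orderOf_eq_prime (hp := ⟨Nat.prime_two⟩)
    (by rw [← map_pow, ← h.invol, pow_orderOf_eq_one, map_one])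
    (fun e => hzN ((QuotientGroup.eq_one_iff z).1 e))
  refine ⟨⟨hzo, mem_map_of_mem π h.mem, ?_, ?_, ?_⟩, ?_, ?_⟩
  · refine h.sylow.of_dvd_nat ((Subgroup.index_dvd_of_le ?_).trans (index_map_dvd _ hsurj))
    rintro _ ⟨c, hc, rfl⟩
    rw [mem_centralizer_singleton_iff, ← map_mul, ← map_mul, mem_centralizer_singleton_iff.1 hc]
  · intro gb hg
    obtain ⟨g, rfl⟩ := hsurj gb
    rw [← map_inv, ← map_mul, ← map_mul, hmem] at hg
    exact mem_map_of_mem π (h.fuse g hg)
  · intro gb hc hne cb hcm
    obtain ⟨g, rfl⟩ := hsurj gb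
    obtain ⟨c, rfl⟩ := hsurj cb
    rw [hmem]
    set p : G ⧸ M := ((1 : G) : G ⧸ M) with hp
    have hact : ∀ x y : G, π x = π y → ∀ a : G ⧸ M, x • a = y • a := fun x y e a => by
      have h1 := forall_smul_of_mem_core ((QuotientGroup.eq).1 e) a
      rw [mul_smul, inv_smul_eq_iff] at h1
      exact h1.symm
    set e := g * z * g⁻¹ with he
    have hec : IsConj z e := isConj_iff.2 ⟨g, rfl⟩
    have heo := h.orderOf_conj hec
    have hπe : π e = π g * π z * (π g)⁻¹ := by rw [he, map_mul, map_mul, map_inv]
    rw [← hπe] at hc hne hcm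
    have hsq : (z * e) ^ 2 ∈ N := by
      refine (QuotientGroup.eq_one_iff _).1 (show π ((z * e) ^ 2) = 1 from ?_)
      rw [map_pow, map_mul, hc.mul_pow, ← map_pow, ← map_pow, pow_two, pow_two,
        invol_mul_self h.invol, invol_mul_self heo, map_one, mul_one]
    have hne' : z * e ∉ N := fun hh => hne (by
      have h1 : π (z * e) = 1 := (QuotientGroup.eq_one_iff _).2 hh
      rw [map_mul] at h1
      exact ((mul_eq_one_iff_inv_eq.1 h1).symm.trans (by
        rw [← map_inv, invol_inv h.invol])))
    obtain ⟨k, hk | hk⟩ := Nat.even_or_odd' (orderOf (z * e))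
    swap
    · refine absurd ?_ hne'
      have h1 : z * e = ((z * e) ^ 2) ^ (k + 1) := by
        rw [← pow_mul, show 2 * (k + 1) = orderOf (z * e) + 1 by omega, pow_succ,
          pow_orderOf_eq_one, one_mul]
      rw [h1]
      exact pow_mem hsq _
    set w := (z * e) ^ k with hw
    have hk2 : orderOf (z * e) / 2 = k := by omega
    have heven : Even (orderOf (z * e)) := ⟨k, by omega⟩
    have hwo : orderOf w = 2 := by
      have := orderOf_pow_half heven
      rwa [hk2] at this
    have hwz : Commute w z := by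
      have := commute_pow_half (invol_conj_mul h.invol heo) heven
      rwa [hk2] at this
    have hf : IsConj z (z * w) := by
      have := h.isConj_mul_half (IsConj.refl z) hec
      rwa [hk2] at this
    have hzw : Commute z (z * w) := (Commute.refl z).mul_right hwz.symm
    have hzwne : z ≠ z * w := fun hh => invol_ne_one hwo (left_eq_mul.1 hh)
    have hzww : z * (z * w) = w := by rw [← mul_assoc, invol_mul_self h.invol, one_mul]
    rcases Nat.even_or_odd k with ⟨j, hj⟩ | ⟨j, hj⟩
    · have hwN : w ∈ N := by
        rw [hw, show k = 2 * j by omega, pow_mul]; exact pow_mem hsq _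
      obtain ⟨q, hq⟩ : ∃ q : G ⧸ M, q ≠ p := by
        by_contra hh; push Not at hh
        exact hM (eq_top_iff.2 fun x _ => by simpa [hp, QuotientGroup.eq] using (hh (x : G ⧸ M)).symm)
      exact absurd (h.exists_mul_fix (IsConj.refl z) hf hzw hzwne hzp
        (a := q) (by rw [hzww]; exact forall_smul_of_mem_core hwN q)) hq
    · have hwe : π w = π (z * e) := by
        rw [hw, show k = 2 * j + 1 by omega, pow_succ, pow_mul, map_mul,
          show π (((z * e) ^ 2) ^ j) = 1 from (QuotientGroup.eq_one_iff _).2 (pow_mem hsq j), one_mul]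
      have hwp : w • p = p := h.smul_of_commute (IsConj.refl z) hwz hzp
      have hwcp : w • (c • p) = c • p := by
        have hcc : π (w * c) = π (c * w) := by
          rw [map_mul, map_mul, hwe, map_mul]
          exact (mem_centralizer_singleton_iff.1 hcm).symm
        rw [smul_smul, hact _ _ hcc, mul_smul, hwp]
      have hcp : c • p = p := h.exists_mul_fix (IsConj.refl z) hf hzw hzwne hzp (hzww.symm ▸ hwcp)
      rw [hp, smul_coe_eq_iff] at hcp
      simpa using hcp
  · intro hh
    rw [← hcomap, hh, comap_top] at hM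
    exact hM rfl
  · rw [eq_bot_iff]
    intro xb hx
    obtain ⟨x, rfl⟩ := hsurj xb
    refine mem_bot.2 ((QuotientGroup.eq_one_iff x).2 fun g => ?_)
    have := (normalCore_normal _).conj_mem _ hx (π g)
    rw [← map_inv, ← map_mul, ← map_mul] at this
    exact (hmem _).1 (normalCore_le _ this)

/-- The core-free conclusion in the quotient gives the conclusion modulo the core. -/
theorem qconcl_of_quotient (h : Crit M z)
    (hq : Concl (M.map (QuotientGroup.mk' M.normalCore)) (QuotientGroup.mk' M.normalCore z)) : QConcl M z := by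
  intro x hx hxo
  by_cases hxN : x ∈ M.normalCore
  · exact Or.inl hxN
  refine Or.inr fun a b ha hb => ?_
  set π := QuotientGroup.mk' M.normalCore with hπ
  have hx' : π x ∈ normalClosure ({π z} : Set (G ⧸ M.normalCore)) := by
    have := map_normalClosure ({z} : Set G) π (QuotientGroup.mk'_surjective _)
    rw [Set.image_singleton] at this
    exact this ▸ mem_map_of_mem π hx
  have hxo' : orderOf (π x) = 2 := orderOf_eq_prime (hp := ⟨Nat.prime_two⟩)
    (by rw [← map_pow, ← hxo, pow_orderOf_eq_one, map_one])
    (fun e => hxN ((QuotientGroup.eq_one_iff x).1 e))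
  obtain ⟨gb, hg⟩ := isConj_iff.1 (hq _ hx' hxo')
  obtain ⟨g, rfl⟩ := QuotientGroup.mk'_surjective _ gb
  rw [← map_inv, ← map_mul, ← map_mul] at hg
  have hs : ∀ a : G ⧸ M, (g * z * g⁻¹) • a = x • a := fun a => by
    have h1 := forall_smul_of_mem_core ((QuotientGroup.eq).1 hg) a
    rw [mul_smul, inv_smul_eq_iff] at h1
    exact h1.symm
  exact h.fix_unique (isConj_iff.2 ⟨g, rfl⟩) ((hs a).trans ha) ((hs b).trans hb)

/-- Induction on the order of the group: it suffices to treat a `Setup`. -/
theorem concl_of_setup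
    (hstep : ∀ (G : Type u) [Group G] [Finite G] (M : Subgroup G) (z : G), Setup M z → Concl M z) :
    ∀ (G : Type u) [Group G] [Finite G] (M : Subgroup G) (z : G), Crit M z → M ≠ ⊤ →
      M.normalCore = ⊥ → Concl M z := by
  suffices ∀ (n : ℕ) (G : Type u) [Group G] [Finite G], Nat.card G = n → ∀ (M : Subgroup G) (z : G),
      Crit M z → M ≠ ⊤ → M.normalCore = ⊥ → Concl M z from
    fun G _ _ M z hc hM hcore => this _ G rfl M z hc hM hcore
  intro n
  induction n using Nat.strong_induction_on with
  | _ n ih =>
    intro G _ _ hn M z hc hM hcore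
    exact hstep G M z ⟨hc, hM, hcore, fun G' _ _ hlt M' z' => ih _ (hn ▸ hlt) G' rfl M' z'⟩

namespace Setup

variable (h : Setup M z)
include h

theorem hfree : ∀ c : G, orderOf c = 2 → ∃ a : G ⧸ M, c • a ≠ a := by
  intro c hc
  by_contra hh
  push Not at hh
  have := mem_core_of_forall_smul hh
  rw [h.core, mem_bot] at this
  exact invol_ne_one hc this

/-- The criterion modulo the core in every smaller group. -/
theorem ih' (G' : Type u) [Group G'] [Finite G'] (hlt : Nat.card G' < Nat.card G) (M' : Subgroup G') (z' : G')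
    (hc : Crit M' z') (hM : M' ≠ ⊤) : QConcl M' z' := by
  obtain ⟨h1, h2, h3⟩ := hc.quotient hM
  refine qconcl_of_quotient hc (h.ih _ ?_ _ _ h1 h2 h3)
  refine lt_of_le_of_lt ?_ hlt
  exact Nat.card_le_card_of_surjective _ (QuotientGroup.mk'_surjective M'.normalCore)

end Setup

end

end CfsgLib.SECrit
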