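import Cfsg.Agent.Lib.Invol.SECriterion.PureChain
import Mathlib.GroupTheory.GroupAction.Basic

/-!
# The strong embedding criterion: SIGMA

A member of `J` commuting with its conjugate by a member `y` of `Y` centralizes the members of `J`
commuting with `y`, provided no element of odd prime power order is inverted by a member of `J` and
centralizes a member of `Y` together with a commuting member of `J` (lemma W).
-/

set_option autoImplicit false
set_option linter.style.haveILetI false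

namespace CfsgLib.SECrit

open CfsgLib.Invol

variable {G : Type*} [Group G]

/-- The hypotheses of SIGMA. -/
structure SigmaData (J Y : Set G) : Prop where
  invol_J : ∀ v ∈ J, orderOf v = 2
  invol_Y : ∀ y ∈ Y, orderOf y = 2
  conj_J : ∀ v ∈ J, ∀ g : G, g * v * g⁻¹ ∈ J
  odd_fix : ∀ y ∈ Y, Odd (Nat.card {u : G // u ∈ J ∧ Commute u y})
  trans_fix : ∀ y ∈ Y, ∀ u ∈ J, ∀ v ∈ J, Commute u y → Commute v y →
    ∃ g : G, Commute g y ∧ g * u * g⁻¹ = v
  comm_of_fix : ∀ y ∈ Y, ∀ u ∈ J, ∀ v ∈ J, Commute u y → Commute v y → Commute u v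
  mul_mem : ∀ u ∈ J, ∀ v ∈ J, u ≠ v → Commute u v → u * v ∈ J
  mul_mem_Y : ∀ y ∈ Y, ∀ u ∈ J, Commute u y → y * u ∈ Y
  lemma_w : ∀ v ∈ J, ∀ y ∈ Y, ∀ e ∈ J, ∀ (w : G) (p a : ℕ), p.Prime → Odd p → w ≠ 1 →
    orderOf w = p ^ a → v * w * v⁻¹ = w⁻¹ → Commute w y → Commute e y → Commute e w →
    v * y * v⁻¹ = y * e → (∃ e' ∈ J, e' ≠ e ∧ Commute e' y) → False

namespace SigmaData

variable {J Y : Set G} (h : SigmaData J Y)
include h

/-- The members of `J` commuting with `y * u` are those commuting with `y`. -/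
theorem commute_mul_iff {y u t : G} (hy : y ∈ Y) (hu : u ∈ J) (huy : Commute u y) (ht : t ∈ J) :
    Commute t (y * u) ↔ Commute t y := by
  constructor
  · intro htc
    have htu : Commute t u := h.comm_of_fix _ (h.mul_mem_Y y hy u hu huy) t ht u hu htc
      (huy.mul_right (Commute.refl u))
    have := htc.mul_right htu
    rwa [mul_assoc, invol_mul_self (h.invol_J u hu), mul_one] at this
  · exact fun htc => htc.mul_right (h.comm_of_fix y hy t ht u hu htc huy)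

/-- **SIGMA.** -/
theorem sigma [Finite G] {v y : G} (hv : v ∈ J) (hy : y ∈ Y) (hvc : Commute v (y * v * y⁻¹))
    {u : G} (hu : u ∈ J) (huy : Commute u y) : Commute v u := by
  classical
  haveI : Fact (Nat.Prime 2) := ⟨Nat.prime_two⟩
  by_cases hvy : Commute v y
  · exact h.comm_of_fix y hy v hv u hu hvy huy
  have hyi := invol_inv (h.invol_Y y hy)
  have hyy := invol_mul_self (h.invol_Y y hy)
  have hvv := invol_mul_self (h.invol_J v hv)
  have hvi := invol_inv (h.invol_J v hv)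
  -- `e = v v^y`
  set e := v * (y * v * y⁻¹) with he
  have heJ : e ∈ J := h.mul_mem v hv _ (h.conj_J v hv y)
    (fun hh => hvy (show v * y = y * v by conv_lhs => rw [hh, inv_mul_cancel_right])) hvc
  have hey : Commute e y := by
    show e * y = y * e
    rw [he, hvc.eq, hyi]
    calc y * v * y * v * y = y * (v * (y * v * y)) := by simp only [mul_assoc]
      _ = y * (y * v * y * v) := by
        have h1 := hvc.eq
        rw [hyi] at h1
        rw [h1]
  -- the coset `y E`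
  let Z : Set G := {t | t = y ∨ ∃ s ∈ J, Commute s y ∧ t = y * s}
  have hZy : y ∈ Z := Or.inl rfl
  have hZY : ∀ t ∈ Z, t ∈ Y := by
    rintro t (rfl | ⟨s, hs, hsy, rfl⟩)
    · exact hy
    · exact h.mul_mem_Y y hy s hs hsy
  have hfix : ∀ t ∈ Z, ∀ s ∈ J, (Commute s t ↔ Commute s y) := by
    rintro t (rfl | ⟨q, hq, hqy, rfl⟩) s hs
    · rfl
    · exact h.commute_mul_iff hy hq hqy hs
  have hZmul : ∀ t ∈ Z, ∀ s ∈ J, Commute s y → t * s ∈ Z := by
    rintro t (rfl | ⟨q, hq, hqy, rfl⟩) s hs hsy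
    · exact Or.inr ⟨s, hs, hsy, rfl⟩
    · rcases eq_or_ne q s with rfl | hne
      · exact Or.inl (by rw [mul_assoc, invol_mul_self (h.invol_J q hq), mul_one])
      · exact Or.inr ⟨q * s, h.mul_mem q hq s hs hne (h.comm_of_fix y hy q hq s hs hqy hsy),
          hqy.mul_left hsy, mul_assoc _ _ _⟩
  -- the elements mapping `y E` to itself
  have key : ∀ g : G, g * y * g⁻¹ ∈ Z → ∀ t ∈ Z, g * t * g⁻¹ ∈ Z := by
    rintro g hg t (rfl | ⟨s, hs, hsy, rfl⟩)
    · exact hg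
    · have h1 : Commute (g * s * g⁻¹) (g * y * g⁻¹) := Commute.map hsy (MulAut.conj g).toMonoidHom
      rw [show g * (y * s) * g⁻¹ = g * y * g⁻¹ * (g * s * g⁻¹) by group]
      exact hZmul _ hg _ (h.conj_J s hs g) ((hfix _ hg _ (h.conj_J s hs g)).1 h1)
  let N : Subgroup G :=
    { carrier := {g | g * y * g⁻¹ ∈ Z ∧ g⁻¹ * y * g⁻¹⁻¹ ∈ Z}
      one_mem' := ⟨by simpa using hZy, by simpa using hZy⟩
      mul_mem' := fun {a b} ha hb => ⟨by
          rw [show a * b * y * (a * b)⁻¹ = a * (b * y * b⁻¹) * a⁻¹ by group]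
          exact key a ha.1 _ hb.1, by
          rw [show (a * b)⁻¹ * y * (a * b)⁻¹⁻¹ = b⁻¹ * (a⁻¹ * y * a⁻¹⁻¹) * b⁻¹⁻¹ by group]
          exact key b⁻¹ hb.2 _ ha.2⟩
      inv_mem' := fun {a} ha => ⟨ha.2, by rw [inv_inv]; exact ha.1⟩ }
  have hvy' : v * y * v⁻¹ = y * e := by
    rw [he, hvc.eq, hyi, hvi]
    simp only [← mul_assoc, hyy, one_mul]
  have hvN : v ∈ N := by
    have h1 : v * y * v⁻¹ ∈ Z := Or.inr ⟨e, heJ, hey, hvy'⟩
    exact ⟨h1, by rw [hvi]; exact h1⟩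
  have hNT : ∀ g ∈ N, ∀ s : G, s ∈ J ∧ Commute s y → g * s * g⁻¹ ∈ J ∧ Commute (g * s * g⁻¹) y :=
    fun g hg s hs => ⟨h.conj_J s hs.1 g, (hfix _ hg.1 _ (h.conj_J s hs.1 g)).1
      (Commute.map hs.2 (MulAut.conj g).toMonoidHom)⟩
  let T := {s : G // s ∈ J ∧ Commute s y}
  letI : MulAction N T :=
    { smul := fun g s => ⟨(g : G) * s.1 * (g : G)⁻¹, hNT g g.2 s.1 s.2⟩
      one_smul := fun s => Subtype.ext (show ((1 : N) : G) * s.1 * ((1 : N) : G)⁻¹ = s.1 by simp)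
      mul_smul := fun a b s => Subtype.ext (show ((a * b : N) : G) * s.1 * ((a * b : N) : G)⁻¹ =
        (a : G) * ((b : G) * s.1 * (b : G)⁻¹) * (a : G)⁻¹ by simp [mul_assoc]) }
  have htrans : ∀ s t : T, ∃ g : N, g • s = t := by
    intro s t
    obtain ⟨g, hgy, hg⟩ := h.trans_fix y hy s.1 s.2.1 t.1 t.2.1 s.2.2 t.2.2
    refine ⟨⟨g, ?_, ?_⟩, Subtype.ext hg⟩
    · rw [hgy.eq, mul_inv_cancel_right]; exact hZy
    · rw [inv_inv, mul_assoc, ← hgy.eq, inv_mul_cancel_left]; exact hZy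
  set ρ := MulAction.toPermHom N T with hρ
  suffices hmain : ρ ⟨v, hvN⟩ = 1 by
    have := congrArg Subtype.val (Equiv.congr_fun hmain ⟨u, hu, huy⟩)
    exact mul_inv_eq_iff_eq_mul.1 (show v * u * v⁻¹ = u from this)
  by_contra hne
  set vb : ρ.range := ⟨ρ ⟨v, hvN⟩, ⟨_, rfl⟩⟩ with hvb
  have hvbo : orderOf vb = 2 := by
    rw [invol_iff]
    refine ⟨Subtype.ext ?_, fun hh => hne (congrArg Subtype.val hh)⟩
    show ρ ⟨v, hvN⟩ * ρ ⟨v, hvN⟩ = 1
    rw [← map_mul, show (⟨v, hvN⟩ : N) * ⟨v, hvN⟩ = 1 from Subtype.ext hvv, map_one]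
  by_cases hall : ∀ g : ρ.range, ∃ k : ℕ, (vb * (g * vb * g⁻¹)) ^ 2 ^ k = 1
  · obtain ⟨K, hK, hK2, hvK⟩ := exists_normal_pGroup_mem (p := 2) (x := vb) fun g => by
      obtain ⟨k, hk⟩ := hall g
      obtain ⟨s, -, hs⟩ := (Nat.dvd_prime_pow Nat.prime_two).1 (orderOf_dvd_of_pow_eq_one hk)
      exact two_group_of_pair hvbo (invol_conj hvbo g) hs
    obtain ⟨t0, ht0⟩ := hK2.nonempty_fixed_point_of_prime_not_dvd_card T
      (fun hh => Nat.not_even_iff_odd.2 (h.odd_fix y hy) (even_iff_two_dvd.2 hh))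
    refine hne (Equiv.ext fun t => ?_)
    obtain ⟨g, rfl⟩ := htrans t0 t
    set gb : ρ.range := ⟨ρ g, ⟨_, rfl⟩⟩
    have h1 := hK.conj_mem vb hvK gb⁻¹
    rw [inv_inv] at h1
    have h2 := ht0 ⟨gb⁻¹ * vb * gb, h1⟩
    have h3 : ρ g⁻¹ (ρ ⟨v, hvN⟩ (ρ g t0)) = t0 := by
      rw [map_inv]; exact h2
    show ρ ⟨v, hvN⟩ (ρ g t0) = ρ g t0
    have h4 := congrArg (ρ g) h3
    rwa [map_inv, Equiv.Perm.inv_def, Equiv.apply_symm_apply] at h4
  push Not at hall
  obtain ⟨⟨_, g, rfl⟩, hg⟩ := hall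
  -- an element of odd prime power order inverted by `v`
  set r : N := ⟨v, hvN⟩ * (g * ⟨v, hvN⟩ * g⁻¹) with hr
  have hrk : ∀ k : ℕ, ρ r ^ 2 ^ k ≠ 1 := by
    intro k hk
    refine hg k (Subtype.ext ?_)
    rw [hr, map_mul, map_mul, map_mul, map_inv] at hk
    exact hk
  obtain ⟨p, hp, hp2, hpd⟩ : ∃ p : ℕ, p.Prime ∧ p ≠ 2 ∧ p ∣ orderOf (ρ r) := by
    by_contra hh
    push Not at hh
    have hn : orderOf (ρ r) ≠ 0 := (orderOf_pos (ρ r)).ne'
    obtain ⟨k, hk⟩ : ∃ k : ℕ, orderOf (ρ r) = 2 ^ k :=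
      ⟨_, Nat.eq_prime_pow_of_unique_prime_dvd hn fun {d} hd hdd => by
        by_contra hd2; exact hh d hd hd2 hdd⟩
    exact hrk k (hk ▸ pow_orderOf_eq_one (ρ r))
  haveI : Fact p.Prime := ⟨hp⟩
  have hn : orderOf r ≠ 0 := (orderOf_pos r).ne'
  set c := orderOf r / p ^ (orderOf r).factorization p with hc
  set w : N := r ^ c with hw
  have hwo : orderOf w = p ^ (orderOf r).factorization p := by
    have hcd : c ∣ orderOf r := Nat.div_dvd_of_dvd (Nat.ordProj_dvd _ _)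
    rw [hw, orderOf_pow_of_dvd (Nat.div_pos (Nat.le_of_dvd (Nat.pos_of_ne_zero hn)
      (Nat.ordProj_dvd _ _)) (pow_pos hp.pos _)).ne' hcd,
      Nat.div_div_self (Nat.ordProj_dvd _ _) hn]
  have hρw : ρ w ≠ 1 := by
    intro hh
    rw [hw, map_pow] at hh
    exact Nat.not_dvd_ordCompl hp hn (hpd.trans (orderOf_dvd_of_pow_eq_one hh))
  have hw1 : (w : G) ≠ 1 := fun hh => hρw (by rw [show w = 1 from Subtype.ext hh, map_one])
  have hinv : v * (w : G) * v⁻¹ = (w : G)⁻¹ := by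
    rw [hw, SubmonoidClass.coe_pow, ← conj_pow, ← inv_pow]
    congr 1
    have hgv := invol_inv (invol_conj (h.invol_J v hv) (g : G))
    rw [hr]
    show v * (v * ((g : G) * v * (g : G)⁻¹)) * v⁻¹ = (v * ((g : G) * v * (g : G)⁻¹))⁻¹
    rw [mul_inv_rev v, hgv, hvi, ← mul_assoc v v, hvv, one_mul]
  -- a member of `y E` fixed by `w`
  let E : Subgroup G :=
    { carrier := {s | (s ∈ J ∧ Commute s y) ∨ s = 1}
      one_mem' := Or.inr rfl
      inv_mem' := by
        rintro s (⟨hs, hsy⟩ | rfl)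
        · rw [invol_inv (h.invol_J s hs)]; exact Or.inl ⟨hs, hsy⟩
        · exact Or.inr inv_one
      mul_mem' := by
        rintro s t (⟨hs, hsy⟩ | rfl) (⟨ht, hty⟩ | rfl)
        · rcases eq_or_ne s t with rfl | hne
          · exact Or.inr (invol_mul_self (h.invol_J s hs))
          · exact Or.inl ⟨h.mul_mem s hs t ht hne (h.comm_of_fix y hy s hs t ht hsy hty),
              hsy.mul_left hty⟩
        · rw [mul_one]; exact Or.inl ⟨hs, hsy⟩
        · rw [one_mul]; exact Or.inl ⟨ht, hty⟩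
        · exact Or.inr (one_mul 1) }
  have hE2 : IsPGroup 2 E := by
    rintro ⟨s, hs⟩
    refine ⟨1, Subtype.ext ?_⟩
    rcases hs with ⟨hs, -⟩ | rfl
    · show s ^ 2 ^ 1 = 1
      rw [pow_one, pow_two, invol_mul_self (h.invol_J s hs)]
    · show (1 : G) ^ 2 ^ 1 = 1
      rw [one_pow]
  have hcard : Nat.card E = Nat.card Z := by
    refine Nat.card_eq_of_bijective (fun s : E => (⟨y * s.1, by
      rcases s.2 with ⟨hs, hsy⟩ | hs
      · exact Or.inr ⟨s.1, hs, hsy, rfl⟩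
      · exact Or.inl (by rw [hs, mul_one])⟩ : Z)) ⟨fun a b hab => ?_, fun t => ?_⟩
    · exact Subtype.ext (mul_left_cancel (congrArg Subtype.val hab))
    · rcases t.2 with ht | ⟨s, hs, hsy, ht⟩
      · exact ⟨1, Subtype.ext (by simp [ht])⟩
      · exact ⟨⟨s, Or.inl ⟨hs, hsy⟩⟩, Subtype.ext ht.symm⟩
  letI : MulAction N Z :=
    { smul := fun g t => ⟨(g : G) * t.1 * (g : G)⁻¹, key g g.2.1 t.1 t.2⟩
      one_smul := fun t => Subtype.ext (show ((1 : N) : G) * t.1 * ((1 : N) : G)⁻¹ = t.1 by simp)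
      mul_smul := fun a b t => Subtype.ext (show ((a * b : N) : G) * t.1 * ((a * b : N) : G)⁻¹ =
        (a : G) * ((b : G) * t.1 * (b : G)⁻¹) * (a : G)⁻¹ by simp [mul_assoc]) }
  obtain ⟨⟨t, htZ⟩, ht⟩ := (IsPGroup.of_card (n := (orderOf r).factorization p)
      (by rw [Nat.card_zpowers, hwo]) : IsPGroup p (Subgroup.zpowers w)
      ).nonempty_fixed_point_of_prime_not_dvd_card Z fun hh => by
    obtain ⟨n, hn2⟩ := IsPGroup.iff_card.1 hE2
    rw [← hcard, hn2] at hh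
    exact hp2 ((Nat.prime_dvd_prime_iff_eq hp Nat.prime_two).1 (hp.dvd_of_dvd_pow hh))
  have hwt : Commute (w : G) t :=
    mul_inv_eq_iff_eq_mul.1 (congrArg Subtype.val (ht ⟨w, Subgroup.mem_zpowers w⟩))
  -- apply lemma W
  have htY := hZY t htZ
  by_cases hvt : Commute v t
  · exact hvy ((hfix t htZ v hv).1 hvt)
  set e' := t⁻¹ * (v * t * v⁻¹) with he'
  have he'J : e' ∈ J ∧ Commute e' y := by
    have h1 : v * t * v⁻¹ ∈ Z := key v hvN.1 t htZ
    have h0 : e' ≠ 1 := fun hh => hvt (mul_inv_eq_iff_eq_mul.1 (inv_mul_eq_one.1 hh).symm)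
    have hsub : ∀ q ∈ Z, y⁻¹ * q ∈ E := by
      rintro q (rfl | ⟨s, hs, hsy, rfl⟩)
      · rw [inv_mul_cancel]; exact E.one_mem
      · rw [inv_mul_cancel_left]; exact Or.inl ⟨hs, hsy⟩
    have h2 : e' ∈ E := by
      have := E.mul_mem (E.inv_mem (hsub t htZ)) (hsub _ h1)
      rwa [show (y⁻¹ * t)⁻¹ * (y⁻¹ * (v * t * v⁻¹)) = e' by rw [he']; group] at this
    exact h2.resolve_right h0
  refine h.lemma_w v hv t htY e' he'J.1 w p _ hp (hp.odd_of_ne_two hp2) hw1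
    (by rw [Subgroup.orderOf_coe, hwo]) hinv hwt ((hfix t htZ e' he'J.1).2 he'J.2) ?_
    (by rw [he']; group) ?_
  swap
  · by_contra hone
    push Not at hone
    refine hρw (Equiv.ext fun q => Subtype.ext ?_)
    have h1 : ∀ q : T, q.1 = e' := fun q => by
      by_contra hq
      exact hone q.1 q.2.1 hq ((hfix t htZ q.1 q.2.1).2 q.2.2)
    rw [h1, h1]
  have h3 : Commute (w : G) (v * t * v⁻¹) := by
    have := Commute.map hwt.inv_left (MulAut.conj v).toMonoidHom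
    simp only [MulEquiv.coe_toMonoidHom, MulAut.conj_apply] at this
    rwa [show v * (w : G)⁻¹ * v⁻¹ = (v * (w : G) * v⁻¹)⁻¹ by group, hinv, inv_inv] at this
  exact (hwt.inv_right.mul_right h3).symm

omit h in
/-- SIGMA gives the hypotheses of the pure chain. -/
theorem pureData [Finite G] (h : SigmaData J Y) (hY : ∀ y ∈ Y, ∀ g : G, g * y * g⁻¹ ∈ Y)
    (htwo : ∀ v ∈ J, ∀ y ∈ Y, ∃ k : ℕ, (v * y) ^ 2 ^ k = 1) : PureData J Y where
  invol_J := h.invol_J
  invol_Y := h.invol_Y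
  conj_J := h.conj_J
  conj_Y := hY
  two_elem := htwo
  comm_of_fix := h.comm_of_fix
  sigma := fun _ hv _ hy hvc _ hu huy => h.sigma hv hy hvc hu huy

end SigmaData

end CfsgLib.SECrit
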